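import Cfsg.Agent.H26.NA
import Cfsg.Agent.H9.N3
/-! `asm : H26.ANF → H26.ASM`: the small case `B(S) = D₈ × D` of the frame construction (notes/helper26_N4a.md). -/
set_option autoImplicit false
open Cfsg H18 Subgroup
open scoped commutatorElement

namespace H21
universe u
variable {G : Type u} [Group G] [Finite G] {U W : Subgroup G} {g : G}

theorem th_irr (f : H26.Four W) (h : H118.Th W g) (hU : U ≤ W) (hn : g ∈ N(U)) : U = ⊥ ∨ U = W := by
  rcases f.card_cases hU with e | e | e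
  · exact .inl e
  · obtain ⟨x, hx, x1⟩ := H26.exists_ne_one_of_card (U := U) (by rw [e]; norm_num)
    exact (x1 (h.fix f (hU hx) (mem_C.1 (H26.normalizer_le_c_of_card_two e hn) x hx).symm)).elim
  · exact .inr e

theorem asm (anf : H26.ANF.{u}) : H26.ASM.{u} := fun G _ _ S W₁ W₂ D g hG hr hc hS bk dd hA => by
  have := hG.simple
  have hS' : Hall {2} S ⊤ := hall_sylow_top Nat.prime_two hS.toSylow
  have r : 2 < prank 2 S := by
    rw [prank_sylow Nat.prime_two hS']; exact not_le.1 (mt (prank_top_le_iff Nat.prime_two).1 hr)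
  have nB : S ≤ N(H26.bm S) := le_N.trans (H26.n_bm S)
  have nZ : S ≤ N(H26.oz (thompsonSubgroupOf 2 S)) := le_N.trans (H26.n_ozj S)
  have BS : H26.bm S ≤ S := H26.bm_le S
  have nY : S ≤ N(W₁ ⊓ W₂) := nB.trans dd.nZ
  have cY : S ≤ C(W₁ ⊓ W₂) := nY.trans (H26.normalizer_le_c_of_card_two dd.inf)
  have Y1 : W₁ ⊓ W₂ ≠ ⊥ := fun e => by simpa [e] using dd.inf
  have n12 : ¬ W₁ ≤ W₂ := fun e => dd.nc (e.trans dd.four'.le_c)
  have eZ : H26.oz (thompsonSubgroupOf 2 S) = W₁ ⊓ W₂ ⊔ D := by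
    refine le_antisymm (le_trans (le_inf ((H26.omegaOne_le _ _).trans (inf_le_left.trans (H26.j_le_bm S)))
      (cent_symm inf_le_right)) dd.Z_le) (H26.le_omegaOne (fun a ha => ?_) fun a ha => ?_)
    · rw [sq]; exact dd.sqA a (sup_le_sup_right inf_le_left D ha)
    · have c : a ∈ C(thompsonSubgroupOf 2 S) := C_anti (H26.j_le_bm S)
        (sup_le (cent_symm (BS.trans cY)) dd.cen ha)
      exact ⟨H4.mem_thompsonOf_of_centralizes (BS (dd.leA (sup_le_sup_right inf_le_left D ha))) c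
        (by rw [sq]; exact dd.sqA a (sup_le_sup_right inf_le_left D ha)), c⟩
  have eB : S ⊓ C(D) ≤ H26.bm S := le_inf inf_le_left (by
    rw [eZ, C_sup]; exact le_inf (inf_le_left.trans cY) inf_le_right)
  have cD : D ≠ ⊥ → Nat.card D = 2 := fun e => by have := one_lt_card e; have := dd.card; omega
  rcases BS.eq_or_lt with e | lt
  · rw [e] at dd
    by_cases D1 : D = ⊥
    · obtain ⟨E, hE⟩ := exists_pelem_of_lt Nat.prime_two r
      have c := hE.card
      rcases dd.le_or hE.le (fun _ => hE.elem.sq) with f | f <;> have := card_le f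
      · rw [dd.cardA, D1, card_bot] at this; omega
      · rw [dd.symm.cardA, D1, card_bot] at this; omega
    obtain ⟨d, hd, d1⟩ := exists_mem_ne_one' D1
    have eD : zpowers d = D := eq_of_card_eq (zpowers_le.2 hd) (by
      rw [cD D1, card_zpowers', H9.ord2.2 ⟨dd.sqD hd, d1⟩])
    have dM : d ∉ W₁ ⊔ W₂ := fun f => d1 (mem_bot.1 (dd.disj.le ⟨f, hd⟩))
    have i2 := GT.relIndex_sup2 (norm_sup dd.nw dd.nw' (dd.leD hd)) (by rw [dd.sqD hd]; exact one_mem _) dM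
    rw [eD, dd.sup] at i2
    obtain ⟨t, h1, h2⟩ := H26.thompson_two (by simpa using hS.not_dvd_relIndex) i2 (by rw [sq, dd.sqD hd])
      (((norm_top_iff.1 (H26.le_normalizer_pResidualOf 2 ⊤)).eq_bot_or_eq_top.resolve_left fun e => by
        have := ((H26.pResidualOf_eq_bot_iff.1 e).of_equiv topEquiv).isNilpotent
        exact hG.nc ⟨⟨IsSimpleGroup.comm_iff_isSolvable.2 inferInstance⟩⟩).ge (mem_top d)) hS.isP (dd.leD hd) (dd.cen hd)
    have ht : t ∈ N(S) := mem_N_iff_cj.2 (eq_of_card_eq h2 card_cj)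
    have z := dd.Z_le ⟨conj_mem_N ht (dd.leD hd), conj_mem_N (N_le_N_C ht) (dd.cen hd)⟩
    rw [← eD] at z
    rcases (GT.mem_sup2 (nY (dd.leD hd)) (by rw [dd.sqD hd]; exact one_mem _)).1 z with f | f
    · exact dM (mem_sup_left (by simpa [mul_assoc] using conj_mem_N' (dd.nZ ht) f : d ∈ W₁ ∧ d ∈ W₂).1)
    · exact dM ((mul_mem_cancel_left h1).1 (mem_sup_left f.1))
  have D1 : D ≠ ⊥ := fun e => lt.not_ge ((le_inf le_rfl (by rw [e, C_bot]; exact le_top)).trans eB)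
  refine dd.endgame hG.nc hS' r lt (fun s hs => by_contra fun sB => ?_) fun _ =>
    (inf_le_inf_left S (H26.normalizer_le_c_of_card_two (cD D1))).trans eB
  have f4 : H26.Four (W₁ ⊓ W₂ ⊔ D) := ⟨by
    rw [Nrm2.card_sup_of_disj (.inr (dd.leD.trans (le_N.trans dd.nZ))) (eq_bot_iff.2
      ((inf_le_inf_right D (inf_le_left.trans le_sup_left)).trans dd.disj.le)), dd.inf, cD D1],
    fun a ha => dd.sqA a (sup_le_sup_right inf_le_left D ha)⟩
  rw [eZ] at nZ
  have i2 : (H26.bm S).relIndex S = 2 := by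
    rw [H26.bm, inf_comm, inf_relIndex_right, eZ]
    exact f4.relIndex_two hS.isP nZ fun e => lt.not_ge (le_inf le_rfl (eZ ▸ e))
  have nA : S ≤ N(W₁ ⊔ D) := H9.le_of_two i2 dd.nA hs.1 sB hs.2
  have gA : g ∈ N(W₁ ⊔ D) := hA ▸ bk.nQ
  have pA : PiGrp {2} (W₁ ⊔ D) := hS'.pi.of_le (dd.leA.trans BS)
  have A1 : W₁ ⊔ D ≠ ⊥ := fun e => D1 (eq_bot_iff.2 (le_sup_right.trans e.le))
  have nW : S ≤ N(W₁) := by
    have h1 := anf G _ _ W₁ (W₁ ⊔ D) _ g hc (fun _ => hG.two) (H26.bau_bm hS) (bk.conj (nB hs.1)) bk pA.isPGroup A1 dd.nA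
      (mul_mem (mul_mem hs.2 gA) (inv_mem hs.2)) gA
    have h2 := (th_irr bk.four bk.th inf_le_left (norm_inf (zpowers_le.2 bk.th.n) (zpowers_le.2 h1)
      (mem_zpowers g))).resolve_left fun e => Y1 (eq_bot_iff.2 ((le_inf inf_le_left
        ((cj_eq_self (nY hs.1)).ge.trans (cj_mono inf_le_left))).trans e.le))
    exact H9.le_of_two i2 dd.nw hs.1 sB (mem_N_iff_cj.2 (eq_of_card_eq (inf_eq_left.1 h2) card_cj.symm).symm)
  have nK : ∀ X : Subgroup G, X ≤ N(W₁) → X ≤ N(W₁ ⊔ D) → X ≤ N(C(W₁) ⊓ N(W₁ ⊔ D)) := fun X h1 h2 =>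
    norm_inf (norm_C h1) (h2.trans le_N)
  have iA : W₁.relIndex (W₁ ⊔ D) = 2 := relIndex_eq_of_mul le_sup_left (by rw [dd.cardA, cD D1, bk.four.card])
  have pK : IsPGroup 2 ↥(C(W₁) ⊓ N(W₁ ⊔ D)) := H26.pResidualOf_eq_bot_iff.1 (eq_bot_iff.2 (H26.pResidualOf_le_iff.2
    fun x hx ho => ?_))
  · have KS := hS.le_of_le_normalizer pK le_top (nK S nW nA)
    have c1 : ⁅W₁ ⊔ D, C(W₁) ⊓ N(W₁ ⊔ D)⁆ ≤ W₁ ⊓ W₂ := commutator_le.2 fun a ha k hk => by
      obtain ⟨v, hv, d, hd, rfl⟩ := dd.memA.1 ha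
      have := f4.commutator_le_of_card le_sup_left dd.inf nZ nY (commutator_mem_commutator (mem_sup_right hd) (KS hk))
      rw [show ⁅v * d, k⁆ = v * ⁅d, k⁆ * v⁻¹ * ⁅v, k⁆ by simp [commutatorElement_def, mul_assoc],
        commutatorElement_eq_one_iff_mul_comm.2 (mem_C.1 hk.1 v hv), mul_one]
      exact conj_mem_N (nY (BS (dd.leW hv))) this
    have c2 := (th_irr bk.four bk.th (c1.trans inf_le_left) (norm_comm (zpowers_le.2 gA) (nK _ (zpowers_le.2 bk.th.n)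
      (zpowers_le.2 gA)) (mem_zpowers g))).resolve_right fun e => n12 (e.ge.trans (c1.trans inf_le_right))
    have KB : S ⊓ C(W₁) ≤ H26.bm S := (le_inf inf_le_left ((inf_le_inf_right _ nA).trans ((inf_comm _ _).le.trans
      ((cent_symm (comm_eq_bot_iff.1 c2)).trans (C_anti le_sup_right))))).trans eB
    obtain ⟨b, hb, b1⟩ := SetLike.not_le_iff_exists.1 dd.symm.nc
    have bB := dd.symm.leW hb
    by_cases e : s ∈ C(W₁)
    · exact sB (KB ⟨hs.1, e⟩)
    · exact sB ((mul_mem_cancel_right bB).1 (KB ⟨mul_mem hs.1 (BS bB), bk.four.two_of_isP hS.isP nW s hs.1 b (BS bB) e b1⟩))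
  have ho' : Odd (orderOf x) := Nat.coprime_two_right.1 ho
  have xA : x ∈ C(W₁ ⊔ D) := cent_symm (H1.cent_of_comm_le (H22.comm_le_of_relIndex_two iA (zpowers_le.2 hx.2)
    (zpowers_le.2 (C_le_N hx.1))) (cent_symm (zpowers_le.2 hx.1)) (by
      rw [card_zpowers', bk.four.card]; exact ho.pow_right 2)) (mem_zpowers x)
  have ch := hc _ le_top pA.isPGroup A1
  rw [top_inf_eq] at ch
  have OS : pCoreOf 2 N(W₁ ⊔ D) ≤ S := (hS.mono nA le_top).pCoreOf_le
  have xO := GT.cent_of_self (GT.pg (H26.isPGroup_pCoreOf 2 _)) ho' (H26.le_normalizer_pCoreOf 2 _ hx.2)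
    (H26.le_pCoreOf pA.isPGroup le_N le_rfl) xA ((le_inf ((inf_le_inf OS (C_anti le_sup_right)).trans eB)
      (inf_le_right.trans (C_anti le_sup_left))).trans hA.le)
  exact H26.eq_one_of_mem_isPGroup (H26.isPGroup_pCoreOf 2 _) (ch ⟨hx.2, xO⟩) ho

end H21
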