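import Cfsg.Agent.H21.Crit
import Cfsg.Agent.H9.SylowBasic

/-! Real elements: lifting of real elements of odd prime power order (`exists_real_lift`), a group without
nontrivial real elements of odd prime order modulo its `2`-core is `2`-closed (`two_closed_of_no_real`),
`exists_two_inverts` (a real element is inverted by a `2`-element). -/

set_option autoImplicit false
set_option linter.unusedSectionVars false

namespace H21
open Cfsg Subgroup H18 H1
universe u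

variable {G : Type u} [Group G] [Finite G] {A H K L M P T V : Subgroup G} {p q r : ℕ} {x y g t : G} {π : Set ℕ}

theorem exists_two_inverts (h : t * y * t⁻¹ = y⁻¹) : ∃ s ∈ zpowers t, PiElt {2} s ∧ s * y * s⁻¹ = y⁻¹ := by
  refine ⟨piPart {2} t, piPart_mem_zpowers, piElt_piPart, ?_⟩
  have h1 : t * t ∈ C1(y) := mem_C1.2 (mul_inv_eq_iff_eq_mul.1 (by
    calc t * t * y * (t * t)⁻¹ = t * (t * y * t⁻¹) * t⁻¹ := by group
      _ = t * y⁻¹ * t⁻¹ := by rw [h]
      _ = (t * y * t⁻¹)⁻¹ := by group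
      _ = y := by rw [h, inv_inv]))
  have h2 : piPart {2}ᶜ t ∈ C1(y) := by
    have h3 : piPart {2}ᶜ (t * t) ∈ C1(y) := piPart_mem h1
    rw [piPart_mul rfl, ← pow_two] at h3
    exact zpowers_le.2 h3 (mem_zpowers_pow_iff.2
      ((piNat_compl_iff_coprime Nat.prime_two).1 (piElt_piPart (π := {2}ᶜ) (x := t))).symm)
  rw [← h]
  conv_rhs => rw [← piPart_mul_compl (π := {2}) (x := t)]
  calc _ = piPart {2} t * (piPart {2}ᶜ t * y * (piPart {2}ᶜ t)⁻¹) * (piPart {2} t)⁻¹ := by rw [conj_eq_self_of_C1 h2]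
    _ = _ := by group

theorem exists_real_lift (hq : q.Prime) (V : Subgroup G) [V.Normal] (hV : PiGrp {q}ᶜ V) {z w : G ⧸ V}
    (hz : PiElt {q} z) (h : w * z * w⁻¹ = z⁻¹) : ∃ y t : G, (y : G ⧸ V) = z ∧ PiElt {q} y ∧ t * y * t⁻¹ = y⁻¹ := by
  obtain ⟨y, hy, rfl⟩ := exists_piElt_mk V hz
  obtain ⟨t, rfl⟩ := QuotientGroup.mk_surjective w
  have n1 : t ∈ N(V ⊔ zpowers y) := by
    have : (V ⊔ zpowers y) = (zpowers (y : G ⧸ V)).comap (QuotientGroup.mk' V) := by
      rw [← QuotientGroup.mk'_apply, ← MonoidHom.map_zpowers, comap_map_eq, QuotientGroup.ker_mk', sup_comm]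
    rw [this]
    refine mem_N_of_finite fun b hb => ?_
    rw [mem_comap, map_mul, map_mul, map_inv]
    exact conj_mem_N (mem_N_iff_cj.2 (by rw [cj_zpowers, QuotientGroup.mk'_apply, h, zpowers_inv])) hb
  obtain ⟨k, hk, n, hn, e⟩ := frattini_elt hq (hall_of_sup' hy.zpowers hV (Or.inl norm_of_normal)) n1
  obtain ⟨v, hv, c, hc, rfl⟩ := (mem_sup_of_norm' norm_of_normal).1 hk
  refine ⟨y, c * n, rfl, hy, ?_⟩
  have h1 := conj_mem_N (mul_mem (le_N hc) hn) (mem_zpowers y)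
  rw [← mul_inv_eq_one]
  refine eq_one_of_eq_bot (hV.inf_eq_bot' hy.zpowers) (mem_inf.2 ⟨?_, mul_mem h1 (inv_mem (inv_mem (mem_zpowers y)))⟩)
  rw [← QuotientGroup.eq_one_iff]
  rw [e, QuotientGroup.mk_mul, QuotientGroup.mk_mul, (QuotientGroup.eq_one_iff v).2 hv, one_mul] at h
  simp only [QuotientGroup.mk_mul, QuotientGroup.mk_inv, h, mul_inv_cancel]

theorem exists_real_of_not_mem (ht : orderOf t = 2) (h : t ∉ O[{2}]((⊤ : Subgroup G))) :
    ∃ y : G, (orderOf y).Prime ∧ orderOf y ≠ 2 ∧ t * y * t⁻¹ = y⁻¹ := by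
  obtain ⟨x, h1, h2, h3⟩ := H9.exists_odd_inverted ht fun c =>
    h (le_pcore nml_top (piGrp_of_isPGroup Nat.prime_two c) (subset_normalClosure rfl))
  obtain ⟨y, hy, h4⟩ := exists_prime_pow_elt h1
  refine ⟨y, h4, fun c => Nat.not_even_iff_odd.2 h2 (even_iff_two_dvd.2 (c ▸ orderOf_dvd_of_mem_zpowers hy)), ?_⟩
  obtain ⟨k, rfl⟩ := hy
  exact H9.conj_zpow_of_inverts h3 k

theorem two_closed_of_no_real (h : ∀ q, q.Prime → q ≠ 2 → ∀ y t : G, PiElt {q} y → t * y * t⁻¹ = y⁻¹ → y = 1) :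
    Hall {2} O[{2}]((⊤ : Subgroup G)) ⊤ := by
  set V := O[{2}]((⊤ : Subgroup G))
  haveI : V.Normal := pcore_nml.normal
  refine ⟨le_top, pcore_pi, (piNat_compl_iff Nat.prime_two).2 fun d => ?_⟩
  rw [relIndex_top_right, index_eq_card, ← card_top] at d
  obtain ⟨t, -, ht⟩ := cauchy Nat.prime_two d
  obtain ⟨z, h1, h2, h3⟩ := exists_real_of_not_mem ht (by
    rw [← mim_topq_top, ← mim_pcore le_rfl (by rw [mker_topq]; exact pcore_pi.inf_right)]
    exact fun c => H9.ne_one_of_orderOf ht (((mim_mono (mker_topq V).ge).trans mim_mker.le) c))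
  obtain ⟨y, s, e, h4, h5⟩ := exists_real_lift h1 V (pcore_pi.p'_of_ne h2.symm) (piNat_self h1) h3
  rw [h _ h1 h2 y s h4 h5] at e
  exact Nat.not_prime_one (by simpa [← e] using h1)

theorem solv_of_no_real (h : ∀ q, q.Prime → q ≠ 2 → ∀ y t : G, PiElt {q} y → t * y * t⁻¹ = y⁻¹ → y = 1) :
    Group.IsSolvable G :=
  solv_top_iff.1 (solv_of_odd_idx pcore_nml pcore_pi.solv (two_closed_of_no_real h).idx)

end H21
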