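import Cfsg.Agent.H21.Crit
import Cfsg.Agent.H7.Count

/-! Kazarin's theorem: an element `x` with a class of `p`-power size lies in `O_π(G)` for
`π = {p} ∪ π(x)` (`kazarin_pcore`), its normal closure is solvable (`kazarin`), and conjugates of `x` commute
modulo `O_p(G)` (`camina_camina`). `exists_solv_radical`: the largest normal solvable subgroup. -/

set_option autoImplicit false
set_option linter.unusedSectionVars false

namespace H21
open Cfsg Subgroup H18 H1
open scoped ComplexConjugate commutatorElement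
universe u

variable {G : Type u} [Group G] [Finite G] {A H K L M P T : Subgroup G} {p q r : ℕ} {x y g : G} {π : Set ℕ}

open H5 H7 in
theorem kazarin_top (hp : p.Prime) (hx : PiNat {p} C1(x).index) (hX : normalClosure {x} = ⊤) (hr : r.Prime)
    (hd : r ∣ Nat.card G) : r = p ∨ r ∣ orderOf x := by
  classical
  by_contra c
  push Not at c
  haveI := Fact.mk hr
  obtain ⟨M, hM⟩ := exists_isPModular r
  haveI : PM r M := ⟨hM⟩
  obtain ⟨y, -, hy⟩ := cauchy hr (H := (⊤ : Subgroup G)) (by rwa [card_top])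
  have h0 : (C1(x).index : F M) ≠ 0 := mt (natCast_F_eq_zero_iff _).1 fun d => c.1 (hx.eq_of_dvd hr d)
  have key : ∀ χ ∈ principalBlock M G, χ ≠ irrOne G → p ∣ charDegree (χ : G → ℂ) := fun χ hχ h1 => by
    by_contra d
    have e := red_centralChar_eq_of_mem isPBlock_principalBlock hχ irrOne_mem_principalBlock x
    rw [centralChar_irrOne, red_natCast] at e
    rcases χ.2.eq_zero_or_mem_charCenter_of_coprime (g := x)
      (PiNat.coprime' ((piNat_compl_iff hp).2 d) hx) with h | h
    · exact ne_zero_of_red_centralChar (M := M) (e ▸ h0) h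
    obtain ⟨l, h2, h3⟩ := exists_centerHom χ.2.apply_one_ne_zero
    have h4 : ((l ⟨x, h⟩ : ℂˣ) : ℂ) ^ orderOf x = 1 := by
      rw [← Units.val_pow_eq_pow_val, ← map_pow, show (⟨x, h⟩ : charCenter (χ : G → ℂ)) ^ orderOf x = 1 from
        Subtype.ext (pow_orderOf_eq_one x), map_one, Units.val_one]
    have h5 : centralChar (χ : G → ℂ) x = C1(x).index * (l ⟨x, h⟩ : ℂˣ) := by
      have := h2 ⟨x, h⟩ 1
      rw [mul_one] at this
      rw [centralChar, this, ← mul_assoc, mul_div_cancel_right₀ _ χ.2.apply_one_ne_zero]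
    rw [h5, red_mul (natCast_mem _ _) (mem_O_of_pow_eq_one (orderOf_pos x).ne' h4), red_natCast] at e
    have h6 := (h3 _).1 (Units.ext (eq_one_of_red_eq_one c.2 h4 (mul_left_cancel₀ h0 (e.trans (mul_one _).symm))))
    haveI := χ.2.isCharacter.normal_charKer
    exact h1 (Subtype.ext (χ.2.charKer_eq_top_iff.1 (eq_top_iff.2 (hX ▸ normalClosure_le_normal
      (Set.singleton_subset_iff.2 h6)))))
  have h1 := mu_eq_zero_of_dvd (isSat_of_isPBlock (isPBlock_principalBlock (M := M) (G := G))) (x := 1) (y := y)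
    (by rw [orderOf_one]; exact hr.not_dvd_one) hy.symm.dvd
  rw [mu, finsum_mem_irr, ← Finset.add_sum_erase _ _ (Finset.mem_univ (irrOne G)),
    if_pos irrOne_mem_principalBlock] at h1
  haveI := Fact.mk hp
  obtain ⟨M', hM'⟩ := exists_isPModular p
  haveI : PM p M' := ⟨hM'⟩
  refine one_notMem_mC (M := M') ?_
  rw [irrOne_apply, irrOne_apply, map_one, mul_one] at h1
  rw [eq_neg_of_add_eq_zero_left h1]
  refine neg_mem (sum_mem fun χ hχ => ?_)
  split_ifs with h
  · rw [← χ.2.coe_charDegree]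
    exact mul_mem_mC_right ((natCast_mem_mC_iff _).2 (key χ h (Finset.mem_erase.1 hχ).1))
      (conj_char_mem_O χ.2.isCharacter y)
  · exact zero_mem _

theorem kazarin_pcore_aux (hp : p.Prime) (hπ : p ∈ π) (n : ℕ) : ∀ {G : Type u} [Group G] [Finite G] {x : G},
    Nat.card G = n → PiNat {p} C1(x).index → PiElt π x → x ∈ O[π]((⊤ : Subgroup G)) := by
  induction n using Nat.strong_induction_on with
  | _ n ih =>
  intro G _ _ x hn hx h
  by_cases c : normalClosure {x} = ⊤
  · exact le_pcore Nml.rfl (fun r hr hd => (kazarin_top hp hx c hr (card_top (G := G) ▸ hd)).elim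
      (fun e => e ▸ hπ) (h r hr)) (mem_top x)
  set X := normalClosure ({x} : Set G)
  have xX : x ∈ X := subset_normalClosure rfl
  have := ih _ (hn ▸ card_top (G := G) ▸ card_lt (lt_top_iff_ne_top.2 c)) (x := (⟨x, xX⟩ : X)) rfl
    (hx.of_dvd (class_dvd_normal X ⟨x, xX⟩)) (by rwa [PiElt, ← Subgroup.orderOf_coe])
  rw [pcore_top] at this
  exact (nml_top (K := X)).pcore_le_pcore (mem_map_of_mem X.subtype this)

theorem kazarin_pcore (hp : p.Prime) (hπ : p ∈ π) (hx : PiNat {p} C1(x).index) (h : PiElt π x) :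
    x ∈ O[π]((⊤ : Subgroup G)) := kazarin_pcore_aux hp hπ _ rfl hx h

theorem exists_solv_radical (H : Subgroup G) : ∃ S, S ⊴ H ∧ Solv S ∧ ∀ W, W ⊴ H → Solv W → W ≤ S := by
  obtain ⟨S, -, ⟨h1, h2⟩, h3⟩ := exists_maximal_sub (A := ⊥) (fun S => S ⊴ H ∧ Solv S) ⟨Nml.bot, solv_bot⟩
  exact ⟨S, h1, h2, fun W h4 h5 => le_sup_right.trans
    (h3 _ ⟨h1.sup h4, h2.sup_norm h5 (h1.1.trans h4.2)⟩ le_sup_left).le⟩

/-- Kazarin's theorem. -/
theorem kazarin (hp : p.Prime) (hx : PiNat {p} C1(x).index) : Solv (normalClosure ({x} : Set G)) := by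
  obtain ⟨S, h1, h2, h3⟩ := exists_solv_radical (⊤ : Subgroup G)
  haveI := h1.normal
  refine h2.of_le (normalClosure_le_normal (Set.singleton_subset_iff.2 (zpowers_le.1
    (le_of_pElts fun q hq y hy h => h3 _ pcore_nml (solv_paqb hp hq pcore_pi) ?_))))
  exact kazarin_pcore hp (by simp) (hx.of_dvd (index_dvd_of_le (C1_le_of_mem_zpowers hy))) (h.of_p (by simp))

theorem cent_of_class (hx : PiNat {p} C1(x).index) (hK : ⊤ ≤ N(K)) (h : PiGrp {p}ᶜ K) : K ≤ C1(x) := by
  haveI := norm_top_iff.1 hK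
  refine h.le_of_relIndex (PiNat.compl_compl (hx.of_dvd ?_))
  rw [← relIndex_top_right]
  exact (nml_top (K := K)).relIndex_dvd' le_top

theorem abel_ncl_of_pcore (hp : p.Prime) (hx : PiNat {p} C1(x).index) (h : O[{p}]((⊤ : Subgroup G)) = ⊥) :
    Abel (normalClosure ({x} : Set G)) := by
  set X := normalClosure ({x} : Set G)
  have nF : F(X) ⊴ ⊤ := (nml_top (K := X)).fit
  have h1 : PiGrp {p}ᶜ F(X) := Hall.compl_of_eq_bot (by
    have := (fit_nil (H := X)).pcore_hall (π := {p})
    rwa [eq_bot_iff.2 (nF.pcore_le_pcore.trans h.le)] at this)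
  haveI := norm_top_iff.1 (norm_C nF.2)
  have h2 : X ≤ C(F(X)) := normalClosure_le_normal (Set.singleton_subset_iff.2
    (le_C1_iff.1 (cent_of_class hx nF.2 h1)))
  exact h2.trans (C_anti ((le_inf le_rfl h2).trans (cent_sub_Fitting (kazarin hp hx))))

theorem camina_camina (hp : p.Prime) (hx : PiNat {p} C1(x).index) :
    ⁅normalClosure ({x} : Set G), normalClosure ({x} : Set G)⁆ ≤ O[{p}]((⊤ : Subgroup G)) := by
  set W := O[{p}]((⊤ : Subgroup G))
  haveI : W.Normal := pcore_nml.normal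
  have h := abel_ncl_of_pcore (x := (x : G ⧸ W)) hp (hx.of_dvd (class_dvd_quot W x)) (by
    rw [← mim_topq_top, ← mim_pcore le_rfl (by rw [mker_topq]; exact pcore_pi.inf_right)]
    exact eq_bot_iff.2 ((mim_mono (mker_topq W).ge).trans mim_mker.le))
  refine ((comm_le_mker_iff (f := topq W) le_top le_top).2 (h.mono ?_)).trans (mker_topq W).le
  rw [mim_topq, map_le_iff_le_comap]
  exact normalClosure_le_normal (Set.singleton_subset_iff.2 (subset_normalClosure rfl))

end H21
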