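import Cfsg.Agent.H21.PrimPair
import Cfsg.Agent.H4.PSol2

/-! `p`-length in the `H18` vocabulary: `rad π V H` (preimage of `O_π(H/V)`), `PLR p H k V` (`H/V` has
`p`-length at most `k`) with closure lemmas and the bridge `plr_top_iff`/`plr_iff` to `PLengthLE`; the ambient
derived series `dser`; `PSol` in the `H18` vocabulary with Hall–Higman 1.2.3 (`PSol.chP`, `PSol.cent_p'core`). -/

set_option autoImplicit false

namespace H21
open Subgroup Cfsg H18 H1
open scoped commutatorElement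

variable {G : Type*} [Group G] {G' : Type*} [Group G'] {A B C D H K L M P Q R S U V W X Y : Subgroup G}
  {p q n k a b : ℕ} {π : Set ℕ} {x y g : G}

/-- ambient derived series -/
def dser (H : Subgroup G) : ℕ → Subgroup G
  | 0 => H
  | n + 1 => ⁅dser H n, dser H n⁆

@[simp] theorem dser_zero : dser H 0 = H := rfl
theorem dser_succ : dser H (n + 1) = ⁅dser H n, dser H n⁆ := rfl

theorem dser_le : dser H n ≤ H := by
  induction n with
  | zero => exact le_rfl
  | succ n ih => exact der_le.trans ih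

theorem dser_mono (h : A ≤ B) : dser A n ≤ dser B n := by
  induction n with
  | zero => exact h
  | succ n ih => exact der_mono ih

theorem dser_add : dser H (a + b) = dser (dser H a) b := by
  induction b with
  | zero => rfl
  | succ b ih => rw [← Nat.add_assoc, dser_succ, ih]; rfl

theorem dser_anti (h : a ≤ b) : dser H b ≤ dser H a := by
  obtain ⟨c, rfl⟩ := Nat.exists_eq_add_of_le h
  rw [dser_add]; exact dser_le

theorem norm_dser (h : A ≤ N(H)) : A ≤ N(dser H n) := by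
  induction n with
  | zero => exact h
  | succ n ih => exact norm_der ih

theorem dser_nml : dser H n ⊴ H := ⟨dser_le, norm_dser le_N⟩

theorem mim_dser {f : D →* G'} (h : H ≤ D) : mim f (dser H n) = dser (mim f H) n := by
  induction n with
  | zero => rfl
  | succ n ih => rw [dser_succ, mim_comm (dser_le.trans h) (dser_le.trans h), ih]; rfl

theorem map_derivedSeries : (derivedSeries H n).map H.subtype = dser H n := by
  induction n with
  | zero => simp [← MonoidHom.range_eq_map]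
  | succ n ih => rw [derivedSeries_succ, map_commutator, ih]; rfl

theorem derivedSeries_eq_bot_iff : derivedSeries H n = ⊥ ↔ dser H n = ⊥ := by
  rw [← map_derivedSeries, map_eq_bot_iff_of_injective _ H.subtype_injective]

theorem dser_top : dser (⊤ : Subgroup G) n = derivedSeries G n := by
  induction n with
  | zero => rfl
  | succ n ih => rw [dser_succ, ih]; rfl

theorem cj_dser : cj g (dser H n) = dser (cj g H) n := by
  induction n with
  | zero => rfl
  | succ n ih => rw [dser_succ, cj_comm, ih]; rfl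

theorem dser_quo_eq_bot (h : H ≤ N(K)) : dser (H ⫽ K) n = ⊥ ↔ dser H n ≤ K := by
  rw [← mim_dser h, quo_eq_bot_iff (dser_le.trans h)]

/-- the full preimage of `O_π(H/V)` -/
noncomputable def rad (π : Set ℕ) (V H : Subgroup G) : Subgroup G := qpre V O[π](H ⫽ V)

theorem le_rad_self : V ≤ rad π V H := le_qpre

variable [Finite G]

theorem rad_nml (h : V ⊴ H) : rad π V H ⊴ H := qpre_pcore_nml h
theorem rad_idx : PiNat π (V.relIndex (rad π V H)) := qpre_pcore_idx
theorem le_rad (h : V ⊴ H) (hU : U ⊴ H) (hi : PiNat π (V.relIndex U)) : U ≤ rad π V H := le_qpre_pcore h hU hi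
theorem quo_rad : rad π V H ⫽ V = O[π](H ⫽ V) := quo_qpre

theorem norm_rad (h1 : A ≤ N(V)) (h2 : A ≤ N(H)) : A ≤ N(rad π V H) :=
  norm_mpre h1 (norm_pcore (mim_norm h2))

theorem rad_bot : rad π ⊥ H = O[π](H) := qpre_pcore Nml.bot PiGrp.bot

theorem rad_pcore {ρ : Set ℕ} : rad ρ O[π](H) H = O2[π,ρ](H) := rfl

theorem relIndex_dvd_of_norm (h : U ≤ N(V)) (hX : X ≤ U) : V.relIndex X ∣ V.relIndex U := by
  have := (nml_inf_of_norm' h).relIndex_dvd hX
  rwa [relIndex_inf_right, show (V ⊓ U).relIndex X = V.relIndex X by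
    rw [← relIndex_inf_right (A := V ⊓ U), inf_assoc, inf_eq_right.2 hX, relIndex_inf_right]] at this

theorem PiNat.idx_mono (h : PiNat π (V.relIndex U)) (hn : U ≤ N(V)) (hX : X ≤ U) : PiNat π (V.relIndex X) :=
  h.of_dvd (relIndex_dvd_of_norm hn hX)

theorem PiNat.idx_up (h : PiNat π (V.relIndex U)) (hX : V ≤ X) : PiNat π (X.relIndex U) :=
  h.of_dvd (relIndex_dvd_left hX)

theorem PiNat.idx_trans (h1 : PiNat π (V.relIndex K)) (h2 : PiNat π (K.relIndex U)) (hn : K ≤ N(V)) :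
    PiNat π (V.relIndex U) := by
  have e := relIndex_tower (A := V ⊓ (K ⊓ U)) (B := K ⊓ U) (H := U) inf_le_right inf_le_right
  rw [relIndex_inf_right, relIndex_inf_right] at e
  have : PiNat π ((V ⊓ (K ⊓ U)).relIndex U) := e ▸ (PiNat.idx_mono h1 hn inf_le_left).mul h2
  exact PiNat.idx_up this inf_le_left

theorem PiNat.idx_inf (h : PiNat π (V.relIndex U)) (hn : U ≤ N(V)) :
    PiNat π ((V ⊓ K).relIndex (U ⊓ K)) := by
  have : (V ⊓ K).relIndex (U ⊓ K) = V.relIndex (U ⊓ K) := by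
    rw [← relIndex_inf_right (A := V ⊓ K), inf_assoc, inf_eq_right.2 (inf_le_right : U ⊓ K ≤ K),
      relIndex_inf_right]
  rw [this]; exact PiNat.idx_mono h hn inf_le_left

theorem PiNat.idx_mim {f : D →* G'} (h : PiNat π (V.relIndex U)) (hU : U ≤ D) :
    PiNat π ((mim f V).relIndex (mim f U)) := by
  rw [← relIndex_inf_right] at h
  exact (h.of_dvd (relIndex_mim_dvd inf_le_right hU)).of_dvd (relIndex_dvd_left (mim_mono inf_le_left))

theorem idx_mpre {f : D →* G'} {V' U' : Subgroup G'} (hU : U' ≤ mim f D) :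
    (mpre f V').relIndex (mpre f U') = V'.relIndex U' := by
  rw [← relIndex_inf_right, ← mpre_inf, relIndex_mpre inf_le_right hU, relIndex_inf_right]

/-- `H/V` has `p`-length at most `k` -/
inductive PLR (p : ℕ) (H : Subgroup G) : ℕ → Subgroup G → Prop
  | zero {V : Subgroup G} : V ⊴ H → PiNat {p}ᶜ (V.relIndex H) → PLR p H 0 V
  | succ {k : ℕ} {V U W : Subgroup G} : V ⊴ H → U ⊴ H → PiNat {p}ᶜ (V.relIndex U) → PiNat {p} (U.relIndex W) → PLR p H k W →
      PLR p H (k + 1) V

omit [Finite G] in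
theorem PLR.nml (h : PLR p H k V) : V ⊴ H := by cases h <;> assumption

theorem PLR.up (h : PLR p H k V) (hX : X ⊴ H) (e : V ≤ X) : PLR p H k X := by
  cases h with
  | zero h1 h2 => exact .zero hX (PiNat.idx_up h2 e)
  | succ h1 h2 h3 h4 h5 => exact .succ hX h2 (PiNat.idx_up h3 e) h4 h5

omit [Finite G] in
theorem plr_self : PLR p H k H := by
  induction k with
  | zero => exact .zero Nml.rfl (by simpa using PiNat.one)
  | succ k ih => exact .succ Nml.rfl Nml.rfl (by simpa using PiNat.one) (by simpa using PiNat.one) ih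

omit [Finite G] in
theorem PLR.of_p (h : PLR p H k W) (hV : V ⊴ H) (hi : PiNat {p} (V.relIndex W)) : PLR p H (k + 1) V :=
  .succ hV hV (by simpa using PiNat.one) hi h

theorem PLR.of_p' (h : PLR p H k W) (hV : V ⊴ H) (hi : PiNat {p}ᶜ (V.relIndex W)) : PLR p H k V := by
  cases h with
  | zero h1 h2 => exact .zero hV (PiNat.idx_trans hi h2 (h1.1.trans hV.2))
  | succ h1 h2 h3 h4 h5 => exact .succ hV h2 (PiNat.idx_trans hi h3 (h1.1.trans hV.2)) h4 h5

omit [Finite G] in
theorem PLR.succ' (h : PLR p H k V) : PLR p H (k + 1) V := h.of_p h.nml (by simpa using PiNat.one)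

omit [Finite G] in
theorem PLR.mono (h : PLR p H a V) (e : a ≤ b) : PLR p H b V := by
  induction e with
  | refl => exact h
  | step _ ih => exact ih.succ'

theorem plr_zero_iff : PLR p H 0 V ↔ V ⊴ H ∧ PiNat {p}ᶜ (V.relIndex H) :=
  ⟨fun h => by cases h; exact ⟨by assumption, by assumption⟩, fun h => .zero h.1 h.2⟩

theorem PLR.canon (h : PLR p H (k + 1) V) : PLR p H k (rad {p} (rad {p}ᶜ V H) H) := by
  cases h with
  | succ h1 h2 h3 h4 h5 =>
    exact h5.up (rad_nml (rad_nml h1)) (le_rad (rad_nml h1) h5.nml (PiNat.idx_up h4 (le_rad h1 h2 h3)))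

theorem plr_succ_iff (h : V ⊴ H) : PLR p H (k + 1) V ↔ PLR p H k (rad {p} (rad {p}ᶜ V H) H) :=
  ⟨PLR.canon, fun e => .succ h (rad_nml h) rad_idx rad_idx e⟩

theorem PLR.inf (h : PLR p H k V) (hK : K ≤ H) : PLR p K k (V ⊓ K) := by
  induction h with
  | zero h1 h2 => exact .zero (h1.inf_right hK) (by rw [relIndex_inf_right]; exact PiNat.idx_mono h2 h1.2 hK)
  | succ h1 h2 h3 h4 h5 ih =>
    exact .succ (h1.inf_right hK) (h2.inf_right hK) (PiNat.idx_inf h3 (h2.1.trans h1.2))
      (PiNat.idx_inf h4 (h5.nml.1.trans h2.2)) ih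

theorem PLR.of_le (h : PLR p H k ⊥) (hK : K ≤ H) : PLR p K k ⊥ := by simpa using h.inf hK

theorem PLR.mim {f : D →* G'} (h : PLR p H k V) (hH : H ≤ D) : PLR p (mim f H) k (mim f V) := by
  induction h with
  | zero h1 h2 => exact .zero h1.mim (PiNat.idx_mim h2 hH)
  | succ h1 h2 h3 h4 h5 ih =>
    exact .succ h1.mim h2.mim (PiNat.idx_mim h3 (h2.1.trans hH)) (PiNat.idx_mim h4 (h5.nml.1.trans hH)) ih

theorem PLR.mpre {f : D →* G'} {H' V' : Subgroup G'} (h : PLR p H' k V') (hH : H' ≤ H18.mim f D) :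
    PLR p (mpre f H') k (mpre f V') := by
  induction h with
  | zero h1 h2 => exact .zero h1.mpre (by rwa [idx_mpre hH])
  | succ h1 h2 h3 h4 h5 ih =>
    exact .succ h1.mpre h2.mpre (by rwa [idx_mpre (h2.1.trans hH)])
      (by rwa [idx_mpre (h5.nml.1.trans hH)]) ih

theorem plr_quo_iff (hK : K ⊴ H) : PLR p (H ⫽ K) k ⊥ ↔ PLR p H k K :=
  ⟨fun h => by simpa [qpre_quo_nml hK] using h.mpre (f := coset K) le_quo_N,
    fun h => by simpa using h.mim (f := coset K) hK.2⟩

theorem PLR.quo (h : PLR p H k ⊥) (hK : H ≤ N(K)) : PLR p (H ⫽ K) k ⊥ := by simpa using h.mim (f := coset K) hK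

theorem PLR.inf2 (h1 : PLR p H k U) (h2 : PLR p H k V) : PLR p H k (U ⊓ V) := by
  induction k generalizing U V with
  | zero =>
    rw [plr_zero_iff] at h1 h2 ⊢
    exact ⟨h1.1.inf h2.1, PiNat.relIndex_inf h1.1.2 h1.2 h2.2⟩
  | succ k ih =>
    cases h1 with
    | succ a1 a2 a3 a4 a5 =>
      cases h2 with
      | succ b1 b2 b3 b4 b5 =>
        refine .succ (a1.inf b1) (a2.inf b2) ?_ ?_ (ih a5 b5)
        · exact PiNat.relIndex_inf (inf_le_left.trans (a2.1.trans a1.2))
            (PiNat.idx_mono a3 (a2.1.trans a1.2) inf_le_left) (PiNat.idx_mono b3 (b2.1.trans b1.2) inf_le_right)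
        · exact PiNat.relIndex_inf (inf_le_left.trans (a5.nml.1.trans a2.2))
            (PiNat.idx_mono a4 (a5.nml.1.trans a2.2) inf_le_left)
            (PiNat.idx_mono b4 (b5.nml.1.trans b2.2) inf_le_right)

theorem PLR.trans (h1 : PLR p K a V) (hV : V ⊴ H) (h2 : PLR p H b K) : PLR p H (a + b) V := by
  induction a generalizing V with
  | zero => rw [Nat.zero_add]; exact h2.of_p' hV (plr_zero_iff.1 h1).2
  | succ a ih =>
    have n1 : rad {p}ᶜ V K ⊴ H := ⟨(rad_nml h1.nml).1.trans h2.nml.1, norm_rad hV.2 h2.nml.2⟩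
    have n2 : rad {p} (rad {p}ᶜ V K) K ⊴ H :=
      ⟨(rad_nml (rad_nml h1.nml)).1.trans h2.nml.1, norm_rad n1.2 h2.nml.2⟩
    rw [Nat.add_right_comm]
    exact .succ hV n1 rad_idx rad_idx (ih h1.canon n2)

theorem plr_of_p (hV : V ⊴ H) (h : PiNat {p} (V.relIndex H)) : PLR p H 1 V := (plr_self (k := 0)).of_p hV h

theorem upper_odd [hp : Fact p.Prime] (j : ℕ) :
    (upperPSeries p G (2 * j + 1)).1 = rad {p}ᶜ (upperPSeries p G (2 * j)).1 ⊤ := by
  rw [H4.upperPSeries_odd, pPrimeCore_eq hp.out, comap_pcore]; rfl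

theorem upper_even [hp : Fact p.Prime] (j : ℕ) :
    (upperPSeries p G (2 * j + 2)).1 = rad {p} (upperPSeries p G (2 * j + 1)).1 ⊤ := by
  rw [H4.upperPSeries_even, pCore_eq hp.out, comap_pcore]; rfl

theorem plr_upper [hp : Fact p.Prime] (j : ℕ) :
    PLR p (⊤ : Subgroup G) k (upperPSeries p G (2 * j)).1 ↔ (upperPSeries p G (2 * (j + k) + 1)).1 = ⊤ := by
  induction k generalizing j with
  | zero =>
    rw [plr_zero_iff, Nat.add_zero, upper_odd]
    exact ⟨fun h => top_le_iff.1 (le_rad h.1 Nml.rfl h.2), fun h => ⟨nml_top, h ▸ rad_idx⟩⟩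
  | succ k ih =>
    rw [plr_succ_iff nml_top, ← upper_odd, ← upper_even, show j + (k + 1) = j + 1 + k by omega, ← ih]
    rfl

theorem plr_top_iff (hp : p.Prime) : PLR p (⊤ : Subgroup G) k ⊥ ↔ PLengthLE p k G := by
  have := Fact.mk hp
  have := plr_upper (G := G) (p := p) (k := k) 0
  rw [Nat.zero_add] at this
  exact this

theorem plr_iff (hp : p.Prime) : PLR p H k ⊥ ↔ PLengthLE p k H := by
  rw [← plr_top_iff hp]
  constructor
  · intro h
    simpa [mim_id] using h.mim (f := MonoidHom.id H) le_rfl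
  · intro h
    have := h.mim (f := H.subtype.comp (⊤ : Subgroup H).subtype) le_rfl
    simpa [mim_subtype, ← MonoidHom.range_eq_map] using this

/-! ### `p`-solvability -/

theorem psol_mim [Fact p.Prime] {f : D →* G'} (h : H4.PSol p H) : H4.PSol p (mim f H) :=
  ((H4.pSol_subgroupOf_iff (inf_le_right : H ⊓ D ≤ D)).2 (h.mono inf_le_left)).map f |>.mono (by
    rw [← mim_inf_dom]; exact le_rfl)

theorem psol_chP [hp : Fact p.Prime] (h : H4.PSol p H) (e : O[{p}ᶜ](H) = ⊥) : ChP p H := by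
  have h1 : H4.PSol p (⊤ : Subgroup H) := H4.pSol_top_iff.2 h
  refine (chP_iff hp.out).2 (h1.centralizer_pCore_le ?_)
  rwa [← pPrimeCore_map hp.out, map_eq_bot_iff_of_injective _ H.subtype_injective] at e

theorem psol_pcore_ne_bot [hp : Fact p.Prime] (h : H4.PSol p H) (h1 : H ≠ ⊥) (e : O[{p}ᶜ](H) = ⊥) :
    O[{p}](H) ≠ ⊥ := (psol_chP h e).pcore_ne_bot Nml.rfl h1

/-- Hall–Higman 1.2.3 modulo `V` -/
theorem psol_cent_rad [hp : Fact p.Prime] (h : H4.PSol p H) (hV : V ⊴ H) (e : rad {p}ᶜ V H ≤ V) (hA : A ≤ H)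
    (hc : ⁅A, rad {p} V H⁆ ≤ V) : A ≤ rad {p} V H := by
  have e' : O[{p}ᶜ](H ⫽ V) = ⊥ := by rw [← quo_rad]; exact quo_eq_bot e
  have c := psol_chP (psol_mim (f := coset V) h) e'
  rw [comm_le_iff_quo (hA.trans hV.2) ((rad_nml hV).1.trans hV.2), quo_rad] at hc
  exact (mim_le_iff (hA.trans hV.2)).1 (le_trans (le_inf (mim_mono hA) hc) c)

theorem rad_rad_le (hV : V ⊴ H) : rad π (rad π V H) H ≤ rad π V H :=
  le_rad hV (rad_nml (rad_nml hV)) (PiNat.idx_trans rad_idx rad_idx ((rad_nml hV).1.trans hV.2))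

/-- Hall–Higman 1.2.3 for the `p'`-core -/
theorem psol_cent_p'core [hp : Fact p.Prime] (h : H4.PSol p H) (e : O[{p}](H) = ⊥) :
    H ⊓ C(O[{p}ᶜ](H)) ≤ O[{p}ᶜ](H) := by
  set K := O[{p}ᶜ](H) with hK
  have nC : H ⊓ C(K) ⊴ H := nml_cent pcore_nml.2
  set C := H ⊓ C(K) with hC
  have eZ : O[{p}ᶜ](C) = C ⊓ K := nC.pcore_eq_inf
  by_contra hne
  set T := rad {p} O[{p}ᶜ](C) C with hT
  have nT : T ⊴ H := ⟨(rad_nml pcore_nml).1.trans nC.1, norm_rad (norm_pcore nC.2) nC.2⟩
  have TC : T ≤ C := (rad_nml pcore_nml).1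
  obtain ⟨P, hP⟩ := exists_sylow hp.out T
  have s : P ⊔ O[{p}ᶜ](C) = T := hP.sup_of_idx le_rad_self rad_idx
  have nP : T ≤ N(P) := by
    rw [← s]
    refine sup_le le_N (cent_norm (cent_symm ?_))
    exact (hP.1.trans TC).trans (inf_le_right.trans (C_anti (eZ.le.trans inf_le_right)))
  have P0 : P = ⊥ := by
    rw [← hP.eq_pcore nP]; exact le_bot_iff.1 (nT.pcore_le_pcore.trans e.le)
  rw [P0, bot_sup_eq] at s
  have := psol_cent_rad (h.mono nC.1) (pcore_nml (π := {p}ᶜ)) (A := C)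
    (by rw [← rad_bot]; exact rad_rad_le Nml.bot) le_rfl (by
      rw [← hT, ← s]; exact comm_le_right pcore_nml.2)
  rw [← hT, ← s, eZ] at this
  exact hne (this.trans inf_le_right)

theorem psol_plr [hp : Fact p.Prime] (h : H4.PSol p H) (hV : V ⊴ H) : ∃ k, PLR p H k V := by
  induction hn : V.relIndex H using Nat.strong_induction_on generalizing V with
  | _ n ih =>
    by_cases e : H ≤ V
    · exact ⟨0, plr_self.up hV e⟩
    have key : ¬ rad {p} (rad {p}ᶜ V H) H ≤ V := by
      intro c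
      have e1 : rad {p}ᶜ V H = V := le_antisymm (le_rad_self.trans c) le_rad_self
      rw [e1] at c
      exact e ((psol_cent_rad h hV e1.le le_rfl ((comm_mono le_rfl c).trans (comm_le_right hV.2))).trans c)
    have n2 := rad_nml (π := {p}) (rad_nml (π := {p}ᶜ) hV)
    obtain ⟨k, hk⟩ := ih _ (by
      rw [← hn, ← relIndex_tower (le_rad_self.trans le_rad_self) n2.1]
      exact lt_mul_left relIndex_pos (one_lt_relIndex key)) n2 rfl
    exact ⟨k + 1, (plr_succ_iff hV).2 hk⟩

end H21
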