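import Cfsg.Agent.H21.Crit

/-! `frob_norm` (a cyclic Frobenius complement has nonzero norm map on a module on which the kernel acts
nontrivially) and Kegel's theorem `kegel`: if every element of the coset `K x` has order dividing the prime `p`
then `K` is nilpotent. -/

set_option autoImplicit false
set_option linter.unusedSectionVars false

namespace H21
open Cfsg Subgroup H18 H1 H19
universe u

variable {G : Type*} [Group G] [Finite G] {K L V W : Subgroup G} {p k : ℕ} {x y : G}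

theorem sum_els_zpowers {M : Type*} [AddCommMonoid M] (f : G → M) :
    ∑ a ∈ els (zpowers x), f a = ∑ i ∈ Finset.range (orderOf x), f (x ^ i) := by
  refine (Finset.sum_bij (fun i _ => x ^ i) (fun i _ => mem_els.2 (pow_mem (mem_zpowers x) i))
    (fun i hi j hj e => pow_injOn_Iio_orderOf (by simpa using hi) (by simpa using hj) e) (fun b hb => ?_)
    fun _ _ => rfl).symm
  classical
  obtain ⟨i, hi, e⟩ := Finset.mem_image.1 (mem_zpowers_iff_mem_range_orderOf.1 (mem_els.1 hb))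
  exact ⟨i, hi, e⟩

theorem frob_norm (hk : k.Prime) (h : SD K (zpowers x) L) (hr : Semireg K (zpowers x)) (hV : Elem k V)
    (hn : L ≤ N(V)) (hK : PiGrp {k}ᶜ K) (h0 : ∀ v ∈ V, (v * x) ^ orderOf x = 1) : K ≤ C(V) := by
  have := Fact.mk hk
  let ρ := elemRep hV N(V).subtype fun g => g.2
  let τ : G → Module.End (ZMod k) (EV hV) := fun g => (mfun ρ.toHomUnits g : (Module.End (ZMod k) (EV hV))ˣ)
  have hτ : ∀ g ∈ L, ∀ v, (τ g v).val = g * v.val * g⁻¹ := fun g hg v => by
    simp only [τ, mfun_of_mem (hn hg)]; rfl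
  have hm : ∀ g ∈ L, ∀ g' ∈ L, τ (g * g') = τ g * τ g' := fun g hg g' hg' => by
    simp only [τ, mfun_mul (hn hg) (hn hg'), Units.val_mul]
  have hKL := h.le_left
  have hRL := h.le_right
  have h1 : ∑ a ∈ els (zpowers x), τ a = 0 := LinearMap.ext fun v => EV.ext (by
    have : ∀ m, ((∑ i ∈ Finset.range m, τ (x ^ i)) v).val = (v.val * x) ^ m * (x ^ m)⁻¹ := fun m => by
      induction m with
      | zero => simp
      | succ m ih =>
        rw [Finset.sum_range_succ, LinearMap.add_apply, EV.val_add, ih, hτ _ (hRL (pow_mem (mem_zpowers x) m)),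
          pow_succ, pow_succ']
        group
    rw [sum_els_zpowers, this, h0 _ v.mem, pow_orderOf_eq_one]; simp)
  have h2 := sum_frob h hr τ
  rw [Finset.sum_eq_zero fun y hy => by
      rw [Finset.sum_congr rfl fun x hx => by
        rw [hm _ (mul_mem (hKL (mem_els.1 hy)) (hRL (mem_els.1 hx))) _ (inv_mem (hKL (mem_els.1 hy))),
          hm _ (hKL (mem_els.1 hy)) _ (hRL (mem_els.1 hx))], ← Finset.sum_mul, ← Finset.mul_sum, h1,
        mul_zero, zero_mul],
    sum_els_SD h, Finset.sum_comm, Finset.sum_eq_zero (s := els K) (f := fun y => ∑ a ∈ els (zpowers x), τ (y * a))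
      fun y hy => by
      rw [Finset.sum_congr rfl fun x hx => hm _ (hKL (mem_els.1 hy)) _ (hRL (mem_els.1 hx)),
        ← Finset.mul_sum, h1, mul_zero], zero_add, zero_add] at h2
  intro a ha
  have h3 : τ a * ∑ y ∈ els K, τ y = ∑ y ∈ els K, τ y := by
    rw [Finset.mul_sum, Finset.sum_congr rfl fun x hx => (hm a (hKL ha) x (hKL (mem_els.1 hx))).symm,
      sum_els_mul_left ha]
  rw [h2, mul_smul_comm, ← hm a (hKL ha) 1 (one_mem _), mul_one, ← Nat.cast_smul_eq_nsmul (ZMod k),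
    ← Nat.cast_smul_eq_nsmul (ZMod k)] at h3
  have h4 := smul_right_injective _ (by
    rw [Ne, ZMod.natCast_eq_zero_iff]; exact (piNat_compl_iff hk).1 hK) h3
  refine mem_C.2 fun v hv => ?_
  have h5 := hτ a (hKL ha) (EV.mk hV v hv)
  rw [h4, hτ 1 (one_mem _), EV.val_mk, one_mul, inv_one, mul_one] at h5
  exact mul_eq_of_eq_mul_inv h5

/-- all elements of the coset `K x` have order dividing `p` -/
def Split (p : ℕ) (K : Subgroup G) (x : G) : Prop := ∀ k ∈ K, (k * x) ^ p = 1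

theorem Split.pow (h : Split p K x) : x ^ p = 1 := by simpa using h 1 (one_mem _)

theorem Split.mono (h : Split p K x) (hW : W ≤ K) : Split p W x := fun k hk => h k (hW hk)

theorem Split.mul (h : Split p K x) (hy : y ∈ K) : Split p K (y * x) := fun k hk => by
  rw [← mul_assoc]; exact h _ (mul_mem hk hy)

theorem Split.fpf (h : Split p K x) (hp : p.Prime) (hW : W ≤ K) (h' : PiGrp {p}ᶜ W) : W ⊓ C1(x) = ⊥ :=
  eq_bot_iff.2 fun c hc => by
    have := h c (hW hc.1)
    rw [(show Commute c x from mem_C1.1 hc.2).mul_pow, h.pow, mul_one] at this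
    exact (piElt_of_pow_eq_one hp this).eq_one' (h'.elt hc.1)

theorem Split.pi (h : Split p K x) (hp : p.Prime) (hx : x ∈ K) : PiGrp {p} K := piGrp_of_elt fun k hk =>
  piElt_of_pow_eq_one hp (by simpa using h _ (mul_mem hk (inv_mem hx)))

theorem Split.quo (h : Split p K x) (hK : K ≤ N(W)) (hx : x ∈ N(W)) : Split p (K ⫽ W) (cs W x) := fun z hz => by
  obtain ⟨k, hk, rfl⟩ := (mem_quo hK).1 hz
  rw [← mfun_mul (hK hk) hx, ← mfun_pow (mul_mem (hK hk) hx), h k hk, mfun_one]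

theorem kegel_aux (hp : p.Prime) (n : ℕ) : ∀ {G : Type u} [Group G] [Finite G] {K : Subgroup G} {x : G},
    Nat.card K = n → x ∈ N(K) → Split p K x → Nil K := by
  induction n using Nat.strong_induction_on with
  | _ n ih =>
  intro G _ _ K x hn hx h
  have sub : ∀ W y, W ≤ K → W ≠ K → y ∈ N(W) → Split p K y → Nil W := fun W y h1 h2 h3 h4 =>
    ih _ (hn ▸ card_lt (lt_of_le_of_ne h1 h2)) rfl h3 (h4.mono h1)
  have quo : ∀ W y, W ⊴ K → W ≠ ⊥ → y ∈ N(W) → y ∈ N(K) → Split p K y → Nil (K ⫽ W) := fun W y h1 h2 h3 h4 h5 =>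
    ih _ (hn ▸ card_quo_lt h1 h2) rfl (by simpa [mim_zpowers h3] using mim_norm (f := coset W) (zpowers_le.2 h4))
      (h5.quo h1.2 h3)
  have syl : ∀ q R, q.Prime → Hall {q} R K → ∃ k ∈ K, k * x ∈ N(R) := fun q R hq hR => by
    obtain ⟨k, hk, m, hm, e⟩ := frattini_elt hq hR hx
    exact ⟨k⁻¹, inv_mem hk, by simpa [e] using hm⟩
  have hs : Solv K := by_contra fun ns => by
    have key : ∀ W y, W ⊴ K → W ≠ ⊥ → y ∈ N(W) → y ∈ N(K) → Split p K y → W = K := fun W y h1 h2 h3 h4 h5 =>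
      by_contra fun c => ns (solv_of_quo h1.2 (quo W y h1 h2 h3 h4 h5).solv (sub W y h1.1 c h3 h5).solv)
    obtain ⟨q, hq, hd, q2⟩ := exists_prime_not_mem (π := {2}) (n := Nat.card K) fun c => ns (PiGrp.solv c)
    obtain ⟨Q, hQ⟩ := exists_sylow hq K
    obtain ⟨k, hk, h1⟩ := syl q Q hq hQ
    obtain ⟨W, h2, h3, h4, h5⟩ := glauberman_char hq q2 hQ.pi (hQ.ne_bot_p hq hd)
    have h6 := mul_mem (le_N hk) hx
    have h7 := h5 K hQ (sub _ _ inf_le_left (fun e => ns (key W _ ⟨h2.trans hQ.le, inf_eq_left.1 e⟩ h3 (h4 h1) h6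
      (h.mul hk) ▸ (hQ.pi.of_le h2).solv)) (zpowers_le.1 (norm_inf (zpowers_le.2 h6) (norm_N (zpowers_le.2 (h4 h1)))))
      (h.mul hk)).pcore_hall
    refine ns (h7.solv (by_contra fun c => (piNat_compl_iff hq).1 (pcore_pi (H := K)) ?_))
    rwa [key _ x pcore_nml (fun e => c (e ▸ solv_bot)) (zpowers_le.1 (norm_pcore (zpowers_le.2 hx))) hx h]
  by_cases h0 : K = ⊥
  · exact h0 ▸ nil_bot
  obtain ⟨V, hVK, hV⟩ := exists_minNorm (A := K ⊔ zpowers x) h0 (sup_le le_N (zpowers_le.2 hx))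
  obtain ⟨q, hq, hqd, hE⟩ := hV.exists_elem (hs.of_le hVK)
  have nV : V ⊴ K := ⟨hVK, le_sup_left.trans hV.norm⟩
  have xV : x ∈ N(V) := hV.norm (mem_sup_right (mem_zpowers x))
  refine nil_of_sylow_norm fun r hr hd => ?_
  obtain ⟨R, hR⟩ := exists_sylow hr K
  refine ⟨R, hR, ?_⟩
  obtain ⟨k, hk, h1⟩ := syl r R hr hR
  replace h := h.mul hk
  have yK := mul_mem (le_N hk) hx
  have yV := mul_mem (nV.2 hk) xV
  have hL : K ⊔ zpowers x ≤ K ⊔ zpowers (k * x) := sup_le le_sup_left (zpowers_le.2 (by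
    simpa using mul_mem (mem_sup_left (inv_mem hk)) (mem_sup_right (mem_zpowers (k * x)))))
  generalize k * x = y at h1 h yK yV hL
  have n1 := H23.nml_sup_of_quo_nil nV Nml.rfl (quo V y nV hV.ne_bot yV yK h) hR
  suffices Nil (V ⊔ R) from this.norm_hall (hR.of_le le_sup_right n1.1) n1.2
  by_cases e : V ⊔ R ≠ K
  · exact sub _ y n1.1 e (zpowers_le.1 (norm_sup (zpowers_le.2 yV) (zpowers_le.2 h1))) h
  push Not at e
  have Vq := hE.pi hq
  by_cases rq : r = q
  · exact (Vq.sup_norm' (rq ▸ hR.pi) (hR.le.trans nV.2)).nil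
  have Vr : PiGrp {r}ᶜ V := Vq.p'_of_ne (Ne.symm rq)
  suffices R ≤ C(V) from Vq.nil.sup_cent hR.pi.nil (cent_symm this)
  by_cases c : R ⊓ C(V) ≠ ⊥
  · have n2 : R ⊓ C(V) ⊴ K := ⟨inf_le_left.trans hR.le, e ▸ sup_le (cent_norm (cent_symm inf_le_right))
      (norm_inf le_N (norm_C (hR.le.trans nV.2)))⟩
    exact cent_of_quo_cent (hR.le.trans n2.2) (hVK.trans n2.2) (hR.le.trans nV.2) (Vr.inf_eq_bot' hR.pi.inf_left)
      ((quo _ y n2 c (zpowers_le.1 (norm_inf (zpowers_le.2 h1) (norm_C (zpowers_le.2 yV)))) yK h).cent_pi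
        (mim_mono hR.le) (mim_mono hVK) hR.pi.mim Vr.mim)
  push Not at c
  have yK' : y ∉ K := fun c => rq (((h.pi hp c).eq_of_dvd hr hd).trans
    ((h.pi hp c).eq_of_dvd hq (hqd.trans (card_dvd hVK))).symm)
  have y1 : y ≠ 1 := fun c => yK' (c ▸ one_mem K)
  have cy := card_zpowers_of_pow hp h.pow y1
  by_cases rp : r = p
  · subst rp
    exfalso
    have hP := hR.pi.sup_norm' (piGrp_of_prime hr cy) (zpowers_le.2 h1)
    obtain ⟨z, hz, z1⟩ := cauchy hr ((hR.pi.inf_left).dvd_card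
      (hP.meet_cent hR.pi (sup_le le_N (zpowers_le.2 h1)) (hR.ne_bot_p hr hd)))
    have cz : (Nat.card (zpowers z)).Prime := by rwa [card_zpowers', z1]
    have zc : R ⊔ zpowers y ≤ C1(z) := le_C1_iff.2 hz.2
    have f1 : V ⊓ C1(z) = ⊥ := (hV.eq_bot_or inf_le_left (hL.trans (sup_le (e ▸ sup_le
      (cent_norm (cent_symm (inf_le_left.trans hE.abel))) (norm_inf (hR.le.trans nV.2) (norm_C1 (le_sup_left.trans zc))))
      (norm_inf (zpowers_le.2 yV) (norm_C1 (le_sup_right.trans zc)))))).resolve_right fun e' => by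
        rw [eq_one_of_eq_bot c ⟨hz.1, le_C1_iff.1 (inf_eq_left.1 e')⟩, orderOf_one] at z1
        exact hr.ne_one z1.symm
    have cc : zpowers z ≤ C(zpowers y) := cent_symm (C_zpowers (x := z) ▸ le_sup_right.trans zc)
    have cyc := cyc_of_semireg_abel (abel_zpowers.sup abel_zpowers cc)
      (sup_le ((zpowers_le.2 (hR.le hz.1)).trans nV.2) (zpowers_le.2 yV)) hV.ne_bot fun a ha a1 => by
        obtain ⟨b, hb, d, hd, rfl⟩ := (mem_sup_of_cent cc).1 ha
        by_cases d1 : d = 1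
        · rw [d1, mul_one] at a1 ⊢
          rwa [C1_eq_of_prime cz hb a1, C_zpowers]
        obtain ⟨m, hm⟩ := mem_powers_iff_mem_zpowers.2
          ((zpowers_eq_of_prime (cy ▸ hr) hd d1).ge (mem_zpowers y))
        have := (h.mul (pow_mem (hR.le (zpowers_le.2 hz.1 hb)) m)).fpf hr hVK Vr
        rw [← hm, ← (show Commute b d from comm_of_cent cc hb hd).mul_pow] at this
        exact eq_bot_iff.2 (this ▸ inf_le_inf_left _ (C1_pow_le m))
    exact yK' (hR.le (zpowers_le.2 hz.1 ((cyc.eq_of_card_eq le_sup_right le_sup_left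
      (by rw [cy, card_zpowers', z1])).le (mem_zpowers y))))
  have Rp : PiGrp {p}ᶜ R := hR.pi.p'_of_ne rp
  by_cases qp : q = p
  · subst qp
    have sr : Semireg R (zpowers y) := semireg_prime (cy ▸ hq) (C_zpowers (x := y) ▸ h.fpf hq hR.le Rp)
    exact frob_norm hq (sd_sup (zpowers_le.2 h1) (semireg_inf sr)) sr hE
      (sup_le (hR.le.trans nV.2) (zpowers_le.2 yV)) Rp fun v hv => by
        rw [← card_zpowers', cy]; exact h v (hVK hv)
  · have Kp : PiGrp {p}ᶜ K := e ▸ PiGrp.sup_norm' (Vq.p'_of_ne qp) Rp (hR.le.trans nV.2)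
    exact (H23.thompson_prime (zpowers_le.2 yK) (cy ▸ hp) (C_zpowers (x := y) ▸ h.fpf hp le_rfl Kp)).cent_pi
      hR.le hVK hR.pi Vr

/-- Kegel's theorem (with Hughes-Thompson): a splitting automorphism of prime order forces nilpotency. -/
theorem kegel (hp : p.Prime) (hx : x ∈ N(K)) (h : Split p K x) : Nil K := kegel_aux hp _ rfl hx h

end H21
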