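import Cfsg.Agent.H18.BG1
import Cfsg.Agent.H1.PF9c

/-! `card_eq_of_minNorm`: an elementary abelian `q`-group on which a group of prime order `p` acts irreducibly and
nontrivially has order `q ^ orderOf (q : ZMod p)`; `isPClosed_iff`, `isPClosed_top_iff`, `isPClosed_quo_iff`. -/

set_option autoImplicit false

namespace H21
open Subgroup Cfsg H18 H1
open scoped commutatorElement

variable {G : Type*} [Group G] [Finite G] {A B H K P X : Subgroup G} {p q : ℕ}

theorem card_eq_of_minNorm (hp : p.Prime) (hq : q.Prime) (hA : Elem q A) (hX : Nat.card X = p) (m : MinNorm A X)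
    (nt : ¬ X ≤ C(A)) : Nat.card A = q ^ orderOf (q : ZMod p) := by
  classical
  have := Fact.mk hp
  have := Fact.mk hq
  obtain ⟨v, hv, v1⟩ := exists_mem_ne_one' m.ne_bot
  obtain ⟨F, _, _, e, ψ, -, e1, e2, e3, e4, -⟩ := exists_field_of_irred (V := A)
    (fun x y => Subtype.ext (comm_of_cent hA.abel x.2 y.2)) (mim (actf A) X) (abel_of_prime (hX ▸ hp)).mim
    (fun W hW => by
      rcases m.eq_bot_or (K := W.map A.subtype) (map_subtype_le _) (norm_map_subtype_of_actf m.norm
        fun a ha w hw => hW _ (mfun_mem_mim ha) w hw) with h | h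
      · exact Or.inl ((map_eq_bot_iff_of_injective _ A.subtype_injective).1 h)
      · exact Or.inr (map_injective A.subtype_injective (by rw [h, ← MonoidHom.range_eq_map, subtype_range])))
    (v₀ := ⟨v, hv⟩) (fun h => v1 (congrArg Subtype.val h))
  obtain ⟨x, x1, hx⟩ := exists_gen_of_prime (hX ▸ hp)
  have xX : x ∈ X := hx ▸ mem_zpowers x
  set a := mfun (actf A) x with ha
  have aX : a ∈ mim (actf A) X := mfun_mem_mim xX
  have e0 : e 1 = 0 := by simpa using e2 1 1
  have epow : ∀ (n : ℕ) y, e ((a ^ n) y) = ψ a ^ n * e y := fun n => by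
    induction n with
    | zero => simp
    | succ n ih => intro y; rw [pow_succ', MulAut.mul_apply, e4 a aX, ih, pow_succ', mul_assoc]
  have ap : a ^ p = 1 := by rw [ha, ← mfun_pow (m.norm xX), pow_eq_one_of_card hX xX, mfun_one]
  have zp : ψ a ^ p = 1 := by simpa [ap, e3] using (epow p ⟨v, hv⟩).symm
  have z1 : ψ a ≠ 1 := fun h => nt (by
    rw [← hx, zpowers_le, ← mker_actf, mem_mker]
    exact ⟨m.norm xX, MulEquiv.ext fun y => e1.1 (by rw [e4 a aX, h, one_mul]; rfl)⟩)
  have oz : orderOf (ψ a) = p := orderOf_eq_prime zp z1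
  have cF : Fintype.card F = Nat.card A := by rw [← Nat.card_eq_fintype_card, Nat.card_eq_of_bijective e e1]
  obtain ⟨n, hn⟩ := (hA.pi hq).card_eq_pow
  have ch : CharP F q := by
    refine (CharP.charP_iff_prime_eq_zero hq).2 ?_
    have : ∀ k : ℕ, e (⟨v, hv⟩ ^ k) = k := fun k => by
      induction k with
      | zero => simpa using e0
      | succ k ih => rw [pow_succ, e2, ih, e3, Nat.cast_succ]
    rw [← this q, show (⟨v, hv⟩ : A) ^ q = 1 from Subtype.ext (hA.pow v hv), e0]
  have z0 : ψ a ≠ 0 := fun h => by rw [h, zero_pow hp.ne_zero] at zp; exact zero_ne_one zp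
  have iff : ∀ k : ℕ, ψ a ^ q ^ k = ψ a ↔ orderOf (q : ZMod p) ∣ k := fun k => by
    rw [orderOf_dvd_iff_pow_eq_one, ← Nat.cast_pow, ← Nat.cast_one (R := ZMod p), ZMod.natCast_eq_natCast_iff, ← oz]
    conv_lhs => rhs; rw [← pow_one (ψ a)]
    exact (isOfFinOrder_iff_pow_eq_one.2 ⟨p, hp.pos, zp⟩).pow_eq_pow_iff_modEq
  have d1 : orderOf (q : ZMod p) ∣ n := (iff n).1 (by rw [← hn, ← cF]; exact FiniteField.pow_card _)
  have n0 : n ≠ 0 := by rintro rfl; exact m.ne_bot (card_eq_one.1 hn)
  set k := orderOf (q : ZMod p)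
  have k0 : k ≠ 0 := by rintro h; rw [h] at d1; exact n0 (zero_dvd_iff.1 d1)
  have all : ∀ y : F, y ^ q ^ k = y := by
    let W : Subgroup A :=
      { carrier := {y | e y ^ q ^ k = e y}
        one_mem' := by simp [e0, hq.ne_zero]
        mul_mem' := fun {y z} hy hz => by
          simp only [Set.mem_ofPred_eq] at hy hz ⊢
          rw [e2, add_pow_char_pow, hy, hz]
        inv_mem' := fun {y} hy => by
          simp only [Set.mem_ofPred_eq] at hy ⊢
          have : e y⁻¹ = 0 - e y := by rw [← e0, ← inv_mul_cancel y, e2]; ring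
          rw [this, sub_pow_char_pow, hy, zero_pow (pow_ne_zero _ hq.ne_zero)] }
    have hW : X ≤ N(W.map A.subtype) := by
      rw [← hx, zpowers_le]
      refine mem_N_of_finite ?_
      rintro _ ⟨w, hw, rfl⟩
      refine ⟨a w, ?_, actf_apply (m.norm xX) w⟩
      show e (a w) ^ q ^ k = e (a w)
      rw [e4 a aX, mul_pow, (iff k).2 dvd_rfl, show e w ^ q ^ k = e w from hw]
    have := m.min _ (map_subtype_le W) (ne_bot_of_mem ⟨⟨v, hv⟩, show e _ ^ _ = e _ by rw [e3, one_pow], rfl⟩ v1) hW
    intro y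
    obtain ⟨y, rfl⟩ := e1.2 y
    obtain ⟨z, hz, h⟩ := this.ge y.2
    rwa [← Subtype.ext h]
  have le : q ^ n ≤ q ^ k := by
    have h1 : 1 < q ^ k := Nat.one_lt_pow k0 hq.one_lt
    have h2 := Polynomial.card_le_degree_of_subset_roots (p := (Polynomial.X ^ q ^ k - Polynomial.X : Polynomial F))
      (Z := Finset.univ) fun y _ => by
        rw [Polynomial.mem_roots (FiniteField.X_pow_card_sub_X_ne_zero F h1)]; simp [all]
    rwa [FiniteField.X_pow_card_sub_X_natDegree_eq F h1, Finset.card_univ, cF, hn] at h2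
  rw [hn, le_antisymm ((Nat.pow_le_pow_iff_right hq.one_lt).1 le) (Nat.le_of_dvd (Nat.pos_of_ne_zero n0) d1)]

theorem isPClosed_iff (hp : p.Prime) : IsPClosed p H ↔ Hall {p} O[{p}](H) H := by
  have := Fact.mk hp
  constructor
  · intro h
    obtain ⟨S⟩ : Nonempty (Sylow p H) := inferInstance
    have := h S
    exact (hall_map_sylow hp S).pcore_hall nml_map_subtype.2
  · intro h S
    exact normal_of_nml_map ((hall_map_sylow hp S).eq_pcore' h ▸ pcore_nml)

theorem isPClosed_top_iff (hp : p.Prime) : IsPClosed p G ↔ Hall {p} O[{p}]((⊤ : Subgroup G)) ⊤ := by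
  have := Fact.mk hp
  constructor
  · intro h
    obtain ⟨S⟩ : Nonempty (Sylow p G) := inferInstance
    have := h S
    exact (hall_sylow_top hp S).pcore_hall norm_of_normal
  · intro h S
    exact Nml.normal ((hall_sylow_top hp S).eq_pcore' h ▸ pcore_nml)

/-- `G/K` is `p`-closed iff `PK` is normal -/
theorem isPClosed_quo_iff (hp : p.Prime) [K.Normal] (hP : Hall {p} P ⊤) :
    IsPClosed p (G ⧸ K) ↔ (P ⊔ K) ⊴ ⊤ := by
  have h := hP.mim (f := topq K) le_top
  rw [mim_topq_top] at h
  rw [isPClosed_top_iff hp]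
  constructor
  · intro c
    have := nml_mpre (f := topq K) (A := ⊤) le_top le_top (U := mim (topq K) P)
      (by rw [mim_topq_top, h.eq_pcore' c]; exact pcore_nml)
    rwa [mpre_mim le_top, mker_topq] at this
  · intro c
    have := c.mim (f := topq K)
    rw [mim_topq_top, mim_sup le_top le_top, mim_eq_bot_of_le (mker_topq K).ge, sup_bot_eq] at this
    exact h.pcore_hall this.2

end H21
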