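import Cfsg.Agent.H18.Cyc
import Mathlib.GroupTheory.SpecificGroups.Alternating.Simple

/-! Embeddings of symmetric and alternating groups (`exists_permEmb`, `exists_altEmb`, `exists_alt_hom`);
`p`-subgroups of `Sym(α)` are abelian when `|α| < p ^ 2` (`abel_of_card_lt_sq`). -/

set_option autoImplicit false

namespace H21
open Subgroup Equiv H18 MulAction

variable {α β : Type*} [Fintype α] [DecidableEq α] [Fintype β] [DecidableEq β]

theorem exists_permEmb (h : Fintype.card α ≤ Fintype.card β) :
    ∃ f : Perm α →* Perm β, Function.Injective f ∧ ∀ g, Perm.sign (f g) = Perm.sign g := by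
  classical
  obtain ⟨e⟩ := Function.Embedding.nonempty_of_card_le h
  exact ⟨Perm.extendDomainHom (Equiv.ofInjective e.1 e.2), Perm.extendDomainHom_injective _, fun g =>
    Perm.sign_extendDomain g _⟩

theorem exists_alt_hom {X : Type*} [Group X] (φ : X →* Perm α) (hφ : Function.Injective φ)
    (hs : ∀ x, Perm.sign (φ x) = 1) (h : Fintype.card α ≤ Fintype.card β) :
    ∃ f : X →* alternatingGroup β, Function.Injective f := by
  obtain ⟨f, h1, h2⟩ := exists_permEmb h
  exact ⟨(f.comp φ).codRestrict _ fun x => by simp [h2, hs], fun x y e => hφ (h1 (congrArg Subtype.val e))⟩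

theorem exists_altEmb (h : Fintype.card α ≤ Fintype.card β) :
    ∃ f : alternatingGroup α →* alternatingGroup β, Function.Injective f :=
  exists_alt_hom (alternatingGroup α).subtype (subtype_injective _) (fun x => x.2) h

theorem abel_of_card_lt_sq {p : ℕ} (hp : p.Prime) {P : Subgroup (Perm α)} (hP : PiGrp {p} P)
    (h : Fintype.card α < p ^ 2) : Abel P := by
  refine abel_iff_der.2 (eq_bot_iff.2 fun g hg => Equiv.ext fun a => ?_)
  have h1 : (stabilizer (Perm α) a).relIndex P ≤ Fintype.card α := by
    have : (stabilizer (Perm α) a).relIndex P = (stabilizer P a).index := rfl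
    rw [this, index_stabilizer, ← Nat.card_eq_fintype_card]
    exact Set.ncard_le_card _
  obtain ⟨k, hk⟩ := (hP.relIndex (A := stabilizer (Perm α) a)).eq_pow relIndex_ne_zero
  have : k < 2 := (Nat.pow_lt_pow_iff_right hp.one_lt).1 (hk ▸ h1.trans_lt h)
  rw [← relIndex_inf_right] at hk
  suffices ⁅P, P⁆ ≤ stabilizer (Perm α) a ⊓ P from (this hg).1
  interval_cases k
  · exact der_le.trans (relIndex_eq_one_iff.1 hk)
  · have n := hP.nml_of_relIndex hp inf_le_right (by simpa using hk)
    exact (abel_quo_iff n.2).1 (cyc_quo_of_prime n.2 (by simpa [hk] using hp)).abel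

end H21
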