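import Mathlib
/-! S4294 (Amitsur): `SL(2,5)` is not a normal subgroup of index two of a subgroup of a division ring of characteristic 0. -/
set_option autoImplicit false
namespace H21.AmI
abbrev G5 := Matrix.SpecialLinearGroup (Fin 2) (ZMod 5)
def mA : G5 := ⟨!![0,1;4,0], by decide⟩
def mB : G5 := ⟨!![0,4;1,1], by decide⟩
def mT : G5 := ⟨!![1,1;0,1], by decide⟩
def mL : G5 := ⟨!![1,0;1,1], by decide⟩
def mN : G5 := ⟨!![4,0;0,4], by decide⟩
theorem hAB : mA * mB = mT := by decide +kernel
theorem hAA : mA * mA = mN := by decide +kernel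
theorem hNN : mN * mN = 1 := by decide +kernel
theorem hN1 : mN ≠ 1 := by decide +kernel
theorem hBN : mB ≠ mN := by decide +kernel
theorem hT1 : mT ≠ 1 := by decide +kernel
theorem hBBB : mB * mB * mB = mN := by decide +kernel
theorem hT5 : mT * mT * mT * mT * mT = 1 := by decide +kernel
theorem hL : mL = mB * mA * (mB * mA) * (mB * mA) * (mB * mA) := by decide +kernel
theorem hABB : mA * mB * mB ≠ mB * mB * mA := by decide +kernel
set_option maxRecDepth 100000 in
theorem c1 : ∀ z : G5, z * mB = mB * z →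
    z = 1 ∨ z = mB ∨ z = mB * mB ∨ z = mN ∨ z = mN * mB ∨ z = mN * mB * mB := by decide +kernel
set_option maxRecDepth 100000 in
theorem c2 : ∀ x : G5, x * x * x = mN → x ≠ mN → ∃ y : G5, y * mB = x * y := by decide +kernel
set_option maxRecDepth 100000 in
theorem c3 : ∀ x : G5, x * x = mN → (x * mB) * (x * mB) * (x * mB) * (x * mB) * (x * mB) = 1 →
    x = mA ∨ x * mB = mB * mA ∨ mB * x = mA * mB ∨ ∃ y : G5, y * (mT * mT) = x * mB * y := by decide +kernel
set_option maxRecDepth 100000 in
theorem c4 : ∀ x : G5, ∃ a b c : Fin 5, x = mT ^ a.val * mL ^ b.val * mT ^ c.val ∨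
    x = mT ^ a.val * mL ^ b.val * mT ^ c.val * mL := by decide +kernel

variable {D : Type*} [DivisionRing D] (f : G5 →* D)

theorem fN (hf : Function.Injective f) : f mN = -1 := by
  have h : f mN * f mN = 1 := by rw [← map_mul, hNN, map_one]
  rcases mul_self_eq_one_iff.mp h with h | h
  · exact absurd (hf (h.trans (map_one f).symm)) hN1
  · exact h

theorem fAA (hf : Function.Injective f) : f mA * f mA = -1 := by rw [← map_mul, hAA, fN f hf]

theorem fBBB (hf : Function.Injective f) : f mB * f mB * f mB = -1 := by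
  rw [← map_mul, ← map_mul, hBBB, fN f hf]

theorem fBB (hf : Function.Injective f) : f mB * f mB = f mB - 1 := by
  have h3 := fBBB f hf
  have hne : f mB + 1 ≠ 0 := fun h => hBN (hf (by rw [fN f hf]; exact eq_neg_of_add_eq_zero_left h))
  have : (f mB + 1) * (f mB * f mB - f mB + 1) = 0 := by
    have : (f mB + 1) * (f mB * f mB - f mB + 1) = f mB * f mB * f mB + 1 := by noncomm_ring
    rw [this, h3]; simp
  have h0 := (mul_eq_zero.mp this).resolve_left hne
  have : f mB * f mB = (f mB * f mB - f mB + 1) + (f mB - 1) := by noncomm_ring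
  rw [this, h0, zero_add]

theorem fne (x : G5) : f x ≠ 0 := fun h => by
  have : f x * f x⁻¹ = 1 := by rw [← map_mul, mul_inv_cancel, map_one]
  rw [h, zero_mul] at this; exact zero_ne_one this

/-- the element `u + u⁻¹` for `u = f T` -/
def phi : D := f mT + f mT * f mT * f mT * f mT

theorem fT5 : f mT * f mT * f mT * f mT * f mT = 1 := by
  rw [← map_mul, ← map_mul, ← map_mul, ← map_mul, hT5, map_one]

theorem phi_eq (hf : Function.Injective f) : phi f = f mA * f mB + f mB * f mA - f mA := by
  have hu : f mT = f mA * f mB := by rw [← map_mul, hAB]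
  have h1 : f mT * (f mT * f mT * f mT * f mT) = f mT * (f mB * f mA - f mA) := by
    have e1 : f mT * (f mT * f mT * f mT * f mT) = 1 := by rw [← fT5 f]; noncomm_ring
    have e2 : f mA * f mB * (f mB * f mA - f mA) = f mA * (f mB * f mB) * f mA - f mA * f mB * f mA := by noncomm_ring
    have e3 : f mA * (f mB - 1) * f mA - f mA * f mB * f mA = -(f mA * f mA) := by noncomm_ring
    rw [e1, hu, e2, fBB f hf, e3, fAA f hf, neg_neg]
  have h2 := mul_left_cancel₀ (fne f mT) h1
  unfold phi
  rw [h2, hu]; noncomm_ring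

theorem phi_comm (hf : Function.Injective f) (x : G5) : Commute (phi f) (f x) := by
  have ha : Commute (phi f) (f mA) := by
    rw [phi_eq f hf]
    have e1 : (f mA * f mB + f mB * f mA - f mA) * f mA =
        f mA * f mB * f mA + f mB * (f mA * f mA) - f mA * f mA := by noncomm_ring
    have e2 : f mA * (f mA * f mB + f mB * f mA - f mA) =
        (f mA * f mA) * f mB + f mA * f mB * f mA - f mA * f mA := by noncomm_ring
    show _ = _
    rw [e1, e2, fAA f hf]; noncomm_ring
  have hb : Commute (phi f) (f mB) := by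
    rw [phi_eq f hf]
    have e1 : (f mA * f mB + f mB * f mA - f mA) * f mB =
        f mA * (f mB * f mB) + f mB * f mA * f mB - f mA * f mB := by noncomm_ring
    have e2 : f mB * (f mA * f mB + f mB * f mA - f mA) =
        f mB * f mA * f mB + (f mB * f mB) * f mA - f mB * f mA := by noncomm_ring
    show _ = _
    rw [e1, e2, fBB f hf]; noncomm_ring
  have hT : Commute (phi f) (f mT) := by rw [← hAB, map_mul]; exact ha.mul_right hb
  have hBA : Commute (phi f) (f (mB * mA)) := by rw [map_mul]; exact hb.mul_right ha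
  have hL' : Commute (phi f) (f mL) := by
    rw [hL, map_mul f _ (mB * mA), map_mul f _ (mB * mA), map_mul f _ (mB * mA)]
    exact ((hBA.mul_right hBA).mul_right hBA).mul_right hBA
  obtain ⟨a, b, c, h | h⟩ := c4 x
  · rw [h, map_mul, map_mul, map_pow, map_pow, map_pow]
    exact ((hT.pow_right _).mul_right (hL'.pow_right _)).mul_right (hT.pow_right _)
  · rw [h, map_mul, map_mul, map_mul, map_pow, map_pow, map_pow]
    exact (((hT.pow_right _).mul_right (hL'.pow_right _)).mul_right (hT.pow_right _)).mul_right hL'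

theorem cyc (hf : Function.Injective f) :
    f mT * f mT * f mT * f mT + f mT * f mT * f mT + f mT * f mT + f mT + 1 = 0 := by
  have hne : f mT - 1 ≠ 0 := fun h => hT1 (hf (by rw [map_one]; exact sub_eq_zero.mp h))
  have : (f mT - 1) * (f mT * f mT * f mT * f mT + f mT * f mT * f mT + f mT * f mT + f mT + 1) = 0 := by
    have : (f mT - 1) * (f mT * f mT * f mT * f mT + f mT * f mT * f mT + f mT * f mT + f mT + 1) =
      f mT * f mT * f mT * f mT * f mT - 1 := by noncomm_ring
    rw [this, fT5, sub_self]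
  exact (mul_eq_zero.mp this).resolve_left hne

theorem phi_sq (hf : Function.Injective f) : phi f * phi f + phi f - 1 = 0 := by
  have h5 := fT5 f
  have hc := cyc f hf
  unfold phi
  set u := f mT
  have e : (u + u * u * u * u) * (u + u * u * u * u) + (u + u * u * u * u) - 1 =
      u * u + (u * u * u * u * u) + (u * u * u * u * u) + (u * u * u * u * u) * (u * u * u) + (u + u * u * u * u) - 1 := by
    noncomm_ring
  rw [e, h5, ← hc]; noncomm_ring

/-- the properties of an element of `H ∖ S` -/
def P (t : D) : Prop := t ≠ 0 ∧ (∀ x, ∃ x', t * f x = f x' * t) ∧ (∀ x, t ≠ f x) ∧ ∃ z, t * t = f z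

theorem P_mul {t : D} (h : P f t) (y : G5) : P f (f y * t) := by
  obtain ⟨h0, h1, h2, z, h3⟩ := h
  refine ⟨mul_ne_zero (fne f y) h0, fun x => ?_, fun x hx => ?_, ?_⟩
  · obtain ⟨x', hx'⟩ := h1 x
    refine ⟨y * x' * y⁻¹, ?_⟩
    rw [mul_assoc, hx', ← mul_assoc, ← mul_assoc, ← map_mul, ← map_mul]; simp
  · apply h2 (y⁻¹ * x)
    rw [map_mul, ← hx, ← mul_assoc, ← map_mul]; simp
  · obtain ⟨y', hy'⟩ := h1 y
    refine ⟨y * y' * z, ?_⟩
    have : f y * t * (f y * t) = f y * (t * f y) * t := by noncomm_ring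
    rw [this, hy', map_mul, map_mul, ← h3]; noncomm_ring

theorem P_sq (hf : Function.Injective f) {t : D} (h : P f t) : t * t ≠ 1 := fun h1 => by
  rcases mul_self_eq_one_iff.mp h1 with h2 | h2
  · exact h.2.2.1 1 (by rw [h2, map_one])
  · exact h.2.2.1 mN (by rw [h2, fN f hf])

theorem step1 (hf : Function.Injective f) {t : D} (h : P f t) : ∃ t, P f t ∧ t * f mB = f mB * t := by
  obtain ⟨B', hB'⟩ := h.2.1 mB
  have h3 : B' * B' * B' = mN := by
    apply hf
    apply mul_right_cancel₀ h.1
    have e1 : f B' * f B' * f B' * t = f B' * (f B' * (f B' * t)) := by noncomm_ring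
    have e2 : t * (f mB * f mB * f mB) = t * f mB * f mB * f mB := by noncomm_ring
    rw [map_mul, map_mul, e1, ← hB', ← mul_assoc (f B') t, ← hB', ← mul_assoc, ← mul_assoc, ← hB', ← e2, fBBB f hf,
      fN f hf]
    simp
  have hne : B' ≠ mN := fun hh => by
    rw [hh, fN f hf] at hB'
    apply hBN; apply hf; rw [fN f hf]
    apply mul_left_cancel₀ h.1; rw [hB']; simp
  obtain ⟨y, hy⟩ := c2 B' h3 hne
  refine ⟨f y⁻¹ * t, P_mul f h _, ?_⟩
  have : y⁻¹ * B' = mB * y⁻¹ := by
    rw [inv_mul_eq_iff_eq_mul, ← mul_assoc, hy]; simp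
  rw [mul_assoc, hB', ← mul_assoc, ← map_mul, this, map_mul, mul_assoc]

theorem step2 (hf : Function.Injective f) {t : D} (h : P f t) (hb : t * f mB = f mB * t) :
    ∃ t, P f t ∧ t * f mB = f mB * t ∧ t * t = -1 := by
  obtain ⟨z, hz⟩ := h.2.2.2
  have h3 := fBBB f hf
  have hc : z * mB = mB * z := by
    apply hf
    rw [map_mul, map_mul, ← hz, mul_assoc, hb, ← mul_assoc, hb, mul_assoc]
  have p1 := P_mul f h mB
  have p2 := P_mul f p1 mB
  set b := f mB with hbdef
  have b1 : b * t * b = b * (b * t) := by rw [mul_assoc, hb]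
  have b2 : b * (b * t) * b = b * (b * (b * t)) := by rw [mul_assoc, b1]
  have s1 : b * t * (b * t) = b * b * (t * t) := by rw [← mul_assoc, b1]; noncomm_ring
  have s2 : b * (b * t) * (b * (b * t)) = b * b * b * b * (t * t) := by
    rw [← mul_assoc, b2, ← mul_assoc, mul_assoc b (b * (b * t)) b, b2]; noncomm_ring
  rcases c1 z hc with rfl | rfl | rfl | rfl | rfl | rfl
  · exact absurd (hz.trans (map_one f)) (P_sq f hf h)
  · exact ⟨_, p1, b1, by rw [s1, hz, h3]⟩
  · refine absurd ?_ (P_sq f hf p2)
    have : b * b * b * b * (b * b) = (b * b * b) * (b * b * b) := by noncomm_ring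
    rw [s2, hz, map_mul, ← hbdef, this, h3]; simp
  · exact ⟨t, h, hb, by rw [hz, fN f hf]⟩
  · refine absurd ?_ (P_sq f hf p1)
    have : b * b * (-1 * b) = -(b * b * b) := by noncomm_ring
    rw [s1, hz, map_mul, ← hbdef, fN f hf, this, h3]; simp
  · refine ⟨_, p2, b2, ?_⟩
    have : b * b * b * b * (-1 * b * b) = -((b * b * b) * (b * b * b)) := by noncomm_ring
    rw [s2, hz, map_mul, map_mul, ← hbdef, fN f hf, this, h3]; simp

theorem step3 [CharZero D] (hf : Function.Injective f) {t : D} (h : P f t) (hb : t * f mB = f mB * t)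
    (ht : t * t = -1) : False := by
  obtain ⟨A', hA'⟩ := h.2.1 mA
  have hu : f mT = f mA * f mB := by rw [← map_mul, hAB]
  have h2 : A' * A' = mN := by
    apply hf
    apply mul_right_cancel₀ h.1
    rw [map_mul, mul_assoc, ← hA', ← mul_assoc, ← hA', mul_assoc, fAA f hf, fN f hf]; simp
  have hw : t * f mT = f (A' * mB) * t := by
    rw [hu, ← mul_assoc, hA', mul_assoc, hb, map_mul, mul_assoc]
  set w := f (A' * mB) with hwdef
  set u := f mT with hudef
  have hw4 : t * (u * u * u * u) = w * w * w * w * t := by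
    rw [← mul_assoc, ← mul_assoc, ← mul_assoc, hw, mul_assoc w t u, hw, ← mul_assoc, mul_assoc (w * w) t u, hw,
      ← mul_assoc, mul_assoc (w * w * w) t u, hw, ← mul_assoc]
  have h5 : (A' * mB) * (A' * mB) * (A' * mB) * (A' * mB) * (A' * mB) = 1 := by
    apply hf
    apply mul_right_cancel₀ h.1
    rw [map_mul f _ (A' * mB), map_mul f _ (A' * mB), map_mul f _ (A' * mB), map_mul f _ (A' * mB), ← hwdef,
      mul_assoc _ w t, ← hw, ← mul_assoc, ← hw4, mul_assoc, fT5 f, map_one]; simp
  have key : f mA * f mB * f mB ≠ f mB * f mB * f mA := fun hh =>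
    hABB (hf (by rw [map_mul, map_mul, map_mul, map_mul, hh]))
  rcases c3 A' h2 h5 with rfl | hc | hc | ⟨y, hy⟩
  · have : (t - f mA) * (t + f mA) = 0 := by
      have e : (t - f mA) * (t + f mA) = t * t + t * f mA - f mA * t - f mA * f mA := by noncomm_ring
      rw [e, ht, fAA f hf, hA']; simp
    rcases mul_eq_zero.mp this with h0 | h0
    · exact h.2.2.1 mA (sub_eq_zero.mp h0)
    · exact h.2.2.1 (mN * mA) (by rw [map_mul, fN f hf, eq_neg_of_add_eq_zero_left h0]; simp)
  · have e0 : t * f mA * f mB = f mB * f mA * t := by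
      rw [hA', mul_assoc, hb, ← mul_assoc, ← map_mul, hc, map_mul]
    apply key
    have e1 : t * t * (f mA * f mB * f mB) = t * (t * f mA * f mB) * f mB := by noncomm_ring
    have e2 : t * (f mB * f mA * t) * f mB = (t * f mB) * f mA * (t * f mB) := by noncomm_ring
    have e3 : f mB * t * f mA * (f mB * t) = f mB * (t * f mA * f mB) * t := by noncomm_ring
    have e4 : f mB * (f mB * f mA * t) * t = f mB * f mB * f mA * (t * t) := by noncomm_ring
    rw [e0, e2, hb, e3, e0, e4, ht] at e1
    simpa using e1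
  · have e0 : t * f mB * f mA = f mA * f mB * t := by
      rw [hb, mul_assoc, hA', ← mul_assoc, ← map_mul, hc, map_mul]
    apply key
    have e1 : t * t * (f mB * f mB * f mA) = t * (t * f mB) * f mB * f mA := by noncomm_ring
    have e2 : t * (f mB * t) * f mB * f mA = t * f mB * (t * f mB * f mA) := by noncomm_ring
    have e3 : t * f mB * (f mA * f mB * t) = (t * f mB * f mA) * f mB * t := by noncomm_ring
    have e4 : f mA * f mB * t * f mB * t = f mA * f mB * (t * f mB) * t := by noncomm_ring
    have e5 : f mA * f mB * (f mB * t) * t = f mA * f mB * f mB * (t * t) := by noncomm_ring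
    rw [hb, e2, e0, e3, e0, e4, hb, e5, ht] at e1
    simpa using e1.symm
  · have hy' : f y * (u * u) = w * f y := by
      rw [hudef, hwdef, ← map_mul, ← map_mul, hy, map_mul]
    have h5' : u * u * u * u * u = 1 := fT5 f
    have hc : u * u * u * u + u * u * u + u * u + u + 1 = 0 := cyc f hf
    have hphi : phi f = u + u * u * u * u := rfl
    have hy4 : w * w * w * w * f y = f y * (u * u * u) := by
      have e2 : f y * (u * u) * (u * u) * (u * u) * (u * u) = f y * ((u * u * u * u * u) * (u * u * u)) := by noncomm_ring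
      have e3 : w * w * f y = f y * (u * u) * (u * u) := by rw [mul_assoc w w, ← hy', ← mul_assoc, ← hy']
      have e4 : w * w * w * w * f y = (w * w) * (w * w * f y) := by noncomm_ring
      have e5 : w * w * (f y * (u * u) * (u * u)) = (w * w * f y) * (u * u) * (u * u) := by noncomm_ring
      rw [e4, e3, e5, e3, e2, h5', one_mul]
    have hww : w + w * w * w * w = -1 - phi f := by
      apply mul_right_cancel₀ (fne f y)
      have e1 : u * u + u * u * u = -1 - phi f := by
        rw [hphi]
        have : u * u + u * u * u = (u * u * u * u + u * u * u + u * u + u + 1) + (-1 - (u + u * u * u * u)) := by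
          noncomm_ring
        rw [this, hc, zero_add]
      rw [add_mul, hy4, ← hy', ← mul_add, e1, mul_sub, sub_mul, (phi_comm f hf y).eq]; simp
    have htp : t * phi f = (-1 - phi f) * t := by
      rw [← hww, hphi, mul_add, hw, hw4, add_mul]
    have hq := phi_sq f hf
    set φ := phi f
    have hs : (φ + φ + 1) * (φ + φ + 1) = 5 := by
      have : (φ + φ + 1) * (φ + φ + 1) = (φ * φ + φ - 1) + (φ * φ + φ - 1) + (φ * φ + φ - 1) + (φ * φ + φ - 1) +
          (1 + 1 + 1 + 1 + 1) := by noncomm_ring
      rw [this, hq]; norm_num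
    have hts : t * (φ + φ + 1) = -((φ + φ + 1) * t) := by
      rw [mul_add, mul_add, htp]; noncomm_ring
    set s := φ + φ + 1
    have h1 : (s + (t + t)) * (s + (t + t)) = 1 := by
      have : (s + (t + t)) * (s + (t + t)) = s * s + (s * t + s * t) + (t * s + t * s) + (t * t + t * t + t * t + t * t) := by
        noncomm_ring
      have h5 : (5 : D) = 1 + 1 + 1 + 1 + 1 := by norm_num
      rw [this, hs, hts, ht, h5]; abel
    have hcomm : t * s = s * t := by
      rcases mul_self_eq_one_iff.mp h1 with h0 | h0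
      · have : s = 1 - (t + t) := by rw [← h0]; simp
        rw [this]; noncomm_ring
      · have : s = -1 - (t + t) := by rw [← h0]; simp
        rw [this]; noncomm_ring
    have h0 : (2 : D) * (s * t) = 0 := by
      rw [two_mul]; nth_rewrite 1 [← hcomm, hts]; simp
    have hs0 : s = 0 := (mul_eq_zero.mp ((mul_eq_zero.mp h0).resolve_left two_ne_zero)).resolve_right h.1
    rw [hs0, mul_zero] at hs
    exact absurd hs.symm (by norm_num)

theorem core [CharZero D] (hf : Function.Injective f) {t : D} (h : P f t) : False := by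
  obtain ⟨t1, h1, hb1⟩ := step1 f hf h
  obtain ⟨t2, h2, hb2, ht2⟩ := step2 f hf h1 hb1
  exact step3 f hf h2 hb2 ht2

theorem idx2 {D : Type*} [DivisionRing D] [CharZero D] (H : Subgroup Dˣ) (S : Subgroup H) [hS : S.Normal]
    (hi : S.index = 2) (e : S ≃* Matrix.SpecialLinearGroup (Fin 2) (ZMod 5)) : False := by
  let f : G5 →* D := (Units.coeHom D).comp (H.subtype.comp (S.subtype.comp e.symm.toMonoidHom))
  have hfx : ∀ s : S, f (e s) = (((s : H) : Dˣ) : D) := fun s => by simp [f]
  have hf : Function.Injective f := by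
    intro x y hxy
    apply e.symm.injective
    apply Subtype.ext; apply Subtype.ext; apply Units.ext
    simpa [f] using hxy
  obtain ⟨g, hg⟩ : ∃ g : H, g ∉ S := by
    by_contra hh
    push Not at hh
    have : S = ⊤ := eq_top_iff.mpr fun x _ => hh x
    rw [this, Subgroup.index_top] at hi; omega
  refine core f hf (t := ((g : Dˣ) : D)) ⟨Units.ne_zero _, fun x => ?_, fun x hx => ?_, ?_⟩
  · refine ⟨e ⟨g * (e.symm x : H) * g⁻¹, hS.conj_mem _ (e.symm x).2 g⟩, ?_⟩
    rw [hfx]
    conv_lhs => rw [← e.apply_symm_apply x, hfx]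
    simp
  · apply hg
    rw [← e.apply_symm_apply x, hfx] at hx
    have : g = (e.symm x : H) := Subtype.ext (Units.ext hx)
    rw [this]; exact (e.symm x).2
  · exact ⟨e ⟨g * g, Subgroup.mul_self_mem_of_index_two hi g⟩, by rw [hfx]; simp⟩

end H21.AmI
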