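import Cfsg.Agent.H18.BG1
import Cfsg.Agent.H18.Rank
import Cfsg.Agent.H17.EP
import Cfsg.Agent.S0100
import Cfsg.Agent.S0640

/-! 3-elements `x` of a group of odd order acting on a normal elementary abelian 2-group `M` with `[M, x]` of
order 4 (`Gd`): `pair` (disjoint commutator groups are centralized), `le_of_meet`, `trans` (meeting is an
equivalence relation), `Stab`. -/

set_option autoImplicit false

namespace H21.Blk
open Subgroup Cfsg H18 H1
open scoped commutatorElement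

variable {G : Type*} [Group G] [Finite G] {M H A U V R : Subgroup G} {x y z g : G} {r : ℕ}

theorem aut_dvd {n : ℕ} (hV : Elem 2 V) (hc : Nat.card V = 2 ^ n) :
    Nat.card (MulAut V) ∣ ∏ i : Fin n, (2 ^ n - 2 ^ (i : ℕ)) := by
  obtain ⟨ψ, hψ⟩ := H117.exists_aut_GL (fun x y : V => Subtype.ext (comm_of_cent hV.abel x.2 y.2))
    (fun x : V => Subtype.ext (hV.pow x x.2)) hc
  have := card_dvd_of_injective ψ hψ
  rwa [Matrix.card_GL_field, ZMod.card] at this

theorem fix (hr : r.Prime) (hR : PiGrp {r} R) (hn : R ≤ N(V)) :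
    Nat.card V ≡ Nat.card ↥(V ⊓ C(R)) [MOD r] :=
  haveI := Fact.mk hr
  H3.card_modEq_card_inf_centralizer hR.isPGroup hn

omit [Finite G] in
theorem norm_of_comm (hA : A ≤ N(V)) (hx : x ∈ N(V)) (h : ⁅A, zpowers x⁆ ≤ C(V)) [Finite G] :
    A ≤ N(⁅V, zpowers x⁆) := fun g hg => mem_N_of_cj_le (by
  rw [cj_comm, cj_eq_self (hA hg)]
  refine (comm_mono le_rfl (cj_le_sup_comm hg)).trans (comm_sup_le' ?_ le_rfl ?_ norm_comm_right)
  · rw [comm_eq_bot_iff.2 (cent_symm h)]; exact bot_le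
  · exact h.trans (C_anti (comm_le_left (zpowers_le.2 hx))) |>.trans C_le_N)

/-- the commutator group `[M, x]` -/
def Wd (M : Subgroup G) (x : G) : Subgroup G := ⁅M, zpowers x⁆

structure Ctx (M H : Subgroup G) : Prop where
  elem : Elem 2 M
  nml : ⊤ ≤ N(M)
  odd : PiGrp {2}ᶜ H
  solv : Solv H

structure Gd (M H : Subgroup G) (x : G) : Prop where
  mem : x ∈ H
  three : PiElt {3} x
  card : Nat.card (Wd M x) = 4

namespace Ctx
variable (c : Ctx M H)
include c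

omit [Finite G] in
theorem nm : A ≤ N(M) := le_top.trans c.nml
omit [Finite G] in
theorem Wd_le : Wd M x ≤ M := comm_le_left c.nm
omit [Finite G] in
theorem cj_Wd : cj g (Wd M x) = Wd M (g * x * g⁻¹) := by
  rw [Wd, cj_comm, cj_eq_self (c.nml (mem_top g)), cj_zpowers, Wd]
theorem cop (hA : A ≤ H) (hU : U ≤ M) (hn : A ≤ N(U)) : Cop A U :=
  cop_of_pi' hn (c.odd.of_le hA) ((c.elem.pi Nat.prime_two).of_le hU) (Or.inl (c.solv.of_le hA))
omit [Finite G] in
theorem conj (h : Gd M H x) (hg : g ∈ H) : Gd M H (g * x * g⁻¹) :=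
  ⟨mul_mem (mul_mem hg h.mem) (inv_mem hg), h.three.conj g, by rw [← c.cj_Wd, card_cj, h.card]⟩
theorem inf_C (hx : x ∈ H) : Wd M x ⊓ C(zpowers x) = ⊥ :=
  abel_comm_inf_cent c.elem.abel c.nm (c.cop (zpowers_le.2 hx) le_rfl c.nm).cop
omit [Finite G] in
theorem norm_of_le (hU : U ≤ M) (h : Wd M x ≤ U) : zpowers x ≤ N(U) :=
  norm_of_comm_le_of_le h hU
theorem comm_eq (hx : x ∈ H) (hU : U ≤ M) (h : Wd M x ≤ U) : ⁅U, zpowers x⁆ = Wd M x :=
  le_antisymm (comm_mono hU le_rfl) (by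
    have := (c.cop (zpowers_le.2 hx) le_rfl c.nm).comm_comm
    exact this.ge.trans (comm_mono h le_rfl))
omit [Finite G] in
theorem cent_of_disj (hU : U ≤ M) (hn : zpowers x ≤ N(U)) (hd : U ⊓ Wd M x = ⊥) : U ≤ C(zpowers x) :=
  comm_eq_bot_iff.1 (eq_bot_iff.2 (hd ▸ le_inf (comm_le_left hn) (comm_mono hU le_rfl)))
omit [Finite G] in
theorem nrm2 : Nrm2 (Wd M x) (Wd M y) := Or.inl (c.Wd_le.trans (c.elem.abel.norm c.Wd_le))

theorem pair (hx : Gd M H x) (hy : Gd M H y) (hd : Wd M x ⊓ Wd M y = ⊥) : Wd M x ≤ C(zpowers y) := by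
  set V := Wd M x ⊔ Wd M y with hV
  have VM : V ≤ M := sup_le c.Wd_le c.Wd_le
  have eV : Elem 2 V := c.elem.of_le VM
  have cV : Nat.card V = 2 ^ 4 := by rw [c.nrm2.card_sup_of_disj hd, hx.card, hy.card]; rfl
  set X := zpowers x ⊔ zpowers y with hX
  have XH : X ≤ H := sup_le (zpowers_le.2 hx.mem) (zpowers_le.2 hy.mem)
  have XV : X ≤ N(V) := sup_le (c.norm_of_le VM le_sup_left) (c.norm_of_le VM le_sup_right)
  have xX : x ∈ X := le_sup_left (a := zpowers x) (mem_zpowers x)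
  have yX : y ∈ X := le_sup_right (a := zpowers x) (mem_zpowers y)
  have Wx : ⁅V, zpowers x⁆ = Wd M x := c.comm_eq hx.mem VM le_sup_left
  have Wy : ⁅V, zpowers y⁆ = Wd M y := c.comm_eq hy.mem VM le_sup_right
  haveI : Finite (MulAut V) := Finite.of_injective _ (DFunLike.coe_injective (F := MulAut V))
  set f := actf V
  set Y := mim f X
  have dY : Nat.card Y ∣ 20160 := (card_subgroup_dvd_card Y).trans ((aut_dvd eV cV).trans (by decide))
  have oY : PiGrp {2}ᶜ Y := (c.odd.of_le XH).mim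
  have sY : Solv Y := (c.solv.of_le XH).mim
  have h1 : ∀ r : ℕ, r.Prime → r ≠ 3 → O[{r}](Y) = ⊥ := by
    intro r hr r3
    by_contra hne
    have pO : PiGrp {r} O[{r}](Y) := pcore_pi
    have rd : r ∣ Nat.card Y := (pO.dvd_card hne).trans (card_dvd pcore_le)
    have r2 : r ≠ 2 := fun e => oY.not_dvd' hr (e ▸ rfl) rd
    have r57 : r = 5 ∨ r = 7 := by
      have := rd.trans dY
      rw [show 20160 = 2 ^ 6 * 3 ^ 2 * 5 * 7 by norm_num] at this
      rcases (Nat.Prime.dvd_mul hr).1 this with h | h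
      · rcases (Nat.Prime.dvd_mul hr).1 h with h | h
        · rcases (Nat.Prime.dvd_mul hr).1 h with h | h
          · exact absurd ((Nat.prime_dvd_prime_iff_eq hr Nat.prime_two).1 (hr.dvd_of_dvd_pow h)) r2
          · exact absurd ((Nat.prime_dvd_prime_iff_eq hr Nat.prime_three).1 (hr.dvd_of_dvd_pow h)) r3
        · exact Or.inl ((Nat.prime_dvd_prime_iff_eq hr (by norm_num)).1 h)
      · exact Or.inr ((Nat.prime_dvd_prime_iff_eq hr (by norm_num)).1 h)
    obtain ⟨R, RX, hR, eR⟩ := exists_pGrp_lift hr XV (pcore_le (π := {r})) pO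
    set N := X ⊓ mpre f O[{r}](Y) with hN
    have nN : N ⊴ X := nml_inf_mpre XV pcore_nml.norm
    have NR : N ≤ R ⊔ C(V) := by
      rw [← mker_actf, ← mim_le_mim_iff (nN.le.trans XV) (RX.trans XV), eR]
      exact (mim_mono inf_le_right).trans mim_mpre_le
    have e0 : V ⊓ C(R) = V ⊓ C(N) := le_antisymm (le_inf inf_le_left
      ((cent_sup inf_le_right (cent_symm (C_anti inf_le_left))).trans (C_anti NR)))
      (inf_le_inf_left _ (C_anti hR.le))
    have m0 := fix hr hR.pi (RX.trans XV)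
    rw [cV] at m0
    have lt : V ⊓ C(R) < V := lt_of_le_of_ne inf_le_left fun e => hne (by
      rw [← eR, mim_eq_bot_iff (RX.trans XV), mker_actf]; exact cent_symm (e ▸ inf_le_right))
    have d0 : Nat.card ↥(V ⊓ C(R)) ∣ 2 ^ 4 := cV ▸ card_dvd inf_le_left
    have l0 : Nat.card ↥(V ⊓ C(R)) < 2 ^ 4 := cV ▸ card_lt lt
    obtain ⟨k, hk, ek⟩ := (Nat.dvd_prime_pow Nat.prime_two).1 d0
    rcases r57 with rfl | rfl
    · have e1 : Nat.card ↥(V ⊓ C(R)) = 1 := by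
        rw [ek] at m0 l0 ⊢; interval_cases k <;> simp_all [Nat.ModEq]
      have c5 : Nat.card O[{5}](Y) = 5 := by
        obtain ⟨j, hj⟩ := pO.card_eq_pow
        have h1 := (card_dvd (pcore_le (π := {5}))).trans dY
        have h2 := pO.dvd_card hne
        rw [hj] at h1 h2 ⊢
        rcases j with _ | _ | j
        · simp at h2
        · rfl
        · exact absurd ((pow_dvd_pow 5 (by omega : 2 ≤ j + 1 + 1)).trans h1) (by decide)
      have xn : zpowers (mfun f x) ≤ N(O[{5}](Y)) := (zpowers_le.2 (mfun_mem_mim xX)).trans pcore_nml.norm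
      have xc : zpowers (mfun f x) ≤ C(O[{5}](Y)) := relIndex_eq_one_iff.1
        (((hx.three.mfun (XV xX)).zpowers.relIndex (A := C(O[{5}](Y)))).eq_one
          (PiNat.of_dvd ((piNat_pow_self Nat.prime_two 2).p'_of_ne (by norm_num))
            (prime_relIndex_C_dvd hr c5 xn)))
      have cm : ⁅R, zpowers x⁆ ≤ C(V) := by
        rw [← mker_actf, comm_le_mker_iff (RX.trans XV) (zpowers_le.2 (XV xX)), eR, mim_zpowers (XV xX)]
        exact cent_symm xc
      have nW := norm_of_comm (RX.trans XV) (XV xX) cm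
      rw [Wx] at nW
      have m1 := fix hr hR.pi nW
      have : Wd M x ⊓ C(R) = ⊥ := eq_bot_iff.2 (card_eq_one.1 e1 ▸ inf_le_inf_right _ le_sup_left)
      rw [this, hx.card, card_bot] at m1
      exact absurd m1 (by decide)
    · have e2 : Nat.card ↥(V ⊓ C(N)) = 2 := by
        rw [← e0]; rw [ek] at m0 l0 ⊢; interval_cases k <;> simp_all [Nat.ModEq]
      have nV0 : X ≤ N(V ⊓ C(N)) := norm_inf XV (norm_C nN.norm)
      have cV0 : X ≤ C(V ⊓ C(N)) := relIndex_eq_one_iff.1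
        (Nat.dvd_one.1 (prime_relIndex_C_dvd Nat.prime_two e2 nV0))
      have cp := c.cop (nN.le.trans XH) VM (nN.le.trans XV)
      have key : ∀ t ∈ X, ⁅V, zpowers t⁆ ≤ ⁅V, N⁆ := fun t ht => by
        have nt : zpowers t ≤ N(⁅V, N⁆) := (zpowers_le.2 ht).trans (norm_comm XV nN.norm)
        refine (comm_mono cp.comm_sup.ge le_rfl).trans (comm_sup_le (comm_le_left nt) ?_ le_N ?_)
        · rw [comm_eq_bot_iff.2 (cent_symm ((zpowers_le.2 ht).trans cV0))]; exact bot_le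
        · exact inf_le_left.trans norm_comm_left
      have : V ⊓ C(N) = ⊥ := eq_bot_iff.2 (abel_comm_inf_cent eV.abel cp.norm cp.cop ▸
        inf_le_inf_right _ (sup_le (Wx ▸ key x xX) (Wy ▸ key y yX)))
      rw [this, card_bot] at e2
      omega
  have hF : F(Y) ≤ O[{3}](Y) := fit_le_of_pcores fun p hp _ => by
    by_cases e : p = 3
    · rw [e]
    · rw [h1 p hp e]; exact bot_le
  have ab : ∀ P, Hall {3} P Y → Abel P := fun P hP => by
    obtain ⟨j, hj⟩ := hP.pi.card_eq_pow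
    have h1 := (card_dvd hP.le).trans dY
    rw [hj] at h1
    rcases j with _ | _ | _ | j
    · rw [card_eq_one.1 hj]; exact abel_bot
    · exact abel_of_prime (hj ▸ Nat.prime_three)
    · exact abel_of_card_sq Nat.prime_three hj
    · exact absurd ((pow_dvd_pow 3 (by omega : 3 ≤ j + 1 + 1 + 1)).trans h1) (by decide)
  have mem : ∀ t ∈ X, PiElt {3} t → zpowers (mfun f t) ≤ O[{3}](Y) := fun t ht h3 => by
    obtain ⟨P, hP, le⟩ : ∃ P, Hall {3} P Y ∧ zpowers (mfun f t) ≤ P :=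
      exists_sylow_le Nat.prime_three (h3.mfun (XV ht)).zpowers (zpowers_le.2 (mfun_mem_mim ht))
    exact le.trans ((le_inf hP.le ((ab P hP).trans (C_anti (hF.trans hP.pcore_le)))).trans
      ((cent_sub_Fitting sY).trans hF))
  obtain ⟨P, hP⟩ : ∃ P, Hall {3} P Y := exists_sylow Nat.prime_three Y
  have cm : ⁅zpowers y, zpowers x⁆ ≤ C(V) := by
    rw [← mker_actf, comm_le_mker_iff (zpowers_le.2 (XV yX)) (zpowers_le.2 (XV xX)), mim_zpowers (XV xX),
      mim_zpowers (XV yX)]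
    exact cent_mono ((ab P hP).mono hP.pcore_le) (mem y yX hy.three) (mem x xX hx.three)
  have nW := norm_of_comm (zpowers_le.2 (XV yX)) (XV xX) cm
  rw [Wx] at nW
  exact c.cent_of_disj c.Wd_le nW hd

theorem card_inf (hx : Gd M H x) (h : ¬ Wd M x ≤ U) (h1 : Wd M x ⊓ U ≠ ⊥) : Nat.card ↥(Wd M x ⊓ U) = 2 :=
  H18.card_eq_of_lt_sq Nat.prime_two hx.card (lt_of_le_of_ne inf_le_left fun e => h (e ▸ inf_le_right)) h1

theorem not_le (hx : Gd M H x) (hy : Gd M H y) (h : Wd M x ≠ Wd M y) : ¬ Wd M x ≤ Wd M y :=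
  fun e => h (eq_of_card_eq e (hx.card.trans hy.card.symm))

theorem card_sup (hx : Gd M H x) (hy : Gd M H y) (h : Wd M x ≠ Wd M y) (h1 : Wd M x ⊓ Wd M y ≠ ⊥) :
    Nat.card ↥(Wd M x ⊔ Wd M y) = 8 := by
  have := (c.nrm2 (x := x) (y := y)).card_sup
  rw [c.card_inf hx (c.not_le hx hy h) h1, hx.card, hy.card] at this
  omega

theorem meet (hx : Gd M H x) (hy : Gd M H y) (hU : Nat.card U = 8) (h1 : Wd M x ≤ U) (h2 : Wd M y ≤ U) :
    Wd M x ⊓ Wd M y ≠ ⊥ := fun e => by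
  have := card_mul_le h1 h2
  rw [e, hx.card, hy.card, hU, card_bot] at this
  omega

theorem sup_eq (hx : Gd M H x) (hy : Gd M H y) (hU : Nat.card U = 8) (h1 : Wd M x ≤ U) (h2 : Wd M y ≤ U)
    (h : Wd M x ≠ Wd M y) : Wd M x ⊔ Wd M y = U :=
  eq_of_card_eq (sup_le h1 h2) ((c.card_sup hx hy h (c.meet hx hy hU h1 h2)).trans hU.symm)

theorem eq_one_of_C (hx : x ∈ H) {v : G} (hv : v ∈ Wd M x) (h : v ∈ C(zpowers x)) : v = 1 :=
  eq_one_of_eq_bot (c.inf_C hx) ⟨hv, h⟩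

theorem eq_of_mem2 {K : Subgroup G} (hK : Nat.card K = 2) {a b : G} (ha : a ∈ K) (hb : b ∈ K) (a1 : a ≠ 1)
    (b1 : b ≠ 1) : a = b := by
  classical
  have h := zpowers_eq_of_prime (hK ▸ Nat.prime_two) ha a1
  have o : orderOf a = 2 := by rw [← card_zpowers', h, hK]
  rw [← h, mem_zpowers_iff_mem_range_orderOf, o] at hb
  simp only [Finset.mem_image, Finset.mem_range] at hb
  obtain ⟨i, hi, rfl⟩ := hb
  interval_cases i
  · exact absurd (pow_zero a) b1
  · exact (pow_one a).symm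

/-- two distinct planes avoiding `v` -/
theorem avoid (hU : Nat.card U = 8) (hUM : U ≤ M) (hx : Gd M H x) (hy : Gd M H y) (h1 : Wd M x ≤ U)
    (h2 : Wd M y ≤ U) {v : G} (vx : v ∉ Wd M x) (vy : v ∈ Wd M y) :
    ∃ z, Gd M H z ∧ Wd M z ≤ U ∧ v ∉ Wd M z ∧ Wd M z ≠ Wd M x := by
  have ne : Wd M x ≠ Wd M y := fun e => vx (e ▸ vy)
  have c2 := c.card_inf hx (c.not_le hx hy ne) (c.meet hx hy hU h1 h2)
  have v1 : v ≠ 1 := fun e => vx (e ▸ one_mem _)
  have yn : zpowers y ≤ N(Wd M y) := norm_comm_right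
  have key : ∀ g ∈ zpowers y, C(zpowers g) ≤ C(zpowers y) → g⁻¹ * v * g ∉ Wd M x →
      ∃ z, Gd M H z ∧ Wd M z ≤ U ∧ v ∉ Wd M z ∧ Wd M z ≠ Wd M x := fun g hg hc e => by
    refine ⟨g * x * g⁻¹, c.conj hx (zpowers_le.2 hy.mem hg), ?_, ?_, fun e' => ?_⟩
    · rw [← c.cj_Wd]; exact cj_le_of_mem_N h1 (c.norm_of_le hUM h2 hg)
    · rwa [← c.cj_Wd, mem_cj]
    · rw [← c.cj_Wd, ← mem_N_iff_cj] at e'
      have n2 : zpowers g ≤ N(Wd M x ⊓ Wd M y) := norm_inf (zpowers_le.2 e') (zpowers_le.2 (yn hg))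
      have cc : zpowers g ≤ C(Wd M x ⊓ Wd M y) := relIndex_eq_one_iff.1
        (Nat.dvd_one.1 (prime_relIndex_C_dvd Nat.prime_two c2 n2))
      have : Wd M x ⊓ Wd M y = ⊥ := eq_bot_iff.2 (c.inf_C hy.mem ▸ le_inf inf_le_right ((cent_symm cc).trans hc))
      rw [this, card_bot] at c2
      omega
  by_cases e1 : y⁻¹ * v * y ∈ Wd M x
  · refine key y⁻¹ (inv_mem (mem_zpowers y)) (by rw [zpowers_inv]) fun e2 => ?_
    have a1 : y⁻¹ * v * y ≠ 1 := fun e => v1 (by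
      have : v = y * (y⁻¹ * v * y) * y⁻¹ := by group
      rw [this, e]; group)
    have a2 : y⁻¹⁻¹ * v * y⁻¹ ≠ 1 := fun e => v1 (by
      have : v = y⁻¹ * (y⁻¹⁻¹ * v * y⁻¹) * y := by group
      rw [this, e]; group)
    have e3 := c.eq_of_mem2 c2 ⟨e1, conj_mem' yn (mem_zpowers y) vy⟩
      ⟨e2, conj_mem' yn (inv_mem (mem_zpowers y)) vy⟩ a1 a2
    have e4 : v ∈ C(zpowers (y ^ 2)) := by
      rw [C_zpowers, mem_C1]
      calc v * y ^ 2 = y * (y⁻¹ * v * y) * y := by rw [pow_two]; group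
        _ = y ^ 2 * v := by rw [e3, pow_two]; group
    have e5 : zpowers y ≤ zpowers (y ^ 2) := by
      rw [zpowers_le]
      exact (mem_zpowers_pow_iff.2 (((piNat_self Nat.prime_two).coprime (hy.three.p'_of_ne (by norm_num))).gcd_eq_one))
    exact v1 (c.eq_one_of_C hy.mem vy (C_anti e5 e4))
  · exact key y (mem_zpowers y) le_rfl e1

theorem le_of_meet (hx : Gd M H x) (hy : Gd M H y) (hz : Gd M H z) (h : Wd M x ≠ Wd M y)
    (h1 : Wd M x ⊓ Wd M y ≠ ⊥) (h2 : Wd M z ⊓ (Wd M x ⊔ Wd M y) ≠ ⊥) : Wd M z ≤ Wd M x ⊔ Wd M y := by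
  by_contra hn
  have hU := c.card_sup hx hy h h1
  set U := Wd M x ⊔ Wd M y
  have UM : U ≤ M := sup_le c.Wd_le c.Wd_le
  have c2 := c.card_inf hz hn h2
  obtain ⟨v, hv, v1⟩ := exists_mem_ne_one' h2
  have cen : ∀ t, Gd M H t → Wd M t ≤ U → v ∉ Wd M t → Wd M t ≤ C(zpowers z) := fun t ht le nv =>
    c.pair ht hz (by
      by_contra e
      obtain ⟨w, hw, w1⟩ := exists_mem_ne_one' e
      exact nv (c.eq_of_mem2 c2 ⟨hw.2, le hw.1⟩ hv w1 v1 ▸ hw.1))
  have fin : ∀ s t, Gd M H s → Gd M H t → Wd M s ≤ U → Wd M t ≤ U → v ∉ Wd M s → v ∉ Wd M t →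
      Wd M s ≠ Wd M t → False := fun s t hs ht ls lt ns nt ne => v1 (c.eq_one_of_C hz.mem hv.1
        (sup_le (cen s hs ls ns) (cen t ht lt nt) ((c.sup_eq hs ht hU ls lt ne).ge hv.2)))
  have fin2 : ∀ s t, Gd M H s → Gd M H t → Wd M s ≤ U → Wd M t ≤ U → v ∉ Wd M s → v ∈ Wd M t → False :=
    fun s t hs ht ls lt ns nt => by
      obtain ⟨w, hw, lw, nw, ne⟩ := c.avoid hU UM hs ht ls lt ns nt
      exact fin w s hw hs lw ls nw ns ne
  by_cases vx : v ∈ Wd M x <;> by_cases vy : v ∈ Wd M y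
  · have yn : zpowers y ≤ N(Wd M y) := norm_comm_right
    refine fin2 (y * x * y⁻¹) y (c.conj hx hy.mem) hy ?_ le_sup_right ?_ vy
    · rw [← c.cj_Wd]; exact cj_le_of_mem_N le_sup_left (c.norm_of_le UM le_sup_right (mem_zpowers y))
    · rw [← c.cj_Wd, mem_cj]
      intro e
      have a1 : y⁻¹ * v * y ≠ 1 := fun e => v1 (by
        have : v = y * (y⁻¹ * v * y) * y⁻¹ := by group
        rw [this, e]; group)
      have e3 := c.eq_of_mem2 (c.card_inf hx (c.not_le hx hy h) h1) ⟨e, conj_mem' yn (mem_zpowers y) vy⟩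
        ⟨vx, vy⟩ a1 v1
      refine v1 (c.eq_one_of_C hy.mem vy ?_)
      rw [C_zpowers, mem_C1]
      calc v * y = y * (y⁻¹ * v * y) := by group
        _ = y * v := by rw [e3]
  · exact fin2 y x hy hx le_sup_right le_sup_left vy vx
  · exact fin2 x y hx hy le_sup_left le_sup_right vx vy
  · exact fin x y hx hy le_sup_left le_sup_right vx vy h

theorem trans (hx : Gd M H x) (hy : Gd M H y) (hz : Gd M H z) (h1 : Wd M x ⊓ Wd M y ≠ ⊥)
    (h2 : Wd M y ⊓ Wd M z ≠ ⊥) : Wd M x ⊓ Wd M z ≠ ⊥ := by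
  by_cases h : Wd M x = Wd M y
  · rwa [h]
  exact c.meet hx hz (c.card_sup hx hy h h1) le_sup_left (c.le_of_meet hx hy hz h h1
    fun e => h2 (eq_bot_iff.2 (e ▸ le_inf inf_le_right (inf_le_left.trans le_sup_right))))

/-- the stabilizer of the class of `[M, x]` -/
def Stab (hx : Gd M H x) : Subgroup G where
  carrier := {g | g ∈ H ∧ Wd M x ⊓ cj g (Wd M x) ≠ ⊥}
  one_mem' := ⟨one_mem _, by
    rw [cj_one, inf_idem]; intro e; have := hx.card; rw [e, card_bot] at this; omega⟩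
  mul_mem' := by
    rintro a b ⟨ha, h1⟩ ⟨hb, h2⟩
    refine ⟨mul_mem ha hb, ?_⟩
    have h3 : cj a (Wd M x) ⊓ cj (a * b) (Wd M x) ≠ ⊥ := by rwa [cj_mul, ← cj_inf, Ne, cj_eq_bot]
    rw [c.cj_Wd] at h1 h3 ⊢
    rw [c.cj_Wd] at h3
    exact c.trans hx (c.conj hx ha) (c.conj hx (mul_mem ha hb)) h1 h3
  inv_mem' := by
    rintro a ⟨ha, h1⟩
    refine ⟨inv_mem ha, fun e => h1 ?_⟩
    rw [← cj_eq_bot (g := a), cj_inf, cj_cj_inv, inf_comm] at e
    exact e

theorem mem_Stab (hx : Gd M H x) : g ∈ c.Stab hx ↔ g ∈ H ∧ Wd M x ⊓ cj g (Wd M x) ≠ ⊥ := Iff.rfl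

theorem final' {F : Subgroup G} (hr : r.Prime) (r2 : r ≠ 2) (hF : PElem r 3 F ⊤) (hUM : U ≤ M)
    (hU : Nat.card U = 4 ∨ Nat.card U = 8) (hn : F ≤ N(U)) (hW : V ≤ U) : ¬ Cyc (F ⊓ C(V)) := by
  have d : Nat.card (MulAut U) ∣ 168 := by
    rcases hU with h | h
    · exact (aut_dvd (n := 2) (c.elem.of_le hUM) h).trans (by decide)
    · exact (aut_dvd (n := 3) (c.elem.of_le hUM) h).trans (by decide)
  have d2 := (relIndex_C_dvd_card_aut hn).trans d
  obtain ⟨k, hk⟩ := ((hF.pi hr).relIndex (A := C(U))).eq_pow relIndex_ne_zero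
  have k1 : k ≤ 1 := by
    by_contra e
    have h2 : r ^ 2 ∣ 168 := (hk ▸ pow_dvd_pow r (by omega : 2 ≤ k)).trans d2
    have h3 : r ^ 2 ≤ 168 := Nat.le_of_dvd (by norm_num) h2
    have h4 : r < 13 := by nlinarith
    have := hr.two_le
    interval_cases r <;> first | omega | (norm_num at hr)
  have h5 := prank_le_add_of_relIndex (k := 1) hr (inf_le_left (a := F) (b := C(U)))
    (by rw [relIndex_inf_left, hk]; exact Nat.pow_le_pow_right hr.pos k1)
  rw [hF.prank_eq hr] at h5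
  exact fun e => not_cyc_of_prank hr (by omega) (e.of_le (inf_le_inf_left _ (C_anti hW)))

theorem final {F : Subgroup G} (hx : Gd M H x) (hr : r.Prime) (r2 : r ≠ 2) (hF : PElem r 3 F ⊤)
    (h : F ≤ c.Stab hx) : ¬ Cyc (F ⊓ C(Wd M x)) := by
  by_cases hn : F ≤ N(Wd M x)
  · exact c.final' hr r2 hF c.Wd_le (Or.inl hx.card) hn le_rfl
  obtain ⟨e, he, en⟩ := SetLike.not_le_iff_exists.1 hn
  have ge := c.conj hx (h he).1
  have ne : Wd M x ≠ Wd M (e * x * e⁻¹) := fun e' => en (by rw [mem_N_iff_cj, c.cj_Wd, ← e'])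
  have mt : Wd M x ⊓ Wd M (e * x * e⁻¹) ≠ ⊥ := by rw [← c.cj_Wd]; exact (h he).2
  have key : ∀ g ∈ F, cj g (Wd M x) ≤ Wd M x ⊔ Wd M (e * x * e⁻¹) := fun g hg => by
    have := (h hg).2
    rw [c.cj_Wd] at this ⊢
    exact c.le_of_meet hx ge (c.conj hx (h hg).1) ne mt
      fun e' => this (eq_bot_iff.2 ((le_inf inf_le_right (inf_le_left.trans le_sup_left)).trans e'.le))
  refine c.final' hr r2 hF (sup_le c.Wd_le c.Wd_le) (Or.inr (c.card_sup hx ge ne mt))
    (fun g hg => mem_N_of_cj_le ?_) le_sup_left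
  rw [cj_sup]
  refine sup_le (key g hg) ?_
  have := key (g * e) (mul_mem hg he)
  rwa [cj_mul, c.cj_Wd (g := e)] at this

theorem cent_cj (hx : Gd M H x) (hg : g ∈ H) (h : g ∉ c.Stab hx) : x ∈ C(cj g (Wd M x)) := by
  have e : Wd M x ⊓ cj g (Wd M x) = ⊥ := by
    by_contra e; exact h ⟨hg, e⟩
  rw [c.cj_Wd] at e ⊢
  exact cent_symm (c.pair (c.conj hx hg) hx ((inf_comm _ _).trans e)) (mem_zpowers x)

theorem not_cent (hx : Gd M H x) : x ∉ C(Wd M x) := fun e => by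
  have : Wd M x = ⊥ := eq_bot_iff.2 ((le_inf le_rfl (cent_symm (zpowers_le.2 e))).trans (c.inf_C hx.mem).le)
  have h := hx.card
  rw [this, card_bot] at h
  omega

theorem three {E : Subgroup G} (hx : Gd M H x) (hH : PiGrp {3} H) (hE : PElem 3 3 E H) :
    ∃ F, PElem 3 3 F ⊤ ∧ F ≤ c.Stab hx := by
  haveI : Fact (Nat.Prime 3) := ⟨Nat.prime_three⟩
  have h1 : ∃ A : Subgroup H, A.Normal ∧ IsMulCommutative A ∧ (∀ a ∈ A, a ^ 3 = 1) ∧ Nat.card A = 3 ^ 3 := by
    by_contra e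
    push Not at e
    have := Cfsg.Agent.S0100.result (by norm_num) hH.isPGroup e (E.subgroupOf H)
      (haveI := hE.abel.comm; inferInstance) fun a ha => Subtype.ext (hE.elem.pow a ha)
    rw [card_subgroupOf hE.le, hE.card] at this
    omega
  obtain ⟨A, nA, cA, pA, kA⟩ := h1
  have nF : A.map H.subtype ⊴ H := nml_map_subtype
  have eF : Elem 3 (A.map H.subtype) := ⟨abel_of_comm inferInstance, by
    rintro _ ⟨a, ha, rfl⟩; exact congrArg Subtype.val (pA a ha)⟩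
  refine ⟨A.map H.subtype, ⟨le_top, eF, card_map_subtype.trans kA⟩, fun e he => ?_⟩
  by_contra h
  have eH := nF.le he
  have e3 : e * e * e = 1 := by rw [← eF.pow e he, pow_succ, pow_two]
  have hi : e⁻¹ ∉ c.Stab hx := fun e' => h (inv_inv e ▸ inv_mem e')
  have a1 := c.cent_cj hx eH h
  have a2 := c.cent_cj hx (inv_mem eH) hi
  have cF : x⁻¹ * (e * x * e⁻¹) ∈ A.map H.subtype := by
    have := mul_mem (conj_mem' nF.norm hx.mem he) (inv_mem he)
    simpa [mul_assoc] using this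
  have b1 : e * x * e⁻¹ ∈ C(Wd M x) := by
    have := conj_mem_cj (g := e) a2
    rwa [cj_C, cj_cj_inv] at this
  have b2 : e * x * e⁻¹ ∈ C(cj e⁻¹ (Wd M x)) := by
    have := conj_mem_cj (g := e) a1
    rwa [cj_C, cj_cj, ← inv_eq_of_mul_eq_one_left e3] at this
  have b3 := conj_mem_cj (g := e) (mul_mem (inv_mem a2) b2)
  rw [cj_C, cj_cj_inv, comm_of_cent eF.abel he cF, mul_inv_cancel_right] at b3
  have := inv_mem (mul_mem b3 (inv_mem b1))
  rw [mul_inv_cancel_right, inv_inv] at this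
  exact c.not_cent hx this

theorem large {p : ℕ} {e : G} (hx : Gd M H x) (hp : p.Prime) (p2 : p ≠ 2) (p3 : p ≠ 3) (eH : e ∈ H)
    (ep : e ^ p = 1) (h : e ∉ c.Stab hx) : ∃ F, PElem 3 3 F ⊤ ∧ F ≤ N(Wd M x) := by
  haveI : Fact (Nat.Prime 3) := ⟨Nat.prime_three⟩
  have e1 : e ≠ 1 := fun e' => h (e' ▸ one_mem _)
  have ce := card_zpowers_of_pow hp ep e1
  set A := H ⊓ ⨅ g : zpowers e, N(cj (g : G) (Wd M x)) with hA
  have AN : A ≤ N(Wd M x) := inf_le_right.trans ((iInf_le _ 1).trans (by simp))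
  have xA : x ∈ A := ⟨hx.mem, mem_iInf.2 fun g => by
    by_cases hg : (g : G) = 1
    · rw [hg, cj_one]; exact norm_comm_right (mem_zpowers x)
    · refine C_le_N (c.cent_cj hx (zpowers_le.2 eH g.2) fun e' => h ?_)
      exact zpowers_le.2 e' ((zpowers_eq_of_prime (ce ▸ hp) g.2 hg).ge (mem_zpowers e))⟩
  have nA : zpowers e ≤ N(A) := fun t ht => mem_N_of_finite fun a ha =>
    ⟨conj_mem_N (le_N (zpowers_le.2 eH ht)) ha.1, mem_iInf.2 fun g => by
      have := conj_mem_cj (g := t) (mem_iInf.1 ha.2 ⟨t⁻¹ * g, mul_mem (inv_mem ht) g.2⟩)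
      rwa [cj_N, cj_cj, mul_inv_cancel_left] at this⟩
  have nL : A ⊴ A ⊔ zpowers e := nml_sup_left nA
  obtain ⟨R, hR, xR⟩ := exists_sylow_le Nat.prime_three hx.three.zpowers (zpowers_le.2 xA)
  have fr := frattini_arg Nat.prime_three nL hR
  have h1 : ¬ (A ⊔ zpowers e) ⊓ N(R) ≤ N(Wd M x) := fun e' => h ⟨eH, by
    have : e ∈ N(Wd M x) := (fr.ge.trans (sup_le AN e')) (le_sup_right (a := A) (mem_zpowers e))
    rw [cj_eq_self this]
    have := (c.Stab hx).one_mem.2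
    rwa [cj_one] at this⟩
  have h2 : ∃ q, q.Prime ∧ ∃ n ∈ (A ⊔ zpowers e) ⊓ N(R), PiElt {q} n ∧ n ∉ N(Wd M x) := by
    by_contra e'
    push Not at e'
    exact h1 (le_of_pElts e')
  obtain ⟨q, hq, n, hn, qn, nW⟩ := h2
  have qp : q = p := by
    by_contra e'
    refine nW (AN (qn.mem_of_nml hn.1 nL ?_))
    rw [(Nrm2.symm (Or.inl nA)).relIndex_sup']
    exact ((piGrp_of_prime hp ce).relIndex).p'_of_ne (Ne.symm e')
  subst qp
  have nC : ¬ zpowers n ≤ C(R) := fun e' => nW (by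
    rw [mem_N_iff_cj, c.cj_Wd, comm_of_cent e' (mem_zpowers n) (xR (mem_zpowers x)), mul_inv_cancel_right])
  have d : q ∣ Nat.card (MulAut R) := by
    obtain ⟨k, hk⟩ := (qn.zpowers.relIndex (A := C(R))).eq_pow relIndex_ne_zero
    refine Dvd.dvd.trans ?_ (relIndex_C_dvd_card_aut (zpowers_le.2 hn.2))
    rw [hk]
    exact dvd_pow_self q fun e' => nC (relIndex_eq_one_iff.1 (by rw [hk, e', pow_zero]))
  have rk : 2 < prank 3 R := (lt_prank_iff Nat.prime_three).2 fun e' => by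
    have := (Cfsg.Agent.S0640.result (by norm_num) hR.pi.isPGroup e' q hp p3 d).2
    have := hp.two_le
    omega
  obtain ⟨F, hF⟩ := exists_pelem_of_lt Nat.prime_three rk
  exact ⟨F, hF.top, hF.le.trans (hR.le.trans AN)⟩

end Ctx
end H21.Blk
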