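import Cfsg.Agent.H8.Bs0b

/-! Bases of size two for coprime solvable groups: reduction to the primitive case (`main`, `imprim2`, `many`,
`mod_of_amb2`). -/

set_option autoImplicit false

namespace H21.BsM
open Subgroup Cfsg H18 H1 H21.Rb H8.Bs
open scoped commutatorElement

universe u

def IH2 (n : ℕ) : Prop :=
  ∀ (G : Type u) [Group G] [Finite G] (V A : Subgroup G), Nat.card V < n → T2 V A

section
variable {G : Type u} [Group G] [Finite G] {V A U W H K M : Subgroup G} {v w a : G} {p : ℕ}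

theorem red2 (ih : IH2.{u} (Nat.card V)) (h : ¬ MinNorm V A) : T2 V A := fun hV hn ho co hc => by
  by_cases h0 : V = ⊥
  · exact ⟨1, 1, one_mem _, one_mem _, fun a _ _ _ => by simp [h0]⟩
  obtain ⟨U, UV, hU⟩ := exists_minNorm h0 hn
  obtain ⟨W, h1, h2, h3, h4⟩ := hc U UV hU.norm
  have l1 : U < V := lt_of_le_of_ne UV fun e => h (e ▸ hU)
  have l2 : W < V := lt_of_le_of_ne h1 fun e => hU.ne_bot (by rw [← h3, e, inf_eq_left.2 UV])
  obtain ⟨v, w, r1⟩ := ih G U A (card_lt l1) (hV.mono UV) hU.norm ho (co.coprime_dvd_right (card_dvd UV))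
    (hc.sub hV UV hU.norm)
  obtain ⟨v', w', r2⟩ := ih G W A (card_lt l2) (hV.mono h1) h2 ho (co.coprime_dvd_right (card_dvd h1))
    (hc.sub hV h1 h2)
  exact ⟨_, _, h4 ▸ Reg.mul (h4 ▸ hV) hU.norm h2 h3 r1 r2⟩

theorem mem_of_pow' (hp : p.Coprime (Nat.card A)) (ha : a ∈ A) (h : a ^ p ∈ K) : a ∈ K :=
  zpowers_le.2 h (mem_zpowers_pow_iff.2 (hp.coprime_dvd_right (orderOf_dvd_card ha)))

theorem many (hp : p.Prime) (el : Elem p U) (co : p.Coprime (Nat.card H)) (h0 : U ≠ ⊥) (r : Reg U H v w) :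
    ∃ q : ℕ → G × G, (∀ k, Reg U H (q k).1 (q k).2) ∧ ∀ k < p, ∀ l < p, ∀ a ∈ H,
      a * (q k).1 * a⁻¹ = (q l).1 → a * (q k).2 * a⁻¹ = (q l).2 → k = l := by
  obtain ⟨v, w, r, v1⟩ : ∃ v w, Reg U H v w ∧ v ≠ 1 := by
    by_cases e : v = 1
    · by_cases e' : w = 1
      · obtain ⟨x, hx, x1⟩ := exists_mem_ne_one' h0
        exact ⟨x, 1, ⟨hx, one_mem _, fun a ha _ _ => r.2.2 a ha (by simp [e]) (by simp [e'])⟩, x1⟩
      · exact ⟨w, v, ⟨r.2.1, r.1, fun a ha h1 h2 => r.2.2 a ha h2 h1⟩, e'⟩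
    · exact ⟨v, w, r, e⟩
  have cp : ∀ (a : G) (k : ℕ), a * v * a⁻¹ = v → a * (w * v ^ k) * a⁻¹ = a * w * a⁻¹ * v ^ k := fun a k e => by
    conv_rhs => rw [← e, conj_pow]
    group
  refine ⟨fun k => (v, w * v ^ k), fun k => ⟨r.1, mul_mem r.2.1 (pow_mem r.1 _), fun a ha h1 h2 =>
    r.2.2 a ha h1 (mul_right_cancel ((cp a k h1).symm.trans h2))⟩, fun k hk l hl a ha h1 h2 => ?_⟩
  simp only at h1 h2
  rw [cp a k h1] at h2
  set d : G := v ^ l * (v ^ k)⁻¹ with hd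
  have e1 : a * w * a⁻¹ = w * d := by rw [hd, ← mul_assoc, ← h2]; group
  have e2 : a * d * a⁻¹ = d := by
    conv_rhs => rw [hd, ← h1, conj_pow, conj_pow]
    rw [hd]; group
  have e3 : ∀ n : ℕ, a ^ n * v * (a ^ n)⁻¹ = v ∧ a ^ n * w * (a ^ n)⁻¹ = w * d ^ n := fun n => by
    induction n with
    | zero => simp
    | succ n ih =>
      constructor
      · calc _ = a * (a ^ n * v * (a ^ n)⁻¹) * a⁻¹ := by group
          _ = v := by rw [ih.1, h1]
      · calc _ = a * (a ^ n * w * (a ^ n)⁻¹) * a⁻¹ := by group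
          _ = (a * w * a⁻¹) * (a * d * a⁻¹) ^ n := by rw [ih.2, conj_pow]; group
          _ = _ := by rw [e1, e2]; group
  have dU : d ∈ U := mul_mem (pow_mem r.1 _) (inv_mem (pow_mem r.1 _))
  have aC : a ∈ C(U) := mem_of_pow' co ha
    (r.2.2 _ (pow_mem ha _) (e3 p).1 (by rw [(e3 p).2, el.pow d dU, mul_one]))
  rw [conj_of_C aC r.2.1] at h2
  have := pow_injOn_Iio_orderOf (x := v) (by rw [el.orderOf hp r.1 v1]; exact hk)
    (by rw [el.orderOf hp r.1 v1]; exact hl) (mul_left_cancel h2)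
  exact this

theorem imprim2 (hG : Gluck3.{u}) (ih : IH2.{u} (Nat.card V)) (hp : p.Prime) (p2 : p ≠ 2) (el : Elem p V)
    (co : (Nat.card A).Coprime (Nat.card V)) (hm : MinNorm V A) (ho : Solv A)
    (hH : H ⋖ A) (hU : U ≤ V) (h0 : U ≠ ⊥) (hn : H ≤ N(U))
    (hd : U ⊓ ⨆ a : {a : G // a ∈ A ∧ a ∉ H}, cj a.1 U = ⊥) : ∃ v w, Reg V A v w := by
  classical
  have hV := el.abel
  set R := ⨆ a : {a : G // a ∈ A ∧ a ∉ H}, cj a.1 U with hR
  have HA : H ≤ A := hH.le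
  have RV : R ≤ V := iSup_le fun a => cj_le_of_mem_N hU (hm.norm a.2.1)
  have leR : ∀ a ∈ A, a ∉ H → cj a U ≤ R := fun a h1 h2 =>
    le_iSup (fun a : {a : G // a ∈ A ∧ a ∉ H} => cj a.1 U) ⟨a, h1, h2⟩
  have mU : MinNorm U H := ⟨h0, hn, fun X h1 h2 h3 => by
    have : V ≤ X ⊔ R := by
      rw [← span_cj hm (h1.trans hU) h2]
      refine iSup_le fun a => ?_
      by_cases e : (a : G) ∈ H
      · rw [cj_eq_self (h3 e)]; exact le_sup_left
      · exact ((cj_mono h1).trans (leR a a.2 e)).trans le_sup_right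
    have n2 : Nrm2 X R := Or.inl ((h1.trans hU).trans (hV.norm RV))
    have e := n2.modular h1
    rw [inf_eq_right.2 (hU.trans this), inf_comm, hd, sup_bot_eq] at e
    exact e.symm⟩
  have lt : U < V := lt_of_le_of_ne hU fun e => by
    obtain ⟨a, ha, aH⟩ := SetLike.exists_of_lt hH.lt
    have := leR a ha aH
    rw [e, cj_eq_self (hm.norm ha)] at this
    exact h0 (eq_bot_iff.2 (hd ▸ le_inf le_rfl (hU.trans this)))
  have pV : p ∣ Nat.card V := by
    obtain ⟨x, hx, x1⟩ := exists_mem_ne_one' hm.ne_bot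
    rw [← el.orderOf hp hx x1]; exact orderOf_dvd_card hx
  have pA : p.Coprime (Nat.card A) := (co.coprime_dvd_right pV).symm
  obtain ⟨v, w, r⟩ := ih G U H (card_lt lt) (hV.mono hU) hn (ho.of_le HA)
    ((co.coprime_dvd_left (card_dvd HA)).coprime_dvd_right (card_dvd hU)) (CR.of_min mU)
  obtain ⟨q, r, nc⟩ := many hp (el.of_le hU) (pA.coprime_dvd_right (card_dvd HA)) h0 r
  let ι := A ⧸ H.subgroupOf A
  haveI : Fintype ι := Fintype.ofFinite _
  let o : ι → G := fun ω => ((Quotient.out ω : A) : G)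
  have oA : ∀ ω, o ω ∈ A := fun ω => (Quotient.out ω : A).2
  let f : ι → Subgroup G := fun ω => cj (o ω) U
  have fV : ∀ ω, f ω ≤ V := fun ω => cj_le_of_mem_N hU (hm.norm (oA ω))
  have ind : ∀ i (s : Finset ι), i ∉ s → f i ⊓ s.sup f = ⊥ := fun i s hi => by
    rw [← cj_eq_bot (g := (o i)⁻¹), cj_inf, eq_bot_iff, ← hd]
    refine inf_le_inf (by simp [f]) ?_
    rw [cj_le_iff]
    refine Finset.sup_le fun j hj => ?_
    rw [← cj_le_iff, cj_cj]
    refine leR _ (mul_mem (inv_mem (oA i)) (oA j)) fun e => hi ?_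
    have : i = j := by
      rw [← i.out_eq', ← j.out_eq']
      exact QuotientGroup.eq.2 e
    exact this ▸ hj
  have co' : IsCoatom (H.subgroupOf A) :=
    coatom_iff_covBy.2 (by rwa [subgroupOf_map_subtype, inf_eq_left.2 HA])
  obtain ⟨c, cp, hD⟩ : ∃ c : ι → ℕ, (∀ ω, c ω < p) ∧ ∀ t : A, (∀ ω, c (t • ω) = c ω) → ∀ ω : ι, t • ω = ω := by
    by_cases p3 : p = 3
    · obtain ⟨c, hc⟩ := hG A _ ho co' (p3 ▸ (Nat.Prime.coprime_iff_not_dvd hp).1 pA)
      exact ⟨fun ω => c ω, fun ω => p3 ▸ (c ω).2, fun t ht => hc t fun ω => Fin.ext (ht ω)⟩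
    · obtain ⟨c, hc⟩ := gluck5 ho co'
      have := hp.five_le_of_ne_two_of_ne_three p2 p3
      exact ⟨fun ω => c ω, fun ω => (c ω).2.trans_le this, fun t ht => hc t fun ω => Fin.ext (ht ω)⟩
  have hh : ∀ (t : A) (ω : ι), (o (t • ω))⁻¹ * t * o ω ∈ H := fun t ω => by
    have : ((t • ω).out : A)⁻¹ * (t * ω.out) ∈ H.subgroupOf A :=
      QuotientGroup.eq.1 ((QuotientGroup.out_eq' _).trans (MulAction.Quotient.mk_smul_out _ t ω).symm)
    rw [mul_assoc]; exact this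
  let z : ℕ → Fin 2 → G := fun k => ![(q k).1, (q k).2]
  have zU : ∀ k i, z k i ∈ U := fun k i => by
    fin_cases i
    exacts [(r k).1, (r k).2.1]
  choose y yV hy using fun i => exists_prod hV fV ind (fun ω => o ω * z (c ω) i * (o ω)⁻¹)
    fun ω => conj_mem_cj (zU _ i)
  refine ⟨y 0, y 1, yV 0, yV 1, fun a ha e0 e1 => ?_⟩
  have e : ∀ i, a * y i * a⁻¹ = y i := fun i => by
    fin_cases i
    exacts [e0, e1]
  have k : ∀ ω i, ((o ((⟨a, ha⟩ : A) • ω))⁻¹ * a * o ω) * z (c ω) i * ((o ((⟨a, ha⟩ : A) • ω))⁻¹ * a * o ω)⁻¹ =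
      z (c ((⟨a, ha⟩ : A) • ω)) i := fun ω i => by
    have := hy i a (hm.norm ha) (MulAction.toPerm (⟨a, ha⟩ : A)) (fun ω => by
      simp only [f, MulAction.toPerm_apply]
      rw [cj_cj, le_cj_iff, cj_cj, ← mul_assoc, cj_eq_self (hn (hh ⟨a, ha⟩ ω))]) (e i) ω
    simp only [MulAction.toPerm_apply] at this
    calc _ = (o ((⟨a, ha⟩ : A) • ω))⁻¹ * (a * (o ω * z (c ω) i * (o ω)⁻¹) * a⁻¹) * o ((⟨a, ha⟩ : A) • ω) := by group
      _ = _ := by rw [this]; group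
  have fx := hD ⟨a, ha⟩ fun ω => (nc _ (cp _) _ (cp _) _ (hh ⟨a, ha⟩ ω) (k ω 0) (k ω 1)).symm
  have cf : ∀ ω, a ∈ C(f ω) := fun ω => by
    have h1 := hh ⟨a, ha⟩ ω
    have h2 := k ω
    rw [fx] at h1 h2
    simp only [f]
    rw [← cj_C, mem_cj]
    exact (r _).2.2 _ h1 (h2 0) (h2 1)
  rw [← span_cj hm hU h0]
  refine zpowers_le.1 (cent_iSup fun g => zpowers_le.2 ?_)
  obtain ⟨h, e⟩ := QuotientGroup.mk_out_eq_mul (H.subgroupOf A) g
  have := cf (QuotientGroup.mk g)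
  simp only [f, o] at this
  rwa [e, coe_mul, cj_mul, cj_eq_self (g := ((h : A) : G)) (hn h.2)] at this

theorem faithful2 (hP : Prim2.{u}) (hG : Gluck3.{u}) (ih : IH2.{u} (Nat.card V)) (hf : A ⊓ C(V) = ⊥) : T2 V A := by
  by_cases hm : MinNorm V A
  · intro hV hn ho co hc
    obtain ⟨p, hp, pV, el⟩ := hm.exists_elem hV.solv
    by_cases p2 : p = 2
    · exact H21.Rb.main V A hV hn (Nat.coprime_two_right.1 (co.coprime_dvd_right (p2 ▸ pV))) hc
    by_cases h : ∀ M, M ⊴ A → Abel M → Cyc M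
    · refine hP G V A (fun U T => ih G U T) hV hm ho hf co ?_ h
      rw [el.card_eq_pow_prank hp]
      exact (hp.odd_of_ne_two p2).pow
    · push Not at h
      obtain ⟨M, h1, h2, h3⟩ := h
      obtain ⟨H, U, k1, k2, k3, k4, k5⟩ := blocks_of_noncyc hV hm hf h1 h2 h3
      exact imprim2 hG ih hp p2 el co hm ho k1 k2 k3 k4 k5
  · exact red2 ih hm

end

theorem mod_of_amb2 {V A : Type*} [Group V] [Group A] {φ : A →* MulAut V} (h : T2 (hl φ ⊤) (hr φ ⊤))
    (hV : ∀ x y : V, x * y = y * x) (ho : Group.IsSolvable A) (co : (Nat.card A).Coprime (Nat.card V))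
    (hc : ∀ U : Subgroup V, (∀ a, ∀ x ∈ U, φ a x ∈ U) → ∃ W : Subgroup V, (∀ a, ∀ x ∈ W, φ a x ∈ W) ∧
      U ⊓ W = ⊥ ∧ U ⊔ W = ⊤) : ∃ v w, ∀ a, φ a v = v → φ a w = w → ∀ x, φ a x = x := by
  obtain ⟨v, w, hv, hw, r⟩ := h (abel_hl.2 (cent_iff.2 fun a _ b _ => hV a b)) hr_norm_top
    (solv_hr.2 solv_of_solv) (by simpa using co) fun U hU hn => by
      obtain ⟨U, -, rfl⟩ := exists_hl hU
      obtain ⟨W, h1, h2, h3⟩ := hc U fun a => hr_norm_iff.1 hn a (mem_top a)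
      exact ⟨hl φ W, hl_le_hl.2 le_top, hr_norm_iff.2 fun a _ => h1 a, by rw [← hl_inf, h2, hl_bot],
        by rw [← hl_sup, h3]⟩
  obtain ⟨v, -, rfl⟩ := mem_hl.1 hv
  obtain ⟨w, -, rfl⟩ := mem_hl.1 hw
  refine ⟨v, w, fun a h1 h2 x => ?_⟩
  have := r _ (inr_mem_hr.2 (mem_top a)) (by rw [inr_conj_inl, h1]) (by rw [inr_conj_inl, h2])
  have := conj_of_C this (inl_mem_hl.2 (mem_top x))
  rw [inr_conj_inl] at this
  exact SemidirectProduct.inl_injective this

theorem ih2_all (hP : Prim2.{u}) (hG : Gluck3.{u}) (n : ℕ) : IH2.{u} n := by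
  induction n with
  | zero => intro G _ _ V A h; omega
  | succ n ih =>
    intro G _ _ V A hlt hV hn ho co hc
    haveI : Finite (MulAut V) := Finite.of_injective _ (DFunLike.coe_injective (F := MulAut V))
    let φ := (mim (actf V) A).subtype
    have cV : Nat.card (hl φ ⊤) = Nat.card V := by simp
    obtain ⟨v, w, r⟩ := mod_of_amb2 (φ := φ) (faithful2 hP hG (fun G _ _ V A h => ih G V A (by omega)) (by
        refine eq_bot_iff.2 fun t ht => ?_
        obtain ⟨a, -, rfl⟩ := mem_hr.1 ht.1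
        have : a = 1 := Subtype.ext (MulEquiv.ext fun x => by
          have := conj_of_C ht.2 (inl_mem_hl.2 (mem_top x))
          rw [inr_conj_inl] at this
          exact SemidirectProduct.inl_injective this)
        rw [this, map_one]; exact one_mem _))
      (fun x y => Subtype.ext (comm_of_cent hV x.2 y.2)) ho.mim (co.coprime_dvd_left card_mim_dvd) fun U hU => by
        obtain ⟨W, h1, h2, h3, h4⟩ := hc (U.map V.subtype) (map_subtype_le _)
          (norm_map_subtype_of_actf hn fun a ha => hU ⟨_, mfun_mem_mim ha⟩)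
        refine ⟨W.subgroupOf V, ?_, ?_, ?_⟩
        · rintro ⟨_, ht⟩ x hx
          obtain ⟨a, ha, -, rfl⟩ := mem_mim.1 ht
          exact mem_subgroupOf.2 (actf_apply (hn ha) x ▸ conj_mem h2 ha hx)
        · refine eq_bot_iff.2 fun x hx => Subtype.ext (eq_one_of_eq_bot h3 ⟨mem_map_of_mem _ hx.1, hx.2⟩)
        · apply map_injective V.subtype_injective
          rw [Subgroup.map_sup, subgroupOf_map_subtype, inf_eq_left.2 h1, h4, ← MonoidHom.range_eq_map,
            range_subtype]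
    refine ⟨v, w, v.2, w.2, fun a ha h1 h2 => C_of_conj fun x hx => ?_⟩
    have := r ⟨_, mfun_mem_mim ha⟩ (Subtype.ext ((actf_apply (hn ha) v).trans h1))
      (Subtype.ext ((actf_apply (hn ha) w).trans h2)) ⟨x, hx⟩
    exact (actf_apply (hn ha) ⟨x, hx⟩).symm.trans (congrArg Subtype.val this)

theorem main (hP : Prim2.{u}) (hG : Gluck3.{u}) : Main.{u} := fun G _ _ V A =>
  ih2_all hP hG _ G V A (Nat.lt_succ_self _)

end H21.BsM
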