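import Cfsg.Agent.H8.Bs1

/-! Bases of size two, primitive case: two steps above a transitive bottom (`x3`); class two groups with
commutators and squares in `⟨z⟩` (`Ex`, `An`, `Ex.adjust`). -/

set_option autoImplicit false
set_option linter.unusedSectionVars false

namespace H21.BsX3
open Subgroup Cfsg H18 H21 H21.Rb H8.Bs
open scoped commutatorElement

section
variable {G : Type*} [Group G] {E N : Subgroup G} {z x y w : G}

/-- `x` and `y` anticommute -/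
def An (z x y : G) : Prop := x * y = z * (y * x)

structure Ex (E : Subgroup G) (z : G) : Prop where
  z1 : z ≠ 1
  z2 : z * z = 1
  zc : ∀ x ∈ E, x * z = z * x
  cm : ∀ x ∈ E, ∀ y ∈ E, Commute x y ∨ An z x y
  sq : ∀ x ∈ E, x * x = 1 ∨ x * x = z

theorem An.comm (h : An z x y) : ⁅x, y⁆ = z := by
  rw [commutatorElement_def, h]; group

theorem An.left (h : An z x w) (k : Commute y w) : An z (x * y) w := by
  unfold An at *
  rw [mul_assoc, k.eq, ← mul_assoc, h]; group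

namespace Ex
variable (c : Ex E z)
include c

theorem symm (h : An z x y) : An z y x := by
  unfold An at *
  rw [h, ← mul_assoc, c.z2, one_mul]

theorem not (h : An z x y) : ¬ Commute x y := fun k => c.z1 (by rw [← h.comm]; exact k.commutator_eq)

theorem right (hx : x ∈ E) (k : Commute x w) (h : An z y w) : An z (x * y) w := by
  unfold An at *
  rw [mul_assoc, h, ← mul_assoc, c.zc x hx, mul_assoc, ← mul_assoc x, k.eq, mul_assoc]

theorem both (hx : x ∈ E) (k : An z x w) (h : An z y w) : Commute (x * y) w := by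
  unfold An at *
  change x * y * w = w * (x * y)
  rw [mul_assoc, h, ← mul_assoc, c.zc x hx, mul_assoc, ← mul_assoc x, k, ← mul_assoc, ← mul_assoc, c.z2, one_mul,
    mul_assoc]

theorem inv (hx : x ∈ E) (h : An z x w) : An z x⁻¹ w := by
  have := c.symm h
  unfold An at *
  calc _ = x⁻¹ * (w * x) * x⁻¹ := by group
    _ = x⁻¹ * z * x * (w * x⁻¹) := by rw [this]; group
    _ = _ := by rw [mul_assoc x⁻¹, ← c.zc x hx]; group

theorem sqa (hx : x ∈ E) (h : An z x y) : x * y * (x * y) = z * (x * x * (y * y)) := by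
  have := c.symm h
  unfold An at this
  calc _ = x * (y * x) * y := by group
    _ = x * z * (x * y * y) := by rw [this]; group
    _ = _ := by rw [c.zc x hx]; group

omit c in
theorem sqc (h : Commute x y) : x * y * (x * y) = x * x * (y * y) := by
  calc _ = x * (y * x) * y := by group
    _ = _ := by rw [← h.eq]; group

theorem kill {n : G} (hn : n ∈ E) (hw : w ∈ E) (hy : y ∈ E) (h : An z y w) :
    ∃ a : Fin 2, Commute ((y ^ a.1)⁻¹ * n) w := by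
  rcases c.cm n hn w hw with k | k
  · exact ⟨0, by simpa using k⟩
  · exact ⟨1, by simpa using c.both (inv_mem hy) (c.inv hy h) k⟩

theorem adjust {x₁ x₂ b₁ b₂ : G} (NE : N ≤ E) (m1 : x₁ ∈ N) (m2 : x₂ ∈ N) (m3 : b₁ ∈ N) (m4 : b₂ ∈ N)
    (s3 : b₁ * b₁ = 1) (s4 : b₂ * b₂ = 1) (c14 : Commute x₁ b₂) (c34 : Commute b₁ b₂) (a1 : An z x₁ b₁)
    (a2 : An z x₂ b₂) : ∃ x₁ ∈ N, ∃ x₂ ∈ N, x₁ * x₁ = 1 ∧ x₂ * x₂ = 1 ∧ Commute x₁ x₂ ∧ Commute x₁ b₂ ∧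
      Commute x₂ b₁ ∧ An z x₁ b₁ ∧ An z x₂ b₂ := by
  obtain ⟨x₂, m2, a2, c23⟩ : ∃ x₂ ∈ N, An z x₂ b₂ ∧ Commute x₂ b₁ := by
    rcases c.cm _ (NE m2) _ (NE m3) with k | k
    · exact ⟨x₂, m2, a2, k⟩
    · exact ⟨x₂ * x₁, mul_mem m2 m1, a2.left c14, c.both (NE m2) k a1⟩
  obtain ⟨x₁, m1, a1, c14, c12⟩ : ∃ x₁ ∈ N, An z x₁ b₁ ∧ Commute x₁ b₂ ∧ Commute x₁ x₂ := by
    rcases c.cm _ (NE m1) _ (NE m2) with k | k
    · exact ⟨x₁, m1, a1, c14, k⟩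
    · exact ⟨x₁ * b₂, mul_mem m1 m4, a1.left c34.symm, c14.mul_left rfl, c.both (NE m1) k (c.symm a2)⟩
  obtain ⟨x₁, m1, a1, c14, c12, s1⟩ : ∃ x₁ ∈ N, An z x₁ b₁ ∧ Commute x₁ b₂ ∧ Commute x₁ x₂ ∧ x₁ * x₁ = 1 := by
    rcases c.sq _ (NE m1) with k | k
    · exact ⟨x₁, m1, a1, c14, c12, k⟩
    · exact ⟨x₁ * b₁, mul_mem m1 m3, a1.left rfl, c14.mul_left c34, c12.mul_left c23.symm, by
        rw [c.sqa (NE m1) a1, k, s3, mul_one, c.z2]⟩
  rcases c.sq _ (NE m2) with k | k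
  · exact ⟨x₁, m1, x₂, m2, s1, k, c12, c14, c23, a1, a2⟩
  · exact ⟨x₁, m1, x₂ * b₂, mul_mem m2 m4, s1, by rw [c.sqa (NE m2) a2, k, s4, mul_one, c.z2], c12.mul_right c14,
      c14, c23.mul_left c34.symm, a1, a2.left rfl⟩

end Ex
end

universe u

theorem x3 (h3 : Hard12.{u} 3) (h5 : Hard12.{u} 5) (h8 : Hard3.{u}) : X3.{u} := by
  intro G _ _ V A Z E B p x₁ x₂ b₁ b₂ e c hp el pA z4 u2 u1 hx2 nx2 hx1 nx1 he e1 tr
  obtain ⟨z, hz⟩ : ∃ z, z = ⁅x₁, b₁⁆ := ⟨_, rfl⟩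
  have zZ : z ∈ Z := hz ▸ c.cm hx1.1 u1.bE
  have oz : orderOf z = 2 := hz ▸ c.ord u1 hx1 nx1
  have z01 : ∀ y ∈ Z, y ^ 2 = 1 → y = 1 ∨ y = z := fun y hy k => by
    classical
    have := c.cyc.mem_of_pow (zpowers_le.2 zZ) hy (by rw [card_zpowers', oz, k])
    rw [mem_zpowers_iff_mem_range_orderOf, oz] at this
    obtain ⟨i, hi, rfl⟩ := Finset.mem_image.1 this
    have := Finset.mem_range.1 hi
    interval_cases i <;> simp
  have X : Ex E z := ⟨fun k => by simp [k] at oz, by rw [← sq, ← oz, pow_orderOf_eq_one],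
    fun x hx => (mem_C.1 (c.EC hx) z zZ).symm, fun x hx y hy => by
      refine (z01 _ (c.cm hx hy) ?_).imp commutatorElement_eq_one_iff_commute.1 fun k => by
        unfold An; rw [← k, commutatorElement_def]; group
      rw [← comm_pow_left (c.cmm hx hy hx)]
      exact commutatorElement_eq_one_iff_mul_comm.2 (mem_C.1 (c.EC hy) _ (c.sq z4 x hx).1),
    fun x hx => by
      rw [← sq]; exact z01 _ (c.sq z4 x hx).1 (by rw [← pow_mul]; exact (c.sq z4 x hx).2)⟩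
  have zi : ∀ v ∈ V, z * v * z⁻¹ = v⁻¹ := fun v hv => by
    have m : z * v * z⁻¹ ∈ V := conj_mem c.EV (c.ZE zZ) hv
    have : v * (z * v * z⁻¹) = 1 := by
      by_contra k
      refine X.z1 (c.z1 zZ (mul_mem hv m) k ?_)
      calc _ = z * v * z⁻¹ * ((z * z) * v * (z * z)⁻¹) := by group
        _ = _ := by rw [X.z2, comm_of_cent c.abV hv m]; group
    exact eq_inv_of_mul_eq_one_right this
  set B' := B ⊔ zpowers b₂ with hB'
  set B'' := B' ⊔ zpowers b₁ with hB''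
  set N := E ⊓ C(B) with hN
  have l1 : B ≤ B' := le_sup_left
  have l2 : B' ≤ B'' := le_sup_left
  have b1 : b₁ ∈ B'' := mem_sup_right (mem_zpowers _)
  have b2 : b₂ ∈ B' := mem_sup_right (mem_zpowers _)
  have m3 : b₁ ∈ N := ⟨u1.bE, C_anti l1 u1.bC⟩
  have m4 : b₂ ∈ N := ⟨u2.bE, u2.bC⟩
  have sB : ∀ b ∈ B'', b ∈ E → b * b = 1 := fun b h1 h2 =>
    eq_one_of_eq_bot u1.dj (mem_inf.2 ⟨mul_mem h1 h1, sq b ▸ (c.sq z4 b h2).1⟩)
  have c34 : Commute b₁ b₂ := (mem_C.1 u1.bC b₂ b2).symm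
  have an : ∀ x ∈ E, ∀ b ∈ E, x * b * x⁻¹ ≠ b → An z x b := fun x hx b hb k =>
    (X.cm x hx b hb).resolve_left fun l => k (by rw [l.eq, mul_inv_cancel_right])
  obtain ⟨x₁, m1, x₂, m2, s1, s2, c12, c14, c23, a1, a2⟩ := X.adjust (N := N) inf_le_left
    ⟨hx1.1, C_anti l1 hx1.2⟩ hx2 m3 m4 (sB _ b1 u1.bE) (sB _ (l2 b2) u2.bE) (mem_C.1 hx1.2 b₂ b2).symm c34
    (an _ hx1.1 _ u1.bE nx1) (an _ hx2.1 _ u2.bE nx2)
  clear hz hx2 nx2 hx1 nx1
  have cj_of : ∀ {x y : G}, Commute x y → x * y * x⁻¹ = y := fun l => by rw [l.eq, mul_inv_cancel_right]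
  have na : ∀ {x y : G}, An z x y → x * y * x⁻¹ ≠ y := fun l k => X.not l (mul_inv_eq_iff_eq_mul.1 k)
  set M := N ⊓ C1(x₁) ⊓ C1(x₂) ⊓ C1(b₁) ⊓ C1(b₂) with hM
  have mM : ∀ {m}, m ∈ M ↔ m ∈ N ∧ Commute m x₁ ∧ Commute m x₂ ∧ Commute m b₁ ∧ Commute m b₂ := fun {m} => by
    simp only [hM, mem_inf (p := _ ⊓ C1(_)), mem_inf (p := N), mem_C1, and_assoc]; rfl
  have MN : M ≤ N := fun m hm => (mM.1 hm).1
  have ME : ∀ {m}, m ∈ M → m ∈ E := fun hm => (MN hm).1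
  have M2 : ∀ m ∈ M, m ∈ E ⊓ C(B'') := fun m hm =>
    (c.memN u1).2 ⟨(c.memN u2).2 ⟨MN hm, cj_of (mM.1 hm).2.2.2.2⟩, cj_of (mM.1 hm).2.2.2.1⟩
  have reg : ∀ a ∈ V ⊓ C(B''), a ≠ 1 → Rg M B a := fun a ha a1' m hm k => by
    have h1 := (tr a ha a1').1 m (M2 m hm) k
    have k1 : x₁⁻¹ * m * x₁ = m := by rw [mul_assoc, (mM.1 hm).2.1.eq, inv_mul_cancel_left]
    have k2 : x₂⁻¹ * m * x₂ = m := by rw [mul_assoc, (mM.1 hm).2.2.1.eq, inv_mul_cancel_left]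
    have h2 := c.down u1 ((c.memN u2).2 ⟨m1, cj_of c14⟩) (na a1) h1 (by rwa [k1])
    exact c.down u2 m2 (na a2) h2 (by rwa [k2])
  have g2 : ∀ n ∈ N, Commute n b₁ → Commute n b₂ → ∃ k l : Fin 2, (b₂ ^ l.1)⁻¹ * ((b₁ ^ k.1)⁻¹ * n) ∈ M :=
    fun n hn k1 k2 => by
    obtain ⟨k, hk⟩ := X.kill hn.1 m1.1 m3.1 (X.symm a1)
    have n3 : (b₁ ^ k.1)⁻¹ * n ∈ N := mul_mem (inv_mem (pow_mem m3 _)) hn
    obtain ⟨l, hl⟩ := X.kill n3.1 m2.1 m4.1 (X.symm a2)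
    exact ⟨k, l, mM.2 ⟨mul_mem (inv_mem (pow_mem m4 _)) n3, (c14.symm.pow_left _).inv_left.mul_left hk, hl,
      (c34.symm.pow_left _).inv_left.mul_left (((Commute.refl b₁).pow_left _).inv_left.mul_left k1),
      ((Commute.refl b₂).pow_left _).inv_left.mul_left ((c34.pow_left _).inv_left.mul_left k2)⟩⟩
  have hd : ∀ q, p = q → HD q V N M B (A ⊓ N(B)) e x₁ x₂ b₁ b₂ := by
    rintro _ rfl
    refine ⟨el, inf_le_left.trans c.EV, inf_le_left.trans c.AV,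
      norm_inf (inf_le_left.trans c.nE.norm) (norm_C inf_le_right), fun k => pA (k.trans (card_dvd inf_le_left)),
      inf_le_right, MN, m1, m2, m3, m4, he.1, C_anti (l1.trans l2) he.2, e1, mem_C.1 he.2 _ b1,
      mem_C.1 he.2 _ (l2 b2), s1, s2, sB _ b1 u1.bE, sB _ (l2 b2) u2.bE, c12, c14, c23, c34, a1.comm ▸ zi,
      a2.comm ▸ zi, fun m hm => (mM.1 hm).2, fun n hn => ?_, reg e he e1⟩
    obtain ⟨a, ha⟩ := X.kill hn.1 m3.1 m1.1 a1
    have n1 : (x₁ ^ a.1)⁻¹ * n ∈ N := mul_mem (inv_mem (pow_mem m1 _)) hn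
    obtain ⟨b, hb⟩ := X.kill n1.1 m4.1 m2.1 a2
    obtain ⟨k, l, h⟩ := g2 _ (mul_mem (inv_mem (pow_mem m2 _)) n1) ((c23.pow_left _).inv_left.mul_left ha) hb
    exact ⟨a, b, k, l, _, h, by group⟩
  have tM : ∀ a ∈ V ⊓ C(B''), a ≠ 1 → ∃ m ∈ M, m * e * m⁻¹ = a := fun a ha a1' => by
    obtain ⟨n, hn, k⟩ := (tr a ha a1').2
    obtain ⟨k, l, h⟩ := g2 n ⟨hn.1, C_anti (l1.trans l2) hn.2⟩ (mem_C.1 hn.2 _ b1).symm (mem_C.1 hn.2 _ (l2 b2)).symm
    refine ⟨_, h, ?_⟩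
    have d : (b₂ ^ l.1)⁻¹ * (b₁ ^ k.1)⁻¹ ∈ B'' := mul_mem (inv_mem (pow_mem (l2 b2) _)) (inv_mem (pow_mem b1 _))
    calc _ = ((b₂ ^ l.1)⁻¹ * (b₁ ^ k.1)⁻¹) * (n * e * n⁻¹) * ((b₂ ^ l.1)⁻¹ * (b₁ ^ k.1)⁻¹)⁻¹ := by group
      _ = _ := by subst_vars; rw [mem_C.1 ha.2 _ d, mul_inv_cancel_right]
  have MU : ∀ m ∈ M, ∀ a ∈ V ⊓ C(B''), m * a * m⁻¹ ∈ V ⊓ C(B'') := fun m hm a ha =>
    conj_mem (norm_inf (inf_le_left.trans c.EV) (norm_C (cent_norm inf_le_right))) (M2 m hm) ha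
  have zM : z ∈ M := mM.2 ⟨⟨c.ZE zZ, cent_symm ((u2.BE).trans c.EC) zZ⟩, (X.zc _ m1.1).symm, (X.zc _ m2.1).symm,
    (X.zc _ m3.1).symm, (X.zc _ m4.1).symm⟩
  have oe : orderOf e = p := el.orderOf hp he.1 e1
  have e2 : e * e ≠ 1 := fun k => e1 (eq_one_of_inv c.odd he.1 (inv_eq_of_mul_eq_one_left k))
  obtain ⟨m₀, hm₀, k₀⟩ := tM (e * e) (mul_mem he he) e2
  by_cases sc : ∀ m ∈ M, m * e * m⁻¹ ∈ zpowers e
  · have k : ∀ j : ℕ, m₀ ^ j * e * (m₀ ^ j)⁻¹ = e ^ 2 ^ j := fun j => by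
      induction j with
      | zero => simp
      | succ j ih =>
        calc _ = m₀ * (m₀ ^ j * e * (m₀ ^ j)⁻¹) * m₀⁻¹ := by group
          _ = _ := by rw [ih, ← conj_pow, k₀, ← sq, ← pow_mul, ← pow_succ']
    have k4 := k 4
    rw [(c.sq z4 _ (ME hm₀)).2] at k4
    have : p ∣ 3 * 5 := by
      rw [← oe, orderOf_dvd_iff_pow_eq_one]
      have : e * e ^ (3 * 5) = e * 1 := by rw [← pow_succ']; simpa using k4.symm
      exact mul_left_cancel this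
    rcases (Nat.Prime.dvd_mul hp).1 this with l | l
    · exact h3 G V N M B _ e x₁ x₂ b₁ b₂ (hd 3 ((Nat.prime_dvd_prime_iff_eq hp Nat.prime_three).1 l)) sc
    · exact h5 G V N M B _ e x₁ x₂ b₁ b₂ (hd 5 ((Nat.prime_dvd_prime_iff_eq hp Nat.prime_five).1 l)) sc
  push Not at sc
  obtain ⟨i, hi, fi⟩ := sc
  have FA : ∀ m ∈ M, m * m = 1 → m ∈ B ∨ z * m ∈ B := fun m hm k => by
    have m' := MU m hm e he
    by_cases l : e * (m * e * m⁻¹) = 1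
    · refine Or.inr (reg e he e1 _ (mul_mem zM hm) ?_)
      calc _ = z * (m * e * m⁻¹) * z⁻¹ := by group
        _ = _ := by rw [zi _ m'.1, inv_eq_of_mul_eq_one_left l]
    · refine Or.inl (reg _ (mul_mem he m') l m hm ?_)
      calc _ = m * e * m⁻¹ * ((m * m) * e * (m * m)⁻¹) := by group
        _ = _ := by rw [k, comm_of_cent c.abV he.1 m'.1]; group
  have eB : ∀ b ∈ B, b * e * b⁻¹ = e := fun b hb => by rw [mem_C.1 he.2 b (l2 (l1 hb)), mul_inv_cancel_right]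
  have FB : ∀ m ∈ M, m ∈ B ∨ z * m ∈ B → m * e * m⁻¹ = e ∨ m * e * m⁻¹ = e⁻¹ := fun m hm k => k.imp (eB m) fun l => by
    rw [← inv_eq_iff_eq_inv, ← zi _ (MU m hm e he).1]
    conv_rhs => rw [← eB _ l]
    group
  have FC : ∀ m ∈ M, m * e * m⁻¹ ∉ zpowers e → m * m = z := fun m hm k =>
    (X.sq m (ME hm)).resolve_left fun l => k (by
      rcases FB m hm (FA m hm l) with l | l <;> rw [l]
      exacts [mem_zpowers e, inv_mem (mem_zpowers e)])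
  have fU := MU i hi e he
  have ef : e * (i * e * i⁻¹) ∉ zpowers e := fun k => fi (by simpa using mul_mem (inv_mem (mem_zpowers e)) k)
  obtain ⟨j, hj, kj⟩ := tM _ (mul_mem he fU) fun k => ef (k ▸ one_mem _)
  have fj : j * e * j⁻¹ ∉ zpowers e := kj ▸ ef
  have ii := FC i hi fi
  have jj := FC j hj fj
  have fij : i * j * e * (i * j)⁻¹ ∉ zpowers e := fun k => fi (by
    have : i * j * e * (i * j)⁻¹ = i * e * i⁻¹ * e⁻¹ := by
      calc _ = i * (j * e * j⁻¹) * i⁻¹ := by group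
        _ = i * e * i⁻¹ * ((i * i) * e * (i * i)⁻¹) := by rw [kj]; group
        _ = _ := by rw [ii, zi e he.1]
    rw [this] at k
    simpa using mul_mem k (mem_zpowers e))
  have kk := FC _ (mul_mem hi hj) fij
  have aij : An z i j := (X.cm i (ME hi) j (ME hj)).resolve_left fun l => X.z1 (by
    rw [← kk, Ex.sqc l, ii, jj, X.z2])
  have one : ∀ m ∈ M, ∀ k ∈ M, m * m = z → k * k = z → Commute k m → k⁻¹ * m ∈ B ∨ z * (k⁻¹ * m) ∈ B :=
    fun m hm k hk h1 h2 h3 => FA _ (mul_mem (inv_mem hk) hm) (by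
      rw [Ex.sqc h3.inv_left, h1, ← mul_inv_rev, h2, inv_mul_cancel])
  have cls : ∀ m ∈ M, m * m = z → ∃ k, (k = i ∨ k = j ∨ k = i * j) ∧ (k⁻¹ * m ∈ B ∨ z * (k⁻¹ * m) ∈ B) :=
    fun m hm h => by
    rcases X.cm i (ME hi) m (ME hm) with l1 | l1
    · exact ⟨i, Or.inl rfl, one m hm i hi h ii l1⟩
    rcases X.cm j (ME hj) m (ME hm) with l2 | l2
    · exact ⟨j, Or.inr (Or.inl rfl), one m hm j hj h jj l2⟩
    · exact ⟨_, Or.inr (Or.inr rfl), one m hm _ (mul_mem hi hj) h kk (X.both (ME hi) l1 l2)⟩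
  have p3 : p = 3 := by
    have : m₀ * m₀ = 1 := (X.sq _ (ME hm₀)).resolve_right fun h => by
      obtain ⟨k, h1, h2⟩ := cls m₀ hm₀ h
      have kM : k ∈ M := by rcases h1 with rfl | rfl | rfl <;> first | assumption | exact mul_mem hi hj
      have fk : k * e * k⁻¹ ∉ zpowers e := by rcases h1 with rfl | rfl | rfl <;> assumption
      have ee : e * e ∈ zpowers e := mul_mem (mem_zpowers e) (mem_zpowers e)
      have t : e * e = k * (k⁻¹ * m₀ * e * (k⁻¹ * m₀)⁻¹) * k⁻¹ := by rw [← k₀]; group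
      rcases FB _ (mul_mem (inv_mem kM) hm₀) h2 with l | l <;> rw [l] at t
      · exact fk (t ▸ ee)
      · rw [t] at ee
        exact fk (by simpa [mul_assoc] using inv_mem ee)
    rcases FB _ hm₀ (FA _ hm₀ this) with l | l <;> rw [k₀] at l
    · exact absurd (by simpa using l) e1
    · refine (Nat.prime_dvd_prime_iff_eq hp Nat.prime_three).1 ?_
      rw [← oe, orderOf_dvd_iff_pow_eq_one, pow_succ, sq, l, inv_mul_cancel]
  have zz : z⁻¹ = z := inv_eq_of_mul_eq_one_left X.z2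
  have i2 : i ^ 2 = z := by rw [sq, ii]
  have i3 : i ^ 3 = i * z := by rw [pow_succ', i2]
  refine h8 G V N M B _ e x₁ x₂ b₁ b₂ i j (hd 3 p3) hi hj (ii ▸ zi) (jj ▸ zi) (aij.comm ▸ zi)
    (kj ▸ mul_mem (mem_sup_left (mem_zpowers _)) (mem_sup_right (mem_zpowers _))) fun m hm => ?_
  rcases X.sq m (ME hm) with h | h
  · rcases FA m hm h with l | l
    · exact ⟨0, 0, by simpa using l⟩
    · exact ⟨2, 0, by simpa [i2, zz] using l⟩
  obtain ⟨k, rfl | rfl | rfl, l | l⟩ := cls m hm h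
  · exact ⟨1, 0, by simpa using l⟩
  · exact ⟨3, 0, by simpa [i3, zz, mul_assoc] using l⟩
  · exact ⟨0, 1, by simpa using l⟩
  · refine ⟨2, 1, ?_⟩
    change (i ^ 2 * k ^ 1)⁻¹ * m ∈ B
    rwa [i2, pow_one, ← X.zc k (ME hj), mul_inv_rev, zz, mul_assoc]
  · exact ⟨1, 1, by simpa using l⟩
  · refine ⟨3, 1, ?_⟩
    change (i ^ 3 * j ^ 1)⁻¹ * m ∈ B
    rwa [i3, pow_one, mul_assoc i, ← X.zc j (ME hj), ← mul_assoc i, mul_inv_rev, zz, mul_assoc]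

end H21.BsX3
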