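import Cfsg.Agent.H21.Crit
import Cfsg.Agent.H21.FrobB
import Cfsg.Agent.H1.BG3a

/-! Normal subgroups `N` whose noncentral elements have maximal centralizers (`CM N`): `CM.struct`
(`N / Z(N)` is elementary abelian or Frobenius with a complement of prime order), `CM.quot`. -/

set_option autoImplicit false
set_option linter.unusedSectionVars false

namespace H21
open Cfsg Subgroup H18 H1
open scoped commutatorElement

variable {G : Type*} [Group G] [Finite G] {A B H K L M N P T : Subgroup G} {p q r : ℕ} {x y g : G} {π : Set ℕ}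

theorem phi_le_coatom (hP : P ⊴ ⊤) (hM : IsCoatom M) : Φ(P) ≤ M := by
  by_contra h
  have e : Φ(P) ⊔ M = ⊤ := hM.2 _ (right_lt_sup.2 h)
  have e2 : P ⊓ M = P := phi_nongen inf_le_left (by
    rw [sup_comm, ← (hP.phi.nrm2 le_top).modular_left phi_le, e, inf_top_eq])
  exact h (phi_le.trans (e2.ge.trans inf_le_right))

theorem pnil_or_pi (hp : p.Prime) (h2 : p ≠ 2) (hn : M ≤ N(L)) (hN : Nil (L ⊓ M)) (hd : p ∣ Nat.card ↥(L ⊓ M))
    (hM : ∀ W, W ≤ L → W ≠ ⊥ → M ≤ N(W) → W = L ∨ L ⊓ N(W) ≤ M) : PNil p L ∨ PiGrp {p} L := by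
  have h1 := hN.pcore_hall.ne_bot_p hp hd
  have h3 : M ≤ N(O[{p}](L ⊓ M)) := norm_pcore (norm_inf hn le_N)
  have h4 : O[{p}](L ⊓ M) ≤ L := pcore_le.trans inf_le_left
  rcases hM _ h4 h1 h3 with e | e
  · exact Or.inr (e ▸ pcore_pi)
  have h5 : Hall {p} O[{p}](L ⊓ M) L :=
    H23.sylow_of_norm hp (hN.pcore_hall.of_le (le_inf h4 le_N) (le_inf inf_le_left e))
  obtain ⟨W, w1, w2, w3, w4⟩ := glauberman_char hp h2 (pcore_pi (H := L ⊓ M)) h1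
  rcases hM _ (w1.trans h4) w2 (h3.trans w3) with e | e
  · exact Or.inr (e ▸ pcore_pi.of_le w1)
  · exact Or.inl (w4 _ h5 (hN.of_le (le_inf inf_le_left e)).pcore_hall)

/-- the noncentral elements of the normal subgroup `N` have maximal centralizers -/
structure CM (N : Subgroup G) : Prop where
  nml : N ⊴ ⊤
  max : ∀ x ∈ N, x ∉ C(N) → IsCoatom C1(x)

namespace CM
variable (h : CM N)
include h

theorem eqC (hx : x ∈ N) (hx' : x ∉ C(N)) (hy : y ∉ C(N)) (e : C1(x) ≤ C1(y)) : C1(y) = C1(x) :=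
  ((h.max x hx hx').le_iff.1 e).resolve_left fun e => hy (le_C1_iff.1 (e ▸ le_top))

theorem two (hx : x ∈ N) (hx' : x ∉ C(N)) (hy : y ∈ N) (hc : y ∈ C1(x)) (h1 : PiElt π x) (h2 : PiElt πᶜ y) :
    C1(x) ≤ C1(y) := by
  have c : x * y = y * x := (mem_C1.1 hc).symm
  have e := h.eqC (mul_mem hx hy) (fun e => hx' (zpowers_le.2 e (mem_zpowers_mul_left c h1 h2))) hx'
    (C1_le_of_mem_zpowers (mem_zpowers_mul_left c h1 h2))
  exact e.le.trans (C1_le_of_mem_zpowers (mem_zpowers_mul_right c h1 h2))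

theorem dich (hx : x ∈ N) (hx' : x ∉ C(N)) (h1 : PiElt {p} x) :
    N ⊓ C1(x) ≤ C(C1(x)) ∨ ∀ y ∈ N ⊓ C1(x), PiElt {p}ᶜ y → y ∈ C(N) := by
  refine or_iff_not_imp_right.2 fun hn => ?_
  push Not at hn
  obtain ⟨y, hy, y1, y2⟩ := hn
  have e := h.eqC hx hx' y2 (h.two hx hx' hy.1 hy.2 h1 y1)
  intro w hw
  refine mem_of_parts (π := {p}) (le_C1_iff.1 (e.ge.trans ?_)) (le_C1_iff.1 ?_)
  · exact h.two hy.1 y2 (piPart_mem hw.1) (e ▸ piPart_mem hw.2) y1 piElt_piPart.compl_compl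
  · exact h.two hx hx' (piPart_mem hw.1) (piPart_mem hw.2) h1 piElt_piPart

theorem Znml : Z(N) ⊴ ⊤ := h.nml.Z

theorem nil (hx : x ∈ N) (hx' : x ∉ C(N)) (h1 : PiElt {p} x) : Nil (N ⊓ C1(x)) := by
  rcases h.dich hx hx' h1 with e | e
  · exact Abel.nil (e.trans (C_anti inf_le_right))
  · refine nil_of_quo_center (K := Z(N)) (inf_le_right.trans (C_anti inf_le_left)) (PiGrp.nil (p := p) ?_)
    refine piGrp_of_prime_elt fun z hz z1 => by_contra fun z2 => ?_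
    have z3 : PiElt {p}ᶜ z := (piNat_prime z1).2 z2
    obtain ⟨w, w1, -, w2, rfl⟩ := exists_piElt_lift hz z3
    rw [cs_eq_one (mem_inf.2 ⟨w1.1, e w w1 w2⟩), orderOf_one] at z1
    exact Nat.not_prime_one z1

theorem pcase (hp : p.Prime) (e : PiNat {p} (Z(N).relIndex N)) : ⁅N, N⁆ ≤ Z(N) ∧ ∀ x ∈ N, x ^ p ∈ Z(N) := by
  have hN : Nil N := nil_of_quo_center (K := Z(N)) inf_le_right (PiGrp.nil ((piGrp_quo_iff nml_Z.2).2 e))
  have s : O[{p}](N) ⊔ Z(N) = N := hN.pcore_hall.sup_of_idx inf_le_left e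
  have f : Φ(O[{p}](N)) ≤ Z(N) := le_inf (phi_le.trans pcore_le) (cent_symm fun x hx => le_C1_iff.1 (by
    by_cases hx' : x ∈ C(N)
    · exact (phi_le.trans pcore_le).trans (le_C1_iff.2 hx')
    · exact phi_le_coatom h.nml.pcore (h.max x hx hx')))
  obtain ⟨f1, f2⟩ := (pcore_pi.phi_le_iff hp).1 f
  have z : ∀ B, B ≤ N → ⁅B, Z(N)⁆ ≤ Z(N) := fun B hB => comm_le_right (hB.trans nml_Z.2)
  have n : ∀ B, B ≤ N → B ≤ N(Z(N)) := fun B hB => hB.trans nml_Z.2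
  refine ⟨?_, fun x hx => ?_⟩
  · conv_lhs => rw [← s]
    exact comm_sup_le (comm_sup_le' f1 (z _ pcore_le) (n _ pcore_le) le_N)
      (comm_le_left (n _ s.le)) (n _ pcore_le) le_N
  · rw [← s] at hx
    obtain ⟨a, ha, b, hb, rfl⟩ := (mem_sup_of_norm (n _ pcore_le)).1 hx
    rw [(show Commute a b from mem_C.1 hb.2 a (pcore_le ha)).mul_pow]
    exact mul_mem (f2 a ha) (pow_mem hb _)

theorem exists_elt (e : ¬ PiNat {r} (Z(N).relIndex N)) :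
    ∃ p, p.Prime ∧ p ≠ r ∧ ∃ x ∈ N, x ∉ C(N) ∧ PiElt {p} x := by
  obtain ⟨p, hp, hd, hr⟩ := exists_prime_not_mem e
  obtain ⟨P, hP⟩ := exists_sylow hp N
  by_contra hn
  push Not at hn
  have : P ≤ Z(N) := fun x hx => ⟨hP.le hx, by_contra fun e => hn p hp hr x (hP.le hx) e (hP.pi.elt hx)⟩
  exact (hP.idx_of_le this).not_dvd' hp rfl hd

theorem central (e : ∀ r, ¬ PiNat {r} (Z(N).relIndex N)) : Z(N) ≤ C((⊤ : Subgroup G)) := by
  refine le_of_pElts fun r hr z hz z1 => le_C1_iff.1 ?_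
  obtain ⟨p, hp, hr, x, hx, hx', x1⟩ := h.exists_elt (e r)
  have := h.two hx hx' hz.1 (mem_C1_comm.1 (le_C1_iff.2 hz.2 hx)) x1 (PiNat.p'_of_ne z1 hr.symm)
  exact ((h.max x hx hx').le_iff.1 this).elim Eq.ge fun e => (hx' (le_C1_iff.1 (e ▸ le_C1_iff.2 hz.2))).elim

theorem chief_pi (c : Chief ⊤ Z(N) L) (hL : L ≤ N) : ∃ r, r.Prime ∧ Elem r (L ⫽ Z(N)) := by
  have m := c.minNorm
  have n : ∀ B : Subgroup G, B ≤ N(Z(N)) := fun B => le_top.trans h.Znml.2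
  suffices ∃ r, PiGrp {r} (L ⫽ Z(N)) from let ⟨r, hr⟩ := this; ⟨r, hr.prime m.ne_bot, m.elem_of_pi hr⟩
  by_cases h2 : PiGrp {2} (L ⫽ Z(N))
  · exact ⟨2, h2⟩
  obtain ⟨p, hp, hd, hp2⟩ := exists_prime_not_mem h2
  obtain ⟨z, hz, z1⟩ := cauchy hp hd
  obtain ⟨x, x1, -, x2, rfl⟩ := exists_piElt_lift hz (show PiNat {p} (orderOf z) from z1.symm ▸ piNat_self hp)
  have x3 : x ∉ C(N) := fun e => by
    rw [cs_eq_one (mem_inf.2 ⟨hL x1, e⟩), orderOf_one] at z1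
    exact hp.one_lt.ne z1
  have hM := h.max x (hL x1) x3
  have zM : Z(N) ≤ C1(x) := fun w hw => C_le_C1 (hL x1) hw.2
  have q1 : (L ⊓ C1(x)) ⫽ Z(N) = L ⫽ Z(N) ⊓ C1(x) ⫽ Z(N) := quo_inf' c.nml
  have := pnil_or_pi (L := L ⫽ Z(N)) (M := C1(x) ⫽ Z(N)) hp hp2 (mim_norm (le_top.trans c.nmlU.2))
    (q1 ▸ ((h.nil (hL x1) x3 x2).of_le (inf_le_inf_right _ hL)).mim)
    (q1 ▸ z1 ▸ orderOf_dvd_card (mfun_mem_mim (mem_inf.2 ⟨x1, C1_self⟩))) fun W w1 w2 w3 => by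
      rcases hM.le_iff.1 (norm_mpre (n _) w3) with e | e
      · exact Or.inl (m.min W w1 w2 (by rw [← quo_qpre (U := W)]; exact mim_norm e.ge))
      · right
        rw [← quo_qpre (U := W), ← quo_inf_N nml_qpre_self, e]
        exact mim_mono inf_le_right
  rcases this with e | e
  · rcases m.eq_bot_or pcore_le (norm_pcore (π := {p}ᶜ) m.norm) with e' | e'
    · exact ⟨p, fun s hs sd => by simpa using (e' ▸ e : Hall {p}ᶜ ⊥ _).compl_of_eq_bot s hs sd⟩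
    · exact absurd hd ((piNat_compl_iff hp).1 (e' ▸ pcore_pi))
  · exact ⟨p, e⟩

end CM

/-- the configuration of the Frobenius case -/
structure CF (N L : Subgroup G) (r : ℕ) : Prop extends CM N where
  cen : Z(N) ≤ C((⊤ : Subgroup G))
  chief : Chief ⊤ Z(N) L
  le : L ≤ N
  prime : r.Prime
  elem : Elem r (L ⫽ Z(N))

namespace CF
variable (h : CF N L r)
include h

theorem n (B : Subgroup G) : B ≤ N(Z(N)) := le_top.trans h.Znml.2
theorem zC (x : G) : Z(N) ≤ C1(x) := h.cen.trans (C_le_C1 (mem_top x))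
theorem der : ⁅L, L⁆ ≤ Z(N) := (abel_quo_iff (h.n _)).1 h.elem.abel
theorem pow (hx : x ∈ L) : x ^ r ∈ Z(N) := by
  rw [← cs_eq_one_iff (h.n ⊤ (mem_top _)), mfun_pow (h.n ⊤ (mem_top _))]
  exact h.elem.pow _ (mfun_mem_mim hx)
theorem memZ (hx : x ∈ L) (e : PiElt {r}ᶜ x) : x ∈ Z(N) := by
  rw [← cs_eq_one_iff (h.n ⊤ (mem_top _))]
  exact (piElt_of_pow_eq_one h.prime (h.elem.pow _ (mfun_mem_mim hx))).eq_one' (e.mfun (h.n ⊤ (mem_top _)))

theorem le_or (hM : IsCoatom M) (z : Z(N) ≤ M) : L ≤ M ∨ (L ⊔ M = ⊤ ∧ L ⊓ M = Z(N)) := by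
  refine or_iff_not_imp_left.2 fun e => ?_
  have s : L ⊔ M = ⊤ := hM.2 _ (right_lt_sup.2 e)
  refine ⟨s, (h.chief.eq_or_eq (le_inf h.chief.le z) inf_le_left ?_).resolve_right fun e' => e (inf_eq_left.1 e')⟩
  rw [← s]
  exact sup_le (norm_of_der_le (h.der.trans (le_inf h.chief.le z)) inf_le_left)
    (norm_inf (le_top.trans h.chief.nmlU.2) le_N)

theorem modu (s : L ⊔ M = ⊤) (hB : L ≤ B) : B = L ⊔ (B ⊓ M) := by
  rw [← (h.chief.nmlU.nrm2 le_top).modular_left hB, s, inf_top_eq]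

theorem not_le (hx : x ∈ N) (hx' : x ∉ C(N)) (h1 : PiElt {p} x) (hr : p ≠ r) : ¬ L ≤ C1(x) := by
  intro hL
  have x1 : PiElt {r}ᶜ x := PiNat.p'_of_ne h1 hr
  obtain ⟨y, y1, y2, y3⟩ : ∃ y ∈ L, PiElt {r} y ∧ y ∉ C(N) := by
    by_contra hn
    push Not at hn
    exact h.chief.lt.not_ge fun y hy => mem_of_parts (π := {r})
      ⟨h.le (piPart_mem hy), hn _ (piPart_mem hy) piElt_piPart⟩ (h.memZ (piPart_mem hy) piElt_piPart)
  have hA := (h.dich hx hx' h1).resolve_right fun e => y3 (e y ⟨h.le y1, hL y1⟩ (PiNat.p'_of_ne y2 hr.symm))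
  obtain ⟨t, t1, t2⟩ : ∃ t ∈ N, t ∉ C1(x) := by
    by_contra hn
    push Not at hn
    exact hx' (le_C1_iff.1 hn)
  have t3 : t ∉ C(N) := fun e => t2 (C_le_C1 hx e)
  have a : N ⊓ C1(x) ⊓ C1(t) ≤ Z(N) := fun a ha => ⟨ha.1.1, le_C1_iff.1 (le_top.trans (Eq.ge
    ((h.max x hx hx').2 _ (lt_of_le_of_ne (le_C1_iff.2 (hA ha.1)) fun e => t2 (e ▸ mem_C1_comm.1 ha.2)))))⟩
  rcases h.le_or (h.max t t1 t3) (h.zC t) with e | ⟨e, -⟩
  · exact h.chief.lt.not_ge ((le_inf (le_inf h.le hL) e).trans a)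
  · have := h.modu e (le_inf h.le hL)
    have x2 : x ∈ L := (sup_le le_rfl (a.trans h.chief.le)) (this ▸ mem_inf.2 ⟨hx, C1_self⟩)
    exact hx' (h.memZ x2 x1).2

theorem inf_eq (hx : x ∈ N) (hx' : x ∉ C(N)) (h1 : PiElt {p} x) (hr : p ≠ r) :
    L ⊔ C1(x) = ⊤ ∧ L ⊓ C1(x) = Z(N) :=
  (h.le_or (h.max x hx hx') (h.zC x)).resolve_left (h.not_le hx hx' h1 hr)

theorem lift (hy : y ∈ L) (h1 : PiElt {r}ᶜ x) (e : ⁅y, x⁆ ∈ Z(N)) : y ∈ C1(x) := by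
  have c : ∀ g, Commute g ⁅y, x⁆ := fun g => mem_C.1 (h.cen e) g (mem_top g)
  have e1 : ∀ n : ℕ, ⁅y, x ^ n⁆ = ⁅y, x⁆ ^ n := fun n => by
    have : y * x * y⁻¹ = ⁅y, x⁆ * x := by rw [commutatorElement_def]; group
    rw [commutatorElement_def, ← conj_pow, this, (c x).symm.mul_pow]; group
  have e2 : ∀ n : ℕ, ⁅y ^ n, x⁆ = ⁅y, x⁆ ^ n := fun n => by
    have : x * y⁻¹ * x⁻¹ = y⁻¹ * ⁅y, x⁆ := by rw [commutatorElement_def]; group
    have e3 : ⁅y ^ n, x⁆ = y ^ n * (x * y⁻¹ * x⁻¹) ^ n := by rw [commutatorElement_def, conj_pow]; group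
    rw [e3, this, (c y⁻¹).mul_pow]; group
  have o1 : orderOf ⁅y, x⁆ ∣ orderOf x := orderOf_dvd_of_pow_eq_one (by rw [← e1, pow_orderOf_eq_one]; simp)
  have o2 : ⁅y, x⁆ ^ r = 1 := by
    rw [← e2]; exact commutatorElement_eq_one_iff_mul_comm.2 (mem_C1.1 (h.zC x (h.pow hy)))
  exact mem_C1.2 (commutatorElement_eq_one_iff_mul_comm.1
    ((piElt_of_pow_eq_one h.prime o2).eq_one' (PiNat.of_dvd h1 o1)))

theorem relt (hx : x ∈ N) (hx' : x ∉ C(N)) (h1 : PiElt {p} x) (hr : p ≠ r) (hy : y ∈ N ⊓ C1(x))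
    (y1 : PiElt {r} y) : y ∈ C(N) := by
  refine (h.dich hx hx' h1).elim (fun hA => by_contra fun y2 => ?_) fun e => e y hy (PiNat.p'_of_ne y1 hr.symm)
  obtain ⟨s, i⟩ := h.inf_eq hx hx' h1 hr
  have e := h.eqC hx hx' y2 (le_C1_iff.2 (hA hy))
  have m := h.chief.minNorm
  have a : L ⫽ Z(N) ≤ C(zpowers y ⫽ Z(N)) := by
    refine inf_eq_left.1 (m.min _ inf_le_left (PiGrp.meet_cent y1.zpowers.mim (h.elem.pi h.prime)
      (mim_norm (le_top.trans h.chief.nmlU.2)) m.ne_bot) ?_)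
    rw [← s, mim_sup (h.n _) (h.n _)]
    exact sup_le (h.elem.abel.norm inf_le_left) (norm_inf (mim_norm (le_top.trans h.chief.nmlU.2))
      (norm_C (mim_norm (e ▸ C1_le_N_zpowers))))
  have a1 : ⁅L, zpowers y⁆ ≤ Z(N) := (comm_le_iff_quo (h.n _) (h.n _)).2 a
  have a2 : ⁅zpowers x, L⁆ ≤ C(zpowers y) := comm_eq_bot_iff.1 (three_subgroup
    (comm_eq_bot_iff.2 (a1.trans (h.cen.trans (C_anti le_top))))
    (by rw [comm_eq_bot_iff.2 (zpowers_le.2 (by rw [C_zpowers]; exact hy.2) : zpowers y ≤ C(zpowers x))]; simp))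
  refine h.not_le hx hx' h1 hr fun l hl => h.lift hl (PiNat.p'_of_ne h1 hr) ?_
  rw [← i]
  have := commutator_mem_commutator hl (mem_zpowers x)
  exact ⟨comm_le_left (le_top.trans h.chief.nmlU.2) this, by
    rw [← e, ← C_zpowers]; rw [comm_comm] at this; exact a2 this⟩

theorem fpf (hx : x ∈ N) (hx' : x ∉ C(N)) (h1 : PiElt {p} x) (hr : p ≠ r) (hy : y ∈ N ⊓ C1(x)) (hy' : y ∉ C(N))
    (hg : g ∈ L) (e : ⁅g, y⁆ ∈ Z(N)) : g ∈ Z(N) := by
  obtain ⟨s, w, w1, w2, w3⟩ : ∃ s, ∃ w ∈ zpowers y, PiElt {s} w ∧ w ∉ C(N) := by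
    by_contra hn
    push Not at hn
    exact hy' (le_of_pElts (fun s _ w w1 w2 => hn s w w1 w2) (mem_zpowers y))
  have w4 := zpowers_le.2 hy w1
  have hs : s ≠ r := fun e => w3 (h.relt hx hx' h1 hr w4 (e ▸ w2))
  rw [← (h.inf_eq w4.1 w3 w2 hs).2]
  refine ⟨hg, h.lift hg (PiNat.p'_of_ne w2 hs) ?_⟩
  have t : ∀ a : G, a ∈ N(Z(N)) := fun a => h.n ⊤ (mem_top _)
  rw [← cs_eq_one_iff (t _), mfun_comm (t _) (t _), commutatorElement_eq_one_iff_mul_comm, ← mem_C1] at e ⊢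
  exact C1_le_of_mem_zpowers (mim_zpowers (f := coset Z(N)) (t y) ▸ mfun_mem_mim w1) e

theorem compl (hx : x ∈ N) (hx' : x ∉ C(N)) (h1 : PiElt {p} x) (hr : p ≠ r) :
    MinNorm ((N ⊓ C1(x)) ⫽ Z(N)) (C1(x) ⫽ Z(N)) := by
  obtain ⟨s, i⟩ := h.inf_eq hx hx' h1 hr
  have zc : Z(N) ≤ N ⊓ C1(x) := le_inf inf_le_left (h.zC x)
  obtain ⟨y, y1, y2⟩ := SetLike.exists_of_lt h.chief.lt
  have y3 : y ∉ C(N) := fun e => y2 ⟨h.le y1, e⟩
  have hM := h.max y (h.le y1) y3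
  have eN := h.modu s h.le
  have ri : PiNat {r}ᶜ (L.relIndex N) := by
    rw [eN, (h.chief.nmlU.nrm2 le_top).relIndex_sup']
    refine (piNat_compl_iff h.prime).2 fun hd => ?_
    obtain ⟨P, hP⟩ := exists_sylow h.prime (N ⊓ C1(x))
    exact (hP.idx_of_le fun w hw => h.chief.le ⟨(hP.le hw).1, h.relt hx hx' h1 hr (hP.le hw) (hP.pi.elt hw)⟩).not_dvd'
      h.prime rfl hd
  have k : N ⊓ C1(y) ≤ L := le_of_pElts fun t _ w w1 w2 => by
    by_cases ht : t = r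
    · exact (ht ▸ w2).mem_of_nml w1.1 (h.chief.nmlU.of_le h.le le_top) ri
    · by_contra w3
      exact y2 ((h.inf_eq w1.1 (fun e => w3 (h.chief.le ⟨w1.1, e⟩)) w2 ht).2 ▸ mem_inf.2 ⟨y1, mem_C1_comm.1 w1.2⟩)
  have xL : x ∉ L := fun e => hx' (h.memZ e (PiNat.p'_of_ne h1 hr)).2
  have k2 : L ≤ C1(y) := (h.le_or hM (h.zC y)).resolve_right fun e => xL (sup_le le_rfl k (h.modu e.1 h.le ▸ hx))
  refine ⟨fun e => hx' ((quo_eq_bot_iff (h.n _)).1 e (mem_inf.2 ⟨hx, C1_self⟩)).2,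
    mim_norm (norm_inf (le_top.trans h.nml.2) le_N), fun K k3 k4 k5 => ?_⟩
  have x1 : qpre Z(N) K ≤ N ⊓ C1(x) := qpre_le_of_le ⟨zc, h.n _⟩ k3
  have b : (⊤ : Subgroup G) ≤ N(L ⊔ qpre Z(N) K) := s ▸
    sup_le (le_norm le_sup_left) (norm_sup (le_top.trans h.chief.nmlU.2) (norm_mpre (h.n _) k5))
  have bN : L ⊔ qpre Z(N) K ≤ N := sup_le h.le (x1.trans inf_le_left)
  by_cases e : L ⊔ qpre Z(N) K ≤ C1(y)
  · refine (k4 ?_).elim
    rw [← quo_qpre (U := K)]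
    exact quo_eq_bot ((le_inf (le_sup_right.trans ((le_inf bN e).trans k)) (x1.trans inf_le_right)).trans i.le)
  · have e1 : (L ⊔ qpre Z(N) K) ⊔ C1(y) = ⊤ := hM.2 _ (right_lt_sup.2 e)
    have e2 : N = L ⊔ qpre Z(N) K := by
      have := (Nml.nrm2 ⟨le_top, b⟩ (le_top (a := C1(y)))).modular_left bN
      rw [e1, inf_top_eq] at this
      exact this.trans (sup_eq_left.2 (k.trans le_sup_left))
    have e3 : N ⊓ C1(x) = qpre Z(N) K := by
      have := (h.chief.nmlU.nrm2 (le_top (a := qpre Z(N) K))).modular_left' x1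
      rw [← e2, inf_eq_left.2 inf_le_left] at this
      exact this.trans (sup_eq_right.2 (((le_inf inf_le_right (inf_le_left.trans inf_le_right)).trans i.le).trans
        le_qpre))
    rw [e3, quo_qpre]

theorem frob {Q : Type*} [Group Q] {D : Subgroup G} {f : D →* Q} (hD : N ≤ D) (hf : mker f = Z(N))
    (hx : x ∈ N) (hx' : x ∉ C(N)) (h1 : PiElt {p} x) (hr : p ≠ r) :
    Frob (mim f N) (mim f L) (mim f (N ⊓ C1(x))) := by
  obtain ⟨s, i⟩ := h.inf_eq hx hx' h1 hr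
  have lD := h.le.trans hD
  refine ⟨⟨mim_norm (le_top.trans h.chief.nmlU.2), ?_, ?_⟩, fun e => h.chief.lt.not_ge (hf ▸ (mim_eq_bot_iff lD).1 e),
    fun e => hx' (hf ▸ (mim_eq_bot_iff (inf_le_left.trans hD)).1 e (mem_inf.2 ⟨hx, C1_self⟩) : x ∈ Z(N)).2,
    fun z hz z1 => eq_bot_iff.2 fun w hw => ?_⟩
  · rw [← mim_inf' lD (hf ▸ h.chief.le)]
    exact mim_eq_bot_of_le (hf ▸ i ▸ inf_le_inf_left _ inf_le_right)
  · rw [← mim_sup lD (inf_le_left.trans hD), ← h.modu s h.le]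
  · obtain ⟨y, y1, y2, rfl⟩ := mem_mim.1 hz
    obtain ⟨g, g1, g2, rfl⟩ := mem_mim.1 hw.1
    have : ⁅g, y⁆ ∈ mker f := mem_mker.2 ⟨comm_le_of_le le_rfl le_rfl (commutator_mem_commutator g2 y2), by
      rw [mfun_comm g2 y2]; exact commutatorElement_eq_one_iff_mul_comm.2 (mem_C1.1 hw.2)⟩
    exact mem_bot.2 (mem_mker.1 (hf ▸ h.fpf hx hx' h1 hr y1
      (fun e => z1 (mem_mker.1 (hf ▸ mem_inf.2 ⟨y1.1, e⟩ : y ∈ mker f)).2) g1 (hf ▸ this) : g ∈ mker f)).2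

theorem prime_idx (hx : x ∈ N) (hx' : x ∉ C(N)) (h1 : PiElt {p} x) (hr : p ≠ r) :
    (Z(N).relIndex (N ⊓ C1(x))).Prime := by
  have m := h.compl hx hx' h1 hr
  obtain ⟨q, hq, -, e⟩ := m.exists_elem (h.nil hx hx' h1).mim.solv
  have f := h.frob (f := coset Z(N)) (h.n _) mker_coset hx hx' h1 hr
  obtain ⟨z, hz⟩ := (cyc_of_semireg_abel e.abel f.sd.norm f.ker_ne f.reg).gen
  rw [← card_quo (h.n _), ← hz, card_zpowers', orderOf_eq_prime (p := q) (hp := ⟨hq⟩)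
    (e.pow z (hz ▸ mem_zpowers z)) fun e' => m.ne_bot (by rw [← hz, e', zpowers_one_eq_bot])]
  exact hq

end CF

theorem CM.struct (h : CM N) : (∃ p, p.Prime ∧ ⁅N, N⁆ ≤ Z(N) ∧ ∀ x ∈ N, x ^ p ∈ Z(N)) ∨
    ∃ L r p x, CF N L r ∧ x ∈ N ∧ x ∉ C(N) ∧ PiElt {p} x ∧ p ≠ r := by
  by_cases e : ∃ r, r.Prime ∧ PiNat {r} (Z(N).relIndex N)
  · obtain ⟨r, hr, e⟩ := e
    exact Or.inl ⟨r, hr, h.pcase hr e⟩
  have e' : ∀ r, ¬ PiNat {r} (Z(N).relIndex N) := fun r hr => e (by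
    by_cases h1 : Z(N).relIndex N = 1
    · exact ⟨2, Nat.prime_two, h1 ▸ PiNat.one⟩
    · obtain ⟨s, hs, sd⟩ := Nat.exists_prime_and_dvd h1
      exact ⟨r, hr.eq_of_dvd hs sd ▸ hs, hr⟩)
  obtain ⟨L, c, hL⟩ := exists_chief_above h.Znml h.nml (lt_of_le_of_ne inf_le_left fun e2 => e' 2 (by
    rw [relIndex_eq_one_iff.2 e2.ge]; exact PiNat.one))
  obtain ⟨r, hr, el⟩ := h.chief_pi c hL
  obtain ⟨p, -, hp, x, x1, x2, x3⟩ := h.exists_elt (e' r)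
  exact Or.inr ⟨L, r, p, x, ⟨h, h.central e', c, hL, hr, el⟩, x1, x2, x3, hp⟩

theorem elem_mim {Q : Type*} [Group Q] {D : Subgroup G} {f : D →* Q} (hD : B ≤ D) (h1 : ⁅B, B⁆ ≤ mker f)
    (h2 : ∀ x ∈ B, x ^ p ∈ mker f) : Elem p (mim f B) :=
  ⟨(comm_le_mker_iff hD hD).1 h1, fun z hz => by
    obtain ⟨x, x1, x2, rfl⟩ := mem_mim.1 hz
    rw [← mfun_pow x2]; exact (mem_mker.1 (h2 x x1)).2⟩

theorem s3905 (h : CM N) :
    (∃ p : ℕ, p.Prime ∧ IsElementaryAbelian p (⊤ : Subgroup (↥N ⧸ center ↥N))) ∨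
    (∃ (Q K : Subgroup (↥N ⧸ center ↥N)) (p : ℕ), p.Prime ∧ IsFrobeniusComplement Q ∧ (Nat.card ↥Q).Prime ∧
      K.Normal ∧ (K : Set (↥N ⧸ center ↥N)) = frobeniusKernel Q ∧ IsElementaryAbelian p K) := by
  set f : N →* ↥N ⧸ center ↥N := QuotientGroup.mk' (center N) with hf
  have k : mker f = Z(N) := by
    ext x
    rw [mem_mker, mem_inf]
    refine and_congr_right fun hx => ?_
    rw [mfun_of_mem hx, hf, QuotientGroup.mk'_apply, QuotientGroup.eq_one_iff, mem_center_iff, mem_C]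
    exact ⟨fun e y hy => congrArg Subtype.val (e ⟨y, hy⟩), fun e y => Subtype.ext (e y y.2)⟩
  have t : mim f N = ⊤ := eq_top_iff.2 fun z _ => by
    obtain ⟨x, rfl⟩ := QuotientGroup.mk'_surjective _ z
    exact mem_mim.2 ⟨x, x.2, x.2, mfun_coe x⟩
  rcases h.struct with ⟨p, hp, h1, h2⟩ | ⟨L, r, p, x, c, x1, x2, x3, hr⟩
  · exact Or.inl ⟨p, hp, elem_iff.1 (t ▸ elem_mim le_rfl (k ▸ h1) (k ▸ h2))⟩
  · have fr := c.frob le_rfl k x1 x2 x3 hr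
    rw [t] at fr
    obtain ⟨a, b⟩ := isFrobeniusComplement_of_frob fr
    refine Or.inr ⟨_, _, r, c.prime, a, ?_, fr.nml.normal, b.symm,
      elem_iff.1 (elem_mim c.le (k ▸ c.der) fun y hy => k ▸ c.pow hy)⟩
    rw [card_mim inf_le_left, k]
    exact c.prime_idx x1 x2 x3 hr

theorem Z_top' : Z((⊤ : Subgroup G)) = center G := by
  ext x; simp [mem_center_iff, mem_centralizer_iff]

theorem cm_top (h : ∀ x : G, x ∉ center G → IsCoatom C1(x)) : CM (⊤ : Subgroup G) :=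
  ⟨Nml.rfl, fun x _ hx => h x fun e => hx (Z_top' (G := G) ▸ e : x ∈ Z((⊤ : Subgroup G))).2⟩

theorem s3904 (h : ∀ x : G, x ∉ center G → IsCoatom C1(x)) :
    (∃ p : ℕ, p.Prime ∧ IsElementaryAbelian p (⊤ : Subgroup (G ⧸ center G))) ∨
    (¬ IsMulCommutative (G ⧸ center G) ∧ (∀ H : Subgroup (G ⧸ center G), H ≠ ⊤ → IsMulCommutative ↥H) ∧
      ∃ p q a : ℕ, p.Prime ∧ q.Prime ∧ p ≠ q ∧ Nat.card (G ⧸ center G) = p ^ a * q ∧
        ∀ P : Subgroup (G ⧸ center G), Nat.card ↥P = p ^ a → P.Normal) := by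
  have k : mker (topq (center G)) = Z((⊤ : Subgroup G)) := by rw [mker_topq, Z_top']
  have t := mim_topq_top (center G)
  rcases (cm_top h).struct with ⟨p, hp, h1, h2⟩ | ⟨L, r, p, x, c, x1, x2, x3, hr⟩
  · exact Or.inl ⟨p, hp, elem_iff.1 (t ▸ elem_mim le_rfl (k ▸ h1) (k ▸ h2))⟩
  have fr := c.frob le_rfl k x1 x2 x3 hr
  have el : Elem r (mim (topq (center G)) L) := elem_mim le_top (k ▸ c.der) fun y hy => k ▸ c.pow hy
  have pr : (Nat.card (mim (topq (center G)) (⊤ ⊓ C1(x)))).Prime := by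
    rw [card_mim le_top, k]; exact c.prime_idx x1 x2 x3 hr
  have mn : ∀ W, W ≤ mim (topq (center G)) L → ⊤ ≤ N(W) → W = ⊥ ∨ W = mim (topq (center G)) L := fun W w1 w2 => by
    rw [← mim_mpre_of_le w1]
    refine (c.chief.eq_or_eq (k ▸ mker_le_mpre) (mpre_le_of_le le_top (k ▸ c.chief.le) w1)
      (norm_mpre le_rfl (t ▸ w2))).imp (fun e => ?_) fun e => by rw [e]
    rw [e, ← k, mim_mker]
  rw [t] at fr
  set K := mim (topq (center G)) L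
  set R := mim (topq (center G)) (⊤ ⊓ C1(x))
  obtain ⟨a, ha⟩ := (el.pi c.prime).card_eq_pow
  have ne : r ≠ Nat.card R := fun e => (Nat.Prime.coprime_iff_not_dvd pr).1 fr.coprime.symm
    (e ▸ (el.pi c.prime).dvd_card fr.ker_ne)
  refine Or.inr ⟨fun e => fr.ker_ne (fr.cent ▸ (inf_eq_left.2 fun y _ => mem_C.2 fun z _ => e.is_comm.comm z y).symm),
    fun H hH => abel_iff.1 ?_, r, _, a, c.prime, pr, ne, by rw [← card_top, fr.sd.card, ha], fun P hP => ?_⟩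
  · rcases eq_or_eq_of_prime_relIndex (fr.sd.relIndex ▸ pr) (le_sup_right (a := H)) le_top with e | e
    · exact el.abel.mono (sup_eq_right.1 e)
    · have n : H ≤ N(K) := le_top.trans fr.nml.2
      rcases mn (H ⊓ K) inf_le_right (e ▸ sup_le (norm_inf le_N n) (el.abel.norm inf_le_right)) with e' | e'
      · refine abel_of_prime ?_
        rw [← card_mul_relIndex' (A := K) (B := H), inf_comm, e', card_bot, one_mul, ← relIndex_sup_of_norm n, e,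
          fr.sd.relIndex]
        exact pr
      · exact (hH (e ▸ (sup_eq_left.2 (inf_eq_right.1 e')).symm)).elim
  · have hK : Hall {r} K ⊤ := ⟨le_top, el.pi c.prime, by rw [fr.sd.relIndex]; exact (piNat_prime pr).2 ne.symm⟩
    rw [eq_of_card_eq (hK.le_of_nml fr.nml.2 le_top (piGrp_of_card_pow c.prime hP)) (hP.trans ha.symm)]
    exact fr.nml.normal

theorem CM.solv (h : CM N) : Solv N := by
  rcases h.struct with ⟨p, hp, h1, h2⟩ | ⟨L, r, p, x, c, x1, x2, x3, hr⟩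
  · exact solv_of_quo nml_Z.2 ((abel_quo_iff nml_Z.2).2 h1).solv abel_Z.solv
  · rw [c.modu (c.inf_eq x1 x2 x3 hr).1 c.le]
    exact (solv_of_quo (c.n _) c.elem.abel.solv abel_Z.solv).sup (h.nil x1 x2 x3).solv (c.chief.nmlU.nrm2 le_top)

end H21
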