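import Cfsg.Agent.H21.Crit

/-! Counting conjugacy classes: `kcl s` (number of classes meeting `s`), `kpi π G` (classes of `π`-elements),
`two_mul_kcl_le`, `kcl_le_ker_mul`, `kcl_le_sub`, `kpi_le_mul`, `kpi_le_prod`, `pnil_of_kpi` (many classes of
`p`-elements force `N(P) ≤ C(P)`), `kpi_of_pnil`, `pnil_of_kpi_two`. -/

set_option autoImplicit false
set_option linter.unusedSectionVars false

namespace H21
open Cfsg Subgroup H18 H1
universe u

variable {G : Type*} [Group G] [Finite G] {A B H K L M P T : Subgroup G} {p q : ℕ} {a x y g : G} {π : Set ℕ}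
  {s t : Set G}

/-- the number of conjugacy classes meeting `s` -/
noncomputable def kcl (s : Set G) : ℕ := (ConjClasses.mk '' s).ncard

/-- the number of conjugacy classes of `π`-elements -/
noncomputable def kpi (π : Set ℕ) (G : Type*) [Group G] : ℕ := (ConjClasses.mk '' {x : G | PiElt π x}).ncard

theorem mk_conj (g x : G) : ConjClasses.mk (g * x * g⁻¹) = ConjClasses.mk x :=
  ConjClasses.mk_eq_mk_iff_isConj.2 (isConj_iff.2 ⟨g, rfl⟩).symm

theorem mk_eq_mk : ConjClasses.mk x = ConjClasses.mk y ↔ ∃ g, g * x * g⁻¹ = y :=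
  ConjClasses.mk_eq_mk_iff_isConj.trans isConj_iff

theorem card_eq_kpi : Nat.card {c : ConjClasses G // ∀ x ∈ c.carrier, PiElt π x} = kpi π G := by
  rw [kpi, ← Nat.card_coe_set_eq]
  refine Nat.card_congr (Equiv.subtypeEquivRight fun c => ?_)
  obtain ⟨x, rfl⟩ := ConjClasses.mk_surjective c
  refine ⟨fun h => ⟨x, h x ConjClasses.mem_carrier_mk, rfl⟩, fun ⟨y, hy, e⟩ z hz => ?_⟩
  obtain ⟨g, rfl⟩ := mk_eq_mk.1 (e.trans (ConjClasses.mem_carrier_iff_mk_eq.1 hz).symm)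
  exact PiElt.conj hy g

theorem kcl_le : kcl s ≤ s.ncard := Set.ncard_image_le

theorem kcl_univ : kcl (Set.univ : Set G) = Nat.card (ConjClasses G) := by
  rw [kcl, Set.image_univ_of_surjective ConjClasses.mk_surjective, Set.ncard_univ]

theorem kpi_eq_of_cover (hH : PiGrp π H) (h : ∀ x, PiElt π x → ∃ g, g * x * g⁻¹ ∈ H) : kpi π G = kcl (H : Set G) := by
  refine congrArg _ (Set.Subset.antisymm ?_ (Set.image_mono fun x hx => hH.elt hx))
  rintro _ ⟨x, hx, rfl⟩
  obtain ⟨g, hg⟩ := h x hx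
  exact ⟨_, hg, mk_conj g x⟩

theorem kpi_eq (hp : p.Prime) (hP : Hall {p} P ⊤) : kpi {p} G = kcl (P : Set G) :=
  kpi_eq_of_cover hP.pi fun x hx => by
    obtain ⟨g, -, hg⟩ := sylow_le_cj hp hP hx.zpowers le_top
    exact ⟨g, hg (conj_mem_cj (mem_zpowers x))⟩

theorem mul_kcl_le {m : ℕ} (hts : t ⊆ s)
    (h : ∀ x ∈ s, x ∉ t → m + 1 ≤ {y ∈ s | ConjClasses.mk y = ConjClasses.mk x}.ncard) :
    (m + 1) * kcl s ≤ s.ncard + m * t.ncard := by
  classical
  have := Fintype.ofFinite G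
  rw [kcl, Set.ncard_eq_toFinset_card', Set.ncard_eq_toFinset_card', Set.ncard_eq_toFinset_card',
    Finset.card_eq_sum_card_fiberwise (s := s.toFinset) (t := (ConjClasses.mk '' s).toFinset) (f := ConjClasses.mk)
      (fun x hx => by simpa using ⟨x, by simpa using hx, rfl⟩),
    Finset.card_eq_sum_card_fiberwise (s := t.toFinset) (t := (ConjClasses.mk '' s).toFinset) (f := ConjClasses.mk)
      (fun x hx => by simpa using ⟨x, hts (by simpa using hx), rfl⟩), Finset.mul_sum, ← Finset.sum_add_distrib,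
    mul_comm, ← smul_eq_mul]
  refine Finset.card_nsmul_le_sum _ _ _ fun c hc => ?_
  obtain ⟨x, hx, rfl⟩ := Set.mem_toFinset.1 hc
  by_cases c : x ∈ t
  · rw [add_comm]
    exact add_le_add (Finset.card_pos.2 ⟨x, by simpa using hx⟩)
      (Nat.le_mul_of_pos_right _ (Finset.card_pos.2 ⟨x, by simpa using c⟩))
  · refine le_add_right ((h x hx c).trans (le_of_eq ?_))
    rw [Set.ncard_eq_toFinset_card']
    congr 1; ext; simp

theorem two_mul_kcl_le (hts : t ⊆ s) (h : ∀ x ∈ s, x ∉ t → ∃ g, g * x * g⁻¹ ∈ s ∧ g * x * g⁻¹ ≠ x) :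
    2 * kcl s ≤ s.ncard + t.ncard := by
  simpa using mul_kcl_le (m := 1) hts fun x hx c => by
    obtain ⟨g, h1, h2⟩ := h x hx c
    exact (Set.one_lt_ncard (Set.toFinite _)).2 ⟨_, ⟨h1, mk_conj g x⟩, x, ⟨hx, rfl⟩, h2⟩

theorem kcl_le_ker_mul {Q : Type*} [Group Q] [Finite Q] (f : G →* Q) (hf : Function.Surjective f) :
    kcl s ≤ Nat.card f.ker * kcl (f '' s) := by
  choose r hr using fun c : ConjClasses Q => (ConjClasses.mk_surjective.comp hf) c
  have : ConjClasses.mk '' s ⊆ (fun a : f.ker × (ConjClasses.mk '' (f '' s)) => ConjClasses.mk (r a.2 * a.1)) '' Set.univ := by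
    rintro _ ⟨x, hx, rfl⟩
    obtain ⟨g, hg⟩ := mk_eq_mk.1 (hr (ConjClasses.mk (f x))).symm
    obtain ⟨g, rfl⟩ := hf g
    exact ⟨(⟨(r (ConjClasses.mk (f x)))⁻¹ * (g * x * g⁻¹), by
      rw [MonoidHom.mem_ker, map_mul, map_inv, ← hg]; simp only [map_mul, map_inv]; group⟩, ⟨_, _, ⟨x, hx, rfl⟩, rfl⟩), trivial,
      by simp [mk_conj]⟩
  have h := (Set.ncard_le_ncard this).trans Set.ncard_image_le
  rwa [Set.ncard_univ, Nat.card_prod, Nat.card_coe_set_eq] at h

theorem kcl_image_le {Q : Type*} [Group Q] [Finite Q] (f : G →* Q) : kcl (f '' s) ≤ kcl s := by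
  have : ConjClasses.mk '' (f '' s) = ConjClasses.map f '' (ConjClasses.mk '' s) := by
    simp only [Set.image_image]; rfl
  rw [kcl, this]; exact Set.ncard_image_le

theorem kcl_le_sub (h : H ≤ L) : kcl (H : Set G) ≤ kcl (H.subgroupOf L : Set L) := by
  have := kcl_image_le (s := (H.subgroupOf L : Set L)) L.subtype
  rwa [← coe_map, map_subgroupOf_eq_of_le h] at this

theorem kcl_le_card_classes : kcl (H : Set G) ≤ Nat.card (ConjClasses H) := by
  simpa [kcl_univ] using kcl_le_sub (le_refl H)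

theorem kcl_retract (ρ : G →* H) (h : ∀ x : H, ρ x = x) : kcl (H : Set G) = Nat.card (ConjClasses H) := by
  refine le_antisymm kcl_le_card_classes ?_
  have := kcl_image_le (s := (H : Set G)) ρ
  rwa [Set.eq_univ_of_forall (s := ρ '' H) fun x => ⟨x, x.2, h x⟩, kcl_univ] at this

theorem card_classes_of_abel (h : Abel H) : Nat.card (ConjClasses H) = Nat.card H :=
  (Nat.card_congr (Equiv.ofBijective _ ⟨fun x y e => by
    obtain ⟨g, rfl⟩ := mk_eq_mk.1 e
    exact Subtype.ext (conj_eq_self_of_C1 (h.trans (C_le_C1 x.2) g.2)).symm, ConjClasses.mk_surjective⟩)).symm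

theorem kpi_of_pnil (hp : p.Prime) (hP : Hall {p} P ⊤) (h : PNil p (⊤ : Subgroup G)) :
    kpi {p} G = Nat.card (ConjClasses P) := by
  haveI : Fact p.Prime := ⟨hp⟩
  obtain ⟨S, rfl⟩ := hP.exists_sylow_top hp
  obtain ⟨ρ, h1, -⟩ := H9.exists_retraction S ((hasNormalPComplement_top_iff' hp).2 h)
  rw [kpi_eq hp hP, kcl_retract ρ h1]

theorem kpi_le_mul {n : ℕ} (ρ : Set ℕ) (h : ∀ y : G, kpi (π \ ρ) C1(y) ≤ n) : kpi π G ≤ kpi ρ G * n := by
  choose r hr using fun (X : Type _) [Group X] (c : ConjClasses X) => ConjClasses.mk_surjective c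
  let I := ConjClasses.mk '' {x : G | PiElt ρ x}
  have : ConjClasses.mk '' {x : G | PiElt π x} ⊆
      (fun a : Σ c : I, (ConjClasses.mk '' {x : C1(r G c) | PiElt (π \ ρ) x}) =>
        ConjClasses.mk (r G a.1 * (r _ a.2.1 : C1(r G a.1)))) '' Set.univ := by
    rintro _ ⟨x, hx, rfl⟩
    obtain ⟨g, hg⟩ := mk_eq_mk.1 (hr G (ConjClasses.mk (piPart ρ x))).symm
    have h1 : g * piPart ρᶜ x * g⁻¹ ∈ C1(r G (ConjClasses.mk (piPart ρ x))) := by
      rw [← hg, ← cj_C1, conj_mem_cj_iff, mem_C1]; exact piPart_comm_piPart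
    obtain ⟨k, hk⟩ := mk_eq_mk.1 (hr _ (ConjClasses.mk (⟨_, h1⟩ : C1(_)))).symm
    refine ⟨⟨⟨_, _, piElt_piPart, rfl⟩, _, ⟨_, h1⟩, ?_, rfl⟩, trivial, ?_⟩
    · show PiNat _ _
      rw [← orderOf_coe, orderOf_conj]
      exact (piElt_piPart_of hx).inter piElt_piPart
    · show ConjClasses.mk (r G _ * (r _ (ConjClasses.mk (⟨_, h1⟩ : C1(_))) : C1(_))) = _
      rw [← hk, ← mk_conj ((k : G) * g) x]
      congr 1
      refine (congrArg (· * _) ((conj_eq_self_of_C1 k.2).symm.trans (congrArg (fun z => (k : G) * z * (k : G)⁻¹) hg.symm))).trans ?_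
      simp only [coe_mul, coe_inv]
      rw [← congrArg (fun z => (k : G) * g * z * ((k : G) * g)⁻¹) (piPart_mul_compl (π := ρ) (x := x))]
      group
  refine (Set.ncard_le_ncard this).trans ((Set.ncard_image_le (Set.toFinite _)).trans ?_)
  classical
  have := Fintype.ofFinite I
  rw [Set.ncard_univ, Nat.card_sigma, kpi, ← Nat.card_coe_set_eq, Nat.card_eq_fintype_card, ← smul_eq_mul]
  exact Finset.sum_le_card_nsmul _ _ _ fun c _ => h _

theorem Hall.card_eq_fact (hp : p.Prime) (hP : Hall {p} P H) : Nat.card P = p ^ (Nat.card H).factorization p :=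
  haveI : Fact p.Prime := ⟨hp⟩
  ((hall_iff_isSylowIn hp).1 hP).card_eq

theorem kpi_le_prod (σ : Finset ℕ) (hσ : ∀ r ∈ σ, r.Prime) : ∀ (G : Type u) [Group G] [Finite G],
    kpi σ G ≤ ∏ r ∈ σ, r ^ (Nat.card G).factorization r := by
  induction σ using Finset.induction_on with
  | empty =>
    intro G _ _
    refine (Set.ncard_image_le (Set.toFinite _)).trans (Set.ncard_le_one_iff_subsingleton.2 fun x hx y hy => ?_)
    rw [PiElt.eq_one' hx (by simpa using piNat_univ), PiElt.eq_one' hy (by simpa using piNat_univ)]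
  | insert q τ hq ih =>
    intro G _ _
    have hq' := hσ q (Finset.mem_insert_self q τ)
    obtain ⟨P, hP⟩ := exists_sylow hq' (⊤ : Subgroup G)
    rw [Finset.prod_insert hq]
    refine (kpi_le_mul {q} fun y => ?_).trans (Nat.mul_le_mul_right _ ?_)
    · rw [Finset.coe_insert, Set.insert_sdiff_self_of_notMem (by simpa using hq)]
      refine (ih (fun r hr => hσ r (Finset.mem_insert_of_mem hr)) _).trans (Finset.prod_le_prod' fun r hr => ?_)
      exact Nat.pow_le_pow_right (hσ r (Finset.mem_insert_of_mem hr)).pos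
        ((Nat.factorization_le_iff_dvd Nat.card_pos.ne' Nat.card_pos.ne').2 (card_subgroup_dvd_card _) r)
    · rw [kpi_eq hq' hP, ← card_top, ← Hall.card_eq_fact hq' hP]; exact kcl_le

theorem kpi_le_kpi_mul {σ : Finset ℕ} (hσ : ∀ r ∈ σ, r.Prime) (q : ℕ) :
    kpi σ G ≤ kpi {q} G * ∏ r ∈ σ.erase q, r ^ (Nat.card G).factorization r := by
  refine kpi_le_mul {q} fun y => ?_
  rw [← Finset.coe_erase]
  refine (kpi_le_prod _ (fun r hr => hσ r (Finset.mem_of_mem_erase hr)) _).trans (Finset.prod_le_prod' fun r hr => ?_)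
  exact Nat.pow_le_pow_right (hσ r (Finset.mem_of_mem_erase hr)).pos
    ((Nat.factorization_le_iff_dvd Nat.card_pos.ne' Nat.card_pos.ne').2 (card_subgroup_dvd_card _) r)

theorem two_mul_kcl_le_cent (ha : a ∈ N(H)) : 2 * kcl (H : Set G) ≤ Nat.card H + Nat.card (H ⊓ C1(a) : Subgroup G) :=
  two_mul_kcl_le (s := H) (t := ((H ⊓ C1(a) : Subgroup G) : Set G)) (fun _ h => h.1) fun x hx c =>
    ⟨a, conj_mem_N ha hx, fun e => c <| mem_inf.2 ⟨hx, mem_C1.2 (by rw [← mul_inv_eq_iff_eq_mul.1 e])⟩⟩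

theorem pnil_of_kpi (hp : p.Prime) (hP : Hall {p} P ⊤) (h : (p + 1) * Nat.card P < 2 * p * kpi {p} G) :
    N(P) ≤ C(P) := fun a ha => by_contra fun c => by
  have h1 := two_mul_kcl_le_cent ha
  have h2 : P ⊓ C1(a) < P := inf_lt_left.2 fun e => c (le_C1_iff.1 e)
  obtain ⟨M, h3, h4, h5⟩ := hP.pi.exists_index_p h2
  have h6 := H18.card_mul_relIndex h4.1
  have h7 := card_le h3
  rw [kpi_eq hp hP] at h
  rw [h5] at h6
  nlinarith [hp.pos]

theorem pnil_of_fusion (hp : p.Prime) (hP : Hall {p} P ⊤) (hL : P ≤ L) (h : PNil p L)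
    (hf : ∀ x ∈ P, ∀ g, g * x * g⁻¹ ∈ P → ∃ n ∈ L, n * x * n⁻¹ = g * x * g⁻¹) : PNil p (⊤ : Subgroup G) := by
  haveI : Fact p.Prime := ⟨hp⟩
  obtain ⟨S, rfl⟩ := hP.exists_sylow_top hp
  refine (hasNormalPComplement_top_iff' hp).1 (H3.hasNormalPComplement_of_commutator_inf_le S
    (H3.commutator_inf_sylow_le S fun x hx g hg => ?_))
  obtain ⟨n, hn, e⟩ := hf x hx g hg
  have sd := sd_of_hall' h pcore_nml.2 (hP.of_le hL le_top)
  obtain ⟨k, hk, u, hu, rfl⟩ := sd.mem_iff.1 hn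
  have h1 := conj_mem le_N hu hx
  have h2 := mem_C1.1 (H23.mem_C1_of_conj_mem sd.norm sd.inf hk h1 (by
    rw [show k * (u * x * u⁻¹) * k⁻¹ = g * x * g⁻¹ by rw [← e]; group]; exact hg))
  have h3 : g * x * g⁻¹ = u * x * u⁻¹ := by rw [← e, ← mul_inv_eq_iff_eq_mul.2 h2]; group
  rw [h3]
  simpa [commutatorElement_def, mul_assoc] using commutator_mem_commutator (inv_mem hx) hu

theorem pnil_of_central (hp : p.Prime) (Z : Subgroup G) [Z.Normal] (hZ : PiGrp {p} Z) (hc : ⊤ ≤ C(Z))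
    (h : PNil p (⊤ : Subgroup (G ⧸ Z))) : PNil p (⊤ : Subgroup G) := by
  set K := mpre (topq Z) O[{p}ᶜ]((⊤ : Subgroup (G ⧸ Z)))
  have hk : mker (topq Z) ≤ K := mker_le_mpre
  have nK : K ⊴ ⊤ := nml_mpre le_rfl le_top (mim_topq_top Z ▸ pcore_nml)
  rw [mker_topq] at hk
  have hall : Hall {p} Z K := ⟨hk, hZ, by
    have := card_mim (f := topq Z) (A := K) le_top
    rw [mker_topq, mim_mpre (by simp [mim_topq_top])] at this
    exact this ▸ pcore_pi⟩
  have pn : PNil p K := Burnside_normal_complement hp hall (le_top.trans hc)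
  refine (pn.of_idx le_top ?_).pcore_hall nK.pcore.2
  rw [relIndex_mpre' le_rfl le_top (by simp [mim_topq_top]), mim_topq_top]
  exact h.idx

theorem pnil_of_kpi_two_aux (n : ℕ) : ∀ {G : Type u} [Group G] [Finite G] {P : Subgroup G}, Nat.card P = n →
    Hall {2} P ⊤ → Nat.card P < 2 * kcl (P : Set G) → PNil 2 (⊤ : Subgroup G) := by
  induction n using Nat.strong_induction_on with
  | _ n ih =>
  intro G _ _ P hn hP h
  have p2 := Nat.prime_two
  by_cases h1 : P = ⊥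
  · subst h1; exact (hall_self hP.compl_of_eq_bot).pcore_hall le_N
  obtain ⟨w, hw, w1, iso⟩ : ∃ w ∈ P, w ≠ 1 ∧ ∀ g, g * w * g⁻¹ ∈ P → g * w * g⁻¹ = w := by
    by_contra! c
    have := two_mul_kcl_le (s := P) (t := {(1 : G)}) (by simp) c
    have h2 := hP.pi.dvd_card h1
    rw [Set.ncard_singleton, ← Nat.card_coe_set_eq] at this
    simp only [SetLike.coe_sort_coe] at this
    omega
  have PL : P ≤ C1(w) := fun x hx => mem_C1.2 (mul_inv_eq_iff_eq_mul.1 (iso x (conj_mem le_N hx hw)))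
  refine pnil_of_fusion p2 hP PL ?_ fun x hx g hg => ?_
  · let Z : Subgroup C1(w) := zpowers ⟨w, C1_self⟩
    have cZ : ⊤ ≤ C(Z) := by rw [C_zpowers]; exact fun x _ => mem_C1.2 (Subtype.ext (mem_C1.1 x.2))
    haveI : Z.Normal := norm_top_iff.1 (cent_norm cZ)
    have hP' : Hall {2} (P.subgroupOf C1(w)) ⊤ := by
      simpa [mim_id] using (hP.of_le PL le_top).mim (f := MonoidHom.id _) le_rfl
    have hZ : Z ≤ P.subgroupOf C1(w) := zpowers_le.2 hw
    have c1 := card_mim_mul (f := topq Z) (A := P.subgroupOf C1(w)) le_top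
    rw [mker_topq, inf_eq_right.2 hZ, card_subgroupOf PL] at c1
    have Z1 : 1 < Nat.card Z := one_lt_card (by simpa [Z, Subtype.ext_iff] using w1)
    have c2 := (kcl_le_sub PL).trans (kcl_le_ker_mul (QuotientGroup.mk' Z) (QuotientGroup.mk'_surjective Z))
    rw [QuotientGroup.ker_mk', ← coe_map, ← mim_topq] at c2
    have c3 := card_pos' (H := mim (topq Z) (P.subgroupOf C1(w)))
    have := pnil_of_central p2 Z (hP'.pi.of_le hZ) cZ (ih _ (by nlinarith) rfl
      (mim_topq_top Z ▸ hP'.mim le_rfl) (by nlinarith))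
    exact (hasNormalPComplement_iff p2).1 ((hasNormalPComplement_top_iff' p2).2 this)
  · obtain ⟨Q, hQ, h2⟩ := exists_sylow_le p2 (hP.pi.elt hw).zpowers
      (zpowers_le.2 (mem_C1_comm.1 (PL hg)))
    obtain ⟨c, hc, h3⟩ := sylow_le_cj p2 hQ ((hP.pi.elt hw).conj g).zpowers
      (zpowers_le.2 (cj_C1 (g := g) (x := x) ▸ conj_mem_cj (mem_C1_comm.1 (PL hx))))
    obtain ⟨t, -, h4⟩ := sylow_le_cj p2 hP hQ.pi le_top
    have e1 := iso t (h4 (conj_mem_cj (zpowers_le.1 h2)))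
    have e2 := iso (t * c * g) (by
      convert h4 (conj_mem_cj (h3 (conj_mem_cj (mem_zpowers _)))) using 1; group)
    refine ⟨c * g, mem_C1.2 ?_, by rw [← conj_eq_self_of_C1 hc]; group⟩
    have : t * (c * g * w * (c * g)⁻¹) * t⁻¹ = t * w * t⁻¹ := by rw [e1]; refine Eq.trans ?_ e2; group
    exact mul_inv_eq_iff_eq_mul.1 (by simpa using this)

theorem pnil_of_kpi_two (hP : Hall {2} P ⊤) (h : Nat.card P < 2 * kpi {2} G) : PNil 2 (⊤ : Subgroup G) :=
  pnil_of_kpi_two_aux _ rfl hP (kpi_eq Nat.prime_two hP ▸ h)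

end H21
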