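import Cfsg.Agent.H18.Cyc
import Mathlib

/-! Hall-Higman Theorem B, linear algebra part 1: `schur`, `exists_min`, `resHom`, `trace_formula`,
`maschke`, `finrank_pow_aux` (irreducible modules of `q`-groups have `q`-power dimension). -/

set_option autoImplicit false
set_option linter.unusedSectionVars false

namespace H21.HB
open Module LinearMap Finset Polynomial
universe u v

variable {K : Type*} [Field K] {V : Type v} [AddCommGroup V] [Module K V] [FiniteDimensional K V]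
  {Q : Type u} [Group Q] {p q n : ℕ}

theorem schur [IsAlgClosed K] [Nontrivial V] (P : Submodule K V → Prop) (irr : ∀ W, P W → W = ⊥ ∨ W = ⊤)
    (φ : End K V) (h : ∀ μ, P (φ.eigenspace μ)) : ∃ c : K, φ = c • 1 := by
  obtain ⟨c, hc⟩ := φ.exists_eigenvalue
  refine ⟨c, LinearMap.ext fun w => ?_⟩
  have := (irr _ (h c)).resolve_left hc
  simpa using End.mem_eigenspace_iff.1 (this ▸ Submodule.mem_top : w ∈ φ.eigenspace c)

theorem eig_inv {φ f : End K V} (h : φ * f = f * φ) (μ : K) : ∀ w ∈ φ.eigenspace μ, f w ∈ φ.eigenspace μ :=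
  fun w hw => End.mem_eigenspace_iff.2 (by
    rw [← End.mul_apply, h, End.mul_apply, End.mem_eigenspace_iff.1 hw, map_smul])

theorem exists_min (P : Submodule K V → Prop) {U : Submodule K V} (h : P U) (h0 : U ≠ ⊥) :
    ∃ W ≤ U, W ≠ ⊥ ∧ P W ∧ ∀ W' : Submodule K W, P (W'.map W.subtype) → W' = ⊥ ∨ W' = ⊤ := by
  obtain ⟨W, h1, h2⟩ := exists_minimal_le_of_wellFoundedLT (fun W => W ≠ ⊥ ∧ P W) U ⟨h0, h⟩
  refine ⟨W, h1, h2.1.1, h2.1.2, fun W' h3 => or_iff_not_imp_left.2 fun e => ?_⟩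
  have i := Submodule.map_injective_of_injective W.injective_subtype
  refine i (le_antisymm (Submodule.map_mono le_top) ?_)
  rw [Submodule.map_subtype_top]
  exact h2.2 ⟨fun e' => e (i (by rw [e', Submodule.map_bot])), h3⟩ (Submodule.map_subtype_le _ _)

/-- restriction of a representation to an invariant subspace -/
def resHom {M : Type*} [Monoid M] (ρ : M →* End K V) (W : Submodule K V) (h : ∀ a, ∀ w ∈ W, ρ a w ∈ W) :
    M →* End K W where
  toFun a := (ρ a).restrict (h a)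
  map_one' := by ext; simp
  map_mul' a b := by ext; simp

@[simp] theorem resHom_apply {M : Type*} [Monoid M] (ρ : M →* End K V) (W : Submodule K V)
    (h : ∀ a, ∀ w ∈ W, ρ a w ∈ W) (a : M) (w : W) : (resHom ρ W h a w : V) = ρ a w := rfl

theorem eq_zero_of_sum {ι : Type*} [Fintype ι] (φ : End K V) {μ : ι → K} (hμ : Function.Injective μ) {v : ι → V}
    (h : ∀ i, v i ∈ φ.eigenspace (μ i)) (e : ∑ i, v i = 0) (i : ι) : v i = 0 :=
  (iSupIndep_iff_finsetSum_eq_zero_imp_eq_zero _).1 (φ.eigenspaces_iSupIndep.comp hμ) univ v (fun i _ => h i) e i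
    (mem_univ i)

theorem pow_finrank {u : End K V} (h : IsNilpotent u) : u ^ finrank K V = 0 := by
  have := u.aeval_self_charpoly
  rwa [h.charpoly_eq_X_pow_finrank, map_pow, aeval_X] at this

variable [Fintype Q] {ρ : Q →* End K V}

theorem avg_comm (ρ : Q →* End K V) (φ : End K V) (b : Q) :
    (∑ a, ρ a * φ * ρ a⁻¹) * ρ b = ρ b * ∑ a, ρ a * φ * ρ a⁻¹ := by
  rw [sum_mul, mul_sum]
  refine Fintype.sum_equiv (Equiv.mulLeft b⁻¹) _ _ fun a => ?_
  simp only [Equiv.coe_mulLeft, mul_inv_rev, inv_inv, ← mul_assoc, ← map_mul, mul_inv_cancel, one_mul]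
  rw [mul_assoc, ← map_mul]

theorem trace_formula (sch : ∀ φ : End K V, (∀ a, φ * ρ a = ρ a * φ) → ∃ c : K, φ = c • 1) (φ : End K V) :
    (finrank K V : K) • ∑ a, trace K V (φ * ρ a⁻¹) • ρ a = (Fintype.card Q : K) • φ := by
  have key : ∀ (f : V →ₗ[K] K) (v : V), (finrank K V : K) • ∑ a, trace K V (f.smulRight v * ρ a⁻¹) • ρ a =
      (Fintype.card Q : K) • f.smulRight v := fun f v => LinearMap.ext fun w => by
    obtain ⟨c, hc⟩ := sch _ (avg_comm ρ (f.smulRight w))
    have h1 : (Fintype.card Q : K) * f w = c * finrank K V := by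
      have := congrArg (trace K V) hc
      rw [map_sum, map_smul, trace_one, sum_congr rfl fun a _ => show _ = f w by
        rw [trace_mul_comm, ← mul_assoc, ← map_mul, inv_mul_cancel, map_one, one_mul, trace_smulRight]] at this
      simpa using this
    have h2 := congrArg (fun θ : End K V => θ v) hc
    have h3 : ∀ a, trace K V (f.smulRight v * ρ a⁻¹) = f (ρ a⁻¹ v) := fun a => by
      rw [trace_mul_comm, show ρ a⁻¹ * f.smulRight v = f.smulRight (ρ a⁻¹ v) by ext; simp, trace_smulRight]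
    simp only [LinearMap.coe_sum, Finset.sum_apply, End.mul_apply, smulRight_apply, map_smul, LinearMap.smul_apply, End.one_apply] at h2
    simp only [h3, LinearMap.coe_sum, Finset.sum_apply, LinearMap.smul_apply, smulRight_apply]
    rw [h2, smul_smul, smul_smul, h1, mul_comm]
  let b := Module.finBasis K V
  have e : φ = ∑ i, (b.coord i).smulRight (φ (b i)) := by
    ext w
    conv_lhs => rw [← b.sum_repr w, map_sum]
    simp
  rw [e]
  simp only [sum_mul, map_sum, sum_smul]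
  rw [sum_comm, smul_sum, smul_sum]
  exact sum_congr rfl fun i _ => key _ _

theorem maschke (hq : (Fintype.card Q : K) ≠ 0) (sch : ∀ φ : End K V, (∀ a, φ * ρ a = ρ a * φ) → ∃ c : K, φ = c • 1)
    (W : Submodule K V) (h : ∀ a, ∀ w ∈ W, ρ a w ∈ W) : W = ⊥ ∨ W = ⊤ := by
  obtain ⟨W', c⟩ := W.exists_isCompl
  obtain ⟨k, hk⟩ := sch _ (avg_comm ρ (W.subtype ∘ₗ W.projectionOnto W' c))
  refine or_iff_not_imp_left.2 fun e => eq_top_iff.2 fun v _ => ?_
  obtain ⟨w, w1, w2⟩ := W.exists_mem_ne_zero_of_ne_bot e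
  have h1 := congrArg (fun θ : End K V => θ w) hk
  simp only [LinearMap.coe_sum, Finset.sum_apply, End.mul_apply, coe_comp, Function.comp, LinearMap.smul_apply, End.one_apply] at h1
  rw [sum_congr rfl fun a _ => show _ = w by
    rw [Submodule.projectionOnto_apply_left c ⟨_, h _ w w1⟩, Submodule.subtype_apply, ← End.mul_apply,
      ← map_mul, mul_inv_cancel, map_one, End.one_apply], sum_const, card_univ, ← Nat.cast_smul_eq_nsmul K] at h1
  have h2 : k ≠ 0 := (smul_left_injective K w2 h1) ▸ hq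
  have h3 := congrArg (fun θ : End K V => θ v) hk
  simp only [LinearMap.coe_sum, Finset.sum_apply, End.mul_apply, coe_comp, Function.comp, LinearMap.smul_apply, End.one_apply] at h3
  exact (W.smul_mem_iff h2).1 (h3 ▸ W.sum_mem fun a _ => h _ _ (Submodule.coe_mem _))

omit [Fintype Q] in
theorem rho_ne [Nontrivial V] (ρ : Q →* End K V) (a : Q) : ρ a ≠ 0 := fun e =>
  one_ne_zero (α := End K V) (by rw [← map_one ρ, ← mul_inv_cancel a, map_mul, e, zero_mul])

omit [Fintype Q] in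
theorem rho_inj (ρ : Q →* End K V) (a : Q) {v : V} (e : ρ a v = 0) : v = 0 := by
  rw [← End.one_apply (R := K) v, ← map_one ρ, ← inv_mul_cancel a, map_mul, End.mul_apply, e, map_zero]

theorem finrank_pow_aux [IsAlgClosed K] (hq : q.Prime) (m : ℕ) : ∀ (Q : Type u) [Group Q] [Finite Q] (V : Type v)
    [AddCommGroup V] [Module K V] [FiniteDimensional K V] [Nontrivial V] (ρ : Q →* End K V), Nat.card Q = m →
    IsPGroup q Q → (∀ W : Submodule K V, (∀ a, ∀ w ∈ W, ρ a w ∈ W) → W = ⊥ ∨ W = ⊤) → ∃ k, finrank K V = q ^ k := by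
  induction m using Nat.strong_induction_on with | _ m ih
  intro Q _ _ V _ _ _ _ ρ hm hQ irr
  haveI := Fact.mk hq
  have sc : ∀ a, (∀ b, ρ a * ρ b = ρ b * ρ a) → ∃ c : K, ρ a = c • 1 := fun a h =>
    schur _ irr _ fun μ b => eig_inv (h b) μ
  let Z : Subgroup Q := (Subgroup.center ρ.toHomUnits.range).comap ρ.toHomUnits.rangeRestrict
  have hZ : ∀ a, a ∈ Z ↔ ∀ b, ρ a * ρ b = ρ b * ρ a := fun a => by
    rw [Subgroup.mem_comap, Subgroup.mem_center_iff]
    refine ⟨fun h b => (congrArg (fun x : ρ.toHomUnits.range => (x.1 : End K V))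
      (h (ρ.toHomUnits.rangeRestrict b))).symm, fun h b => ?_⟩
    obtain ⟨b, rfl⟩ := ρ.toHomUnits.rangeRestrict_surjective b
    exact Subtype.ext (Units.ext (h b).symm)
  by_cases hT : Z = ⊤
  · obtain ⟨v, hv⟩ := exists_ne (0 : V)
    refine ⟨0, by
      rw [← finrank_top, ← (irr (K ∙ v) fun a w hw => ?_).resolve_left (by simpa), finrank_span_singleton hv, pow_zero]
      obtain ⟨c, hc⟩ := sc a ((hZ a).1 (hT ▸ Subgroup.mem_top a))
      exact hc ▸ Submodule.smul_mem _ c hw⟩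
  haveI : Nontrivial (Q ⧸ Z) := QuotientGroup.nontrivial_iff.2 hT
  have h1 := hQ.to_quotient Z
  haveI := h1.center_nontrivial
  obtain ⟨⟨z, z1⟩, z2⟩ := exists_prime_orderOf_dvd_card' (G := Subgroup.center (Q ⧸ Z)) q (by
    obtain ⟨k, hk, e⟩ := (h1.to_subgroup (Subgroup.center _)).nontrivial_iff_card.1 inferInstance
    exact e ▸ dvd_pow_self q hk.ne')
  obtain ⟨a, rfl⟩ := QuotientGroup.mk_surjective z
  rw [Subgroup.orderOf_mk] at z2
  have a1 : a ∉ Z := fun e => hq.one_lt.ne' (by rw [← z2, (QuotientGroup.eq_one_iff a).2 e, orderOf_one])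
  have a2 : a ^ q ∈ Z := (QuotientGroup.eq_one_iff _).1 (by rw [QuotientGroup.mk_pow, ← z2, pow_orderOf_eq_one])
  let R : Q → K → Prop := fun b c => ρ a * ρ b = c • (ρ b * ρ a)
  have r1 : ∀ b, ∃ c, R b c := fun b => by
    obtain ⟨c, hc⟩ := sc (a * b * a⁻¹ * b⁻¹) ((hZ _).1 ((QuotientGroup.eq_one_iff _).1 (by
      simp [← Subgroup.mem_center_iff.1 z1 b])))
    exact ⟨c, show _ = _ by rw [← one_mul (ρ b * ρ a), ← smul_mul_assoc, ← hc, ← map_mul, ← map_mul, ← map_mul]; group⟩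
  have r2 : ∀ {b c b' c'}, R b c → R b' c' → R (b * b') (c * c') := fun {b c b' c'} h h' => show _ = _ by
    rw [map_mul, ← mul_assoc, h, smul_mul_assoc, mul_assoc, h', mul_smul_comm, smul_smul, mul_assoc]
  have r3 : ∀ {b c c'}, R b c → R b c' → c = c' := fun {b c c'} h h' =>
    smul_left_injective K (map_mul ρ b a ▸ rho_ne ρ (b * a)) (h.symm.trans h')
  have r4 : ∀ {b c}, R b c → ∀ i : ℕ, R (b ^ i) (c ^ i) := fun {b c} h i => by
    induction i with
    | zero => simp [R]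
    | succ i ih => rw [pow_succ, pow_succ]; exact r2 ih h
  have r5 : ∀ {b c}, R b c → c ^ q = 1 := fun {b c} h => by
    have : ∀ i : ℕ, ρ (a ^ i) * ρ b = c ^ i • (ρ b * ρ (a ^ i)) := fun i => by
      induction i with
      | zero => simp
      | succ i ih => rw [pow_succ, map_mul, mul_assoc, h, mul_smul_comm, ← mul_assoc, ih, smul_mul_assoc, smul_smul,
          pow_succ', mul_assoc]
    have e := this q
    rw [(hZ _).1 a2, ← map_mul] at e
    exact smul_left_injective K (rho_ne ρ _) (e.symm.trans (one_smul K _).symm)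
  obtain ⟨t, ht⟩ := not_forall.1 (mt (hZ a).2 a1)
  obtain ⟨ζ, hζ⟩ := r1 t
  have pr : IsPrimitiveRoot ζ q := (orderOf_eq_prime (r5 hζ) fun e => ht (by simpa [R, e] using hζ)) ▸ IsPrimitiveRoot.orderOf ζ
  let C : Subgroup Q := (Subgroup.centralizer {ρ.toHomUnits a}).comap ρ.toHomUnits
  have hC : ∀ b, b ∈ C ↔ ρ a * ρ b = ρ b * ρ a := fun b => by
    rw [Subgroup.mem_comap, Subgroup.mem_centralizer_singleton_iff, Units.ext_iff, eq_comm]; rfl
  obtain ⟨μ, hμ⟩ := (ρ a).exists_eigenvalue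
  obtain ⟨W, w1, w2, w3, w4⟩ := exists_min (fun W : Submodule K V => ∀ b : C, ∀ w ∈ W, ρ b w ∈ W)
    (fun b => eig_inv ((hC _).1 b.2) μ) hμ
  haveI := Submodule.nontrivial_iff_ne_bot.2 w2
  obtain ⟨k, hk⟩ := ih _ (((H18.card_lt (lt_top_iff_ne_top.2 fun e : C = ⊤ => ht ((hC t).1 (e ▸ Subgroup.mem_top t)))).trans_eq Subgroup.card_top).trans_eq hm) C W
    (resHom (ρ.comp C.subtype) W w3) rfl (hQ.to_subgroup C) fun W' h => w4 W' (by
      rintro b _ ⟨w, hw, rfl⟩; exact ⟨_, h b w hw, rfl⟩)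
  let Ψ : (Fin q → W) →ₗ[K] V := ∑ i : Fin q, ρ (t ^ (i : ℕ)) ∘ₗ W.subtype ∘ₗ LinearMap.proj i
  have hΨ : ∀ w, Ψ w = ∑ i : Fin q, ρ (t ^ (i : ℕ)) (w i) := fun w => by simp [Ψ]
  have μ0 : μ ≠ 0 := by
    rintro rfl
    obtain ⟨v, v1, v2⟩ := hμ.exists_hasEigenvector
    exact v2 (rho_inj ρ a (by simpa using v1))
  have inj : Function.Injective Ψ := (injective_iff_map_eq_zero _).2 fun w hw => funext fun i => Subtype.ext
    (rho_inj ρ _ (eq_zero_of_sum (ρ a) (μ := fun i : Fin q => ζ ^ (i : ℕ) * μ)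
      (fun i j e => Fin.ext (pr.pow_inj i.2 j.2 (mul_right_cancel₀ μ0 e))) (fun i => End.mem_eigenspace_iff.2 (by
        rw [← End.mul_apply, r4 hζ i, LinearMap.smul_apply, End.mul_apply, End.mem_eigenspace_iff.1 (w1 (w i).2),
          map_smul, smul_smul])) (hΨ w ▸ hw) i))
  have sur : LinearMap.range Ψ = ⊤ := by
    refine (irr _ ?_).resolve_left fun e => ?_
    · rintro b _ ⟨w, rfl⟩
      rw [hΨ, map_sum]
      refine Submodule.sum_mem _ fun i _ => ?_
      obtain ⟨c, hc⟩ := r1 (b * t ^ (i : ℕ))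
      obtain ⟨j, j1, rfl⟩ := pr.eq_pow_of_pow_eq_one (r5 hc)
      obtain ⟨κ, hκ⟩ := r1 ((t ^ j)⁻¹ * (b * t ^ (i : ℕ)))
      have e := r2 (r4 hζ j) hκ
      rw [mul_inv_cancel_left] at e
      have e2 : κ = 1 := mul_left_cancel₀ (pow_ne_zero j (pr.ne_zero hq.ne_zero)) ((r3 e hc).trans (mul_one _).symm)
      refine ⟨Pi.single ⟨j, j1⟩ ⟨_, w3 ⟨(t ^ j)⁻¹ * (b * t ^ (i : ℕ)), (hC _).2 (by rw [e2] at hκ; simpa only [R, one_smul] using hκ)⟩ _ (w i).2⟩, ?_⟩
      rw [hΨ, sum_eq_single ⟨j, j1⟩ (fun l _ hl => by simp [hl]) (by simp), Pi.single_eq_same, ← End.mul_apply,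
        ← map_mul, mul_inv_cancel_left, map_mul, End.mul_apply]
    · obtain ⟨w, hw⟩ := exists_ne (0 : Fin q → W)
      exact hw (inj (by rw [map_zero, ← Submodule.mem_bot K, ← e]; exact ⟨w, rfl⟩))
  refine ⟨k + 1, ?_⟩
  rw [← (LinearEquiv.ofBijective Ψ ⟨inj, range_eq_top.1 sur⟩).finrank_eq, finrank_pi_fintype]
  simp [hk, pow_succ']

end H21.HB
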