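import Cfsg.Agent.H21.HHB

/-! Hall-Higman Theorem B, linear algebra part 2: `HD` (data), `HD.crit` (critical case), `HD.core` (Theorem B
for `Q⟨g⟩` over an algebraically closed field). -/

set_option autoImplicit false
set_option linter.unusedSectionVars false

namespace H21.HB
open Module LinearMap Finset Polynomial
universe u v

variable {K : Type*} [Field K] {V : Type v} [AddCommGroup V] [Module K V] [FiniteDimensional K V]
  {Q : Type u} [Group Q] {p q n : ℕ}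

theorem sum_orbits {α M : Type*} [Finite α] [AddCommMonoid M] (σ : Equiv.Perm α) {N : ℕ} (h0 : N ≠ 0) (hN : σ ^ N = 1)
    (S : AddSubmonoid M) (f : α → M) (R : Finset α) (inv : ∀ a ∈ R, σ a ∈ R)
    (reg : ∀ a ∈ R, ∀ i, (σ ^ i) a = a → N ∣ i) (h : ∀ a ∈ R, ∑ i ∈ range N, f ((σ ^ i) a) ∈ S) :
    ∑ a ∈ R, f a ∈ S := by
  classical
  rw [sum_partition (Equiv.Perm.SameCycle.setoid σ)]
  refine S.sum_mem fun x hx => ?_
  obtain ⟨a, ha, rfl⟩ := mem_image.1 hx
  have i1 : ∀ i : ℕ, (σ ^ i) a ∈ R := fun i => by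
    induction i with
    | zero => exact ha
    | succ i ih => rw [pow_succ']; exact inv _ ih
  have i2 : ∀ i j, i ≤ j → j < N → (σ ^ i) a = (σ ^ j) a → i = j := fun i j e hj e2 => by
    obtain ⟨k, rfl⟩ := Nat.exists_eq_add_of_le e
    rw [pow_add, Equiv.Perm.mul_apply] at e2
    have := Nat.eq_zero_of_dvd_of_lt (reg a ha k ((σ ^ i).injective e2).symm) (by omega)
    omega
  convert h a ha using 1
  rw [← sum_image (g := fun i => (σ ^ i) a) fun i hi j hj e => by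
    rcases le_total i j with h | h
    · exact i2 i j h (mem_range.1 hj) e
    · exact (i2 j i h (mem_range.1 hi) e.symm).symm]
  refine sum_congr (Finset.ext fun y => ?_) fun _ _ => rfl
  rw [mem_filter, Quotient.eq, mem_image]
  refine ⟨fun ⟨_, h2⟩ => ?_, ?_⟩
  · obtain ⟨i, h3, h4⟩ := Equiv.Perm.SameCycle.exists_pow_eq' (Equiv.Perm.SameCycle.symm h2)
    exact ⟨i, mem_range.2 (h3.trans_le (orderOf_le_of_pow_eq_one (Nat.pos_of_ne_zero h0) hN)), h4⟩
  · rintro ⟨i, -, rfl⟩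
    exact ⟨i1 i, Equiv.Perm.SameCycle.symm ⟨i, by simp⟩⟩

theorem geom_char [hp : Fact p.Prime] [CharP K p] {A : Type*} [Ring A] [Algebra K A] (x : A) (n : ℕ) :
    ∑ i ∈ range (p ^ n), x ^ i = (x - 1) ^ (p ^ n - 1) := by
  have : ∑ i ∈ range (p ^ n), (X : K[X]) ^ i = (X - 1) ^ (p ^ n - 1) :=
    mul_right_cancel₀ (X_sub_C_ne_zero (1 : K)) (by
      rw [map_one, geom_sum_mul, ← pow_succ, Nat.sub_add_cancel (Nat.one_le_pow _ _ hp.out.pos), sub_pow_char_pow,
        one_pow])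
  simpa using congrArg (aeval x) this

theorem sub_one_pow [hp : Fact p.Prime] [CharP K p] {A : Type*} [Ring A] [Algebra K A] (x : A) (n : ℕ) :
    (x - 1) ^ p ^ n = x ^ p ^ n - 1 := by
  have : ((X : K[X]) - 1) ^ p ^ n = X ^ p ^ n - 1 := by rw [sub_pow_char_pow, one_pow]
  simpa using congrArg (aeval x) this

/-- conjugation by `g` with inverse `g'` -/
noncomputable def cjE (g g' : End K V) : End K (End K V) := mulLeft K g * mulRight K g'

theorem cjE_apply (g g' φ : End K V) : cjE g g' φ = g * φ * g' := (mul_assoc _ _ _).symm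

theorem cjE_pow (g g' φ : End K V) (i : ℕ) : (cjE g g' ^ i) φ = g ^ i * φ * g' ^ i := by
  induction i with
  | zero => simp
  | succ i ih => rw [pow_succ', End.mul_apply, ih, cjE_apply, pow_succ', pow_succ]; simp only [mul_assoc]

theorem orbit_sum_mem [hp : Fact p.Prime] [CharP K p] {g g' : End K V} (h : g * g' = 1) {s : ℕ} (hs : (g - 1) ^ s = 0)
    (ψ : End K V) : ∑ i ∈ range (p ^ n), (cjE g g' ^ i) ψ ∈ LinearMap.range (mulLeft K ((g - 1) ^ (p ^ n - s))) := by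
  let L : End K (End K V) := mulLeft K (g - 1)
  let R : End K (End K V) := mulRight K (g - 1)
  let R' : End K (End K V) := mulRight K g'
  have e : cjE g g' - 1 = (L + -R) * R' := by
    ext1 φ
    simp only [L, R, R', LinearMap.sub_apply, cjE_apply, End.mul_apply, LinearMap.add_apply, LinearMap.neg_apply,
      mulLeft_apply, mulRight_apply, End.one_apply, sub_mul, mul_sub, one_mul, mul_one, mul_assoc, mul_eq_one_comm.1 h]
    abel
  have c1 : Commute L R := commute_mulLeft_right _ _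
  have c2 : Commute L R' := commute_mulLeft_right _ _
  have c3 : Commute R R' := LinearMap.ext fun φ => by
    simp [R, R', mul_assoc, mul_sub, sub_mul, h, mul_eq_one_comm.1 h]
  rw [← LinearMap.sum_apply, geom_char (K := K), e, (c2.add_left c3.neg_left).mul_pow, c1.neg_right.add_pow',
    End.mul_apply, LinearMap.sum_apply]
  refine Submodule.sum_mem _ fun m hm => ?_
  rw [LinearMap.smul_apply]
  refine Submodule.smul_of_tower_mem _ _ ?_
  rw [HasAntidiagonal.mem_antidiagonal] at hm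
  rcases le_or_gt s m.2 with h1 | h1
  · rw [neg_pow, pow_mulRight, pow_eq_zero_of_le h1 hs]; simp
  · obtain ⟨k, hk⟩ := Nat.exists_eq_add_of_le (show p ^ n - s ≤ m.1 by omega)
    rw [hk, pow_add, pow_mulLeft, mul_assoc]
    exact ⟨_, rfl⟩

/-- Hall-Higman data: `g` normalizes `ρ(Q)` inducing `σ`; both have order dividing `p ^ n`. -/
structure HD (p n : ℕ) (ρ : Q →* End K V) (σ : MulAut Q) (g : End K V) : Prop where
  rel : ∀ a, g * ρ a = ρ (σ a) * g
  gp : g ^ p ^ n = 1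
  sp : σ ^ p ^ n = 1

variable [hp : Fact p.Prime] [CharP K p] [Fintype Q] {ρ : Q →* End K V} {σ : MulAut Q} {g : End K V}

namespace HD
variable (h : HD p n ρ σ g)
include h

theorem mul_inv : g * g ^ (p ^ n - 1) = 1 := by
  rw [← pow_succ', Nat.sub_add_cancel (Nat.one_le_pow _ _ hp.out.pos), h.gp]

theorem inv_mul : g ^ (p ^ n - 1) * g = 1 := mul_eq_one_comm.1 h.mul_inv

theorem cj_rho (a : Q) : cjE g (g ^ (p ^ n - 1)) (ρ a) = ρ (σ a) := by
  rw [cjE_apply, h.rel, mul_assoc, h.mul_inv, mul_one]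

theorem cj_rho_pow (a : Q) (i : ℕ) : (cjE g (g ^ (p ^ n - 1)) ^ i) (ρ a) = ρ ((σ ^ i) a) := by
  induction i with
  | zero => simp
  | succ i ih => rw [pow_succ', End.mul_apply, ih, h.cj_rho, pow_succ', MulAut.mul_apply]

theorem nil : (g - 1) ^ p ^ n = 0 := by rw [sub_one_pow (K := K), h.gp, sub_self]

theorem key (hq : (Fintype.card Q : K) ≠ 0) (sch : ∀ φ : End K V, (∀ a, φ * ρ a = ρ a * φ) → ∃ c : K, φ = c • 1)
    (reg : ∀ a, (∃ c : K, ρ a = c • 1) ∨ ∀ i, (σ ^ i) a = a → p ^ n ∣ i) {s : ℕ} (hs : (g - 1) ^ s = 0)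
    {φ : End K V} (hφ : φ * g = g * φ) : ∃ (c : K) (ψ : End K V), φ = c • 1 + (g - 1) ^ (p ^ n - s) * ψ := by
  classical
  let α : Q → K := fun a => trace K V (φ * ρ a⁻¹)
  have a1 : ∀ a, α (σ a) = α a := fun a => show trace K V _ = trace K V _ by
    rw [← map_inv, ← h.cj_rho, cjE_apply, ← mul_assoc, ← mul_assoc, hφ, trace_mul_comm, ← mul_assoc, ← mul_assoc,
      h.inv_mul, one_mul]
  have a2 : ∀ a (i : ℕ), α ((σ ^ i) a) = α a := fun a i => by
    induction i with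
    | zero => rfl
    | succ i ih => rw [pow_succ', MulAut.mul_apply, a1, ih]
  let T : Q → Prop := fun a => ∃ c : K, ρ a = c • 1
  have h1 : ∑ a ∈ univ.filter T, α a • ρ a ∈ K ∙ (1 : End K V) := Submodule.sum_mem _ fun a ha => by
    obtain ⟨c, hc⟩ := (mem_filter.1 ha).2
    exact Submodule.smul_mem _ _ (Submodule.mem_span_singleton.2 ⟨c, hc.symm⟩)
  have h2 : ∑ a ∈ univ.filter (¬ T ·), α a • ρ a ∈ LinearMap.range (mulLeft K ((g - 1) ^ (p ^ n - s))) := by
    refine sum_orbits (MulAut.toPerm Q σ) (pow_ne_zero n hp.out.ne_zero) (by rw [← map_pow, h.sp, map_one])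
      (LinearMap.range (mulLeft K ((g - 1) ^ (p ^ n - s)))).toAddSubmonoid _ _ (fun a ha => ?_) (fun a ha i e => ?_)
      fun a _ => ?_
    · refine mem_filter.2 ⟨mem_univ _, fun ⟨c, hc⟩ => (mem_filter.1 ha).2 ⟨c, ?_⟩⟩
      rw [← one_mul (ρ a), ← h.inv_mul, mul_assoc, h.rel]
      erw [hc]
      rw [smul_mul_assoc, mul_smul_comm, one_mul]
    · exact (reg a).resolve_left (mem_filter.1 ha).2 i (by rwa [← map_pow] at e)
    · have := Submodule.smul_mem _ (α a) (orbit_sum_mem (n := n) h.mul_inv hs (ρ a))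
      rw [smul_sum, sum_congr rfl fun i _ => show _ = α ((σ ^ i) a) • ρ ((σ ^ i) a) by rw [h.cj_rho_pow, a2]] at this
      simp only [← map_pow]
      exact this
  obtain ⟨c, hc⟩ := Submodule.mem_span_singleton.1 h1
  obtain ⟨ψ, hψ⟩ := h2
  have e := trace_formula sch φ
  rw [← sum_filter_add_sum_filter_not univ T, ← hc, ← hψ, mulLeft_apply] at e
  refine ⟨(Fintype.card Q : K)⁻¹ * (finrank K V * c), ((Fintype.card Q : K)⁻¹ * finrank K V) • ψ, ?_⟩
  rw [← inv_smul_smul₀ hq φ, ← e, smul_add, smul_add, mul_smul_comm, smul_smul, smul_smul, smul_smul, mul_assoc]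

theorem crit [Nontrivial V] (hq : (Fintype.card Q : K) ≠ 0)
    (sch : ∀ φ : End K V, (∀ a, φ * ρ a = ρ a * φ) → ∃ c : K, φ = c • 1)
    (reg : ∀ a, (∃ c : K, ρ a = c • 1) ∨ ∀ i, (σ ^ i) a = a → p ^ n ∣ i) (g1 : g ≠ 1)
    (h0 : (g - 1) ^ (p ^ n - 1) = 0) : (g - 1) ^ (p ^ n - 2) ≠ 0 ∧ finrank K V = p ^ n - 1 := by
  classical
  set u := g - 1 with hu
  have ex : ∃ s, u ^ s = 0 := ⟨_, h0⟩
  have s1 := Nat.find_spec ex
  have s2 : ∀ k < Nat.find ex, u ^ k ≠ 0 := fun k => Nat.find_min ex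
  have s3 := Nat.find_min' ex h0
  generalize Nat.find ex = s at s1 s2 s3
  have s4 : 2 ≤ s := by
    by_contra c
    exact g1 (sub_eq_zero.1 (by simpa using pow_eq_zero_of_le (show s ≤ 1 by omega) s1))
  have s5 : s = p ^ n - 1 := by
    by_contra c
    obtain ⟨c, ψ, e⟩ := h.key hq sch reg s1 (φ := u) (by simp [hu, sub_mul, mul_sub])
    obtain ⟨k, hk⟩ := Nat.exists_eq_add_of_le (show 2 ≤ p ^ n - s by omega)
    obtain ⟨t, rfl⟩ := Nat.exists_eq_add_of_le s4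
    rw [← hu, hk] at e
    have e1 := congrArg (u ^ (t + 1) * ·) e
    have e2 := congrArg (u ^ t * ·) e
    simp only [mul_add, mul_smul_comm, mul_one, ← mul_assoc, ← pow_add, ← pow_succ] at e1 e2
    rw [pow_eq_zero_of_le (by omega) s1, pow_eq_zero_of_le (show 2 + t ≤ t + 1 + (2 + k) by omega) s1, zero_mul,
      add_zero] at e1
    rw [pow_eq_zero_of_le (show 2 + t ≤ t + (2 + k) by omega) s1, zero_mul, add_zero,
      (smul_eq_zero.1 e1.symm).resolve_right (s2 _ (by omega)), zero_smul] at e2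
    exact s2 _ (by omega) e2
  refine ⟨s2 _ (by omega), s5 ▸ le_antisymm ?_ (not_lt.1 fun c => s2 _ c (pow_finrank ⟨_, s1⟩))⟩
  obtain ⟨t, rfl⟩ := Nat.exists_eq_add_of_le' (show 1 ≤ s by omega)
  obtain ⟨v, hv⟩ : ∃ v, (u ^ t) v ≠ 0 := not_forall.1 fun c => s2 t (by omega) (LinearMap.ext c)
  obtain ⟨f, hf⟩ := Projective.exists_dual_eq_one K hv
  have k1 : ∀ w, ∃ (c : K) (w' : V), w = c • v + u w' := fun w => by
    have cm := commute_mulLeft_right (R := K) u u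
    have e := congrArg (fun θ : End K (End K V) => θ (f.smulRight w)) (cm.mul_geom_sum₂ (t + 1))
    simp only [pow_mulLeft, pow_mulRight, s1, End.mul_apply, LinearMap.sub_apply, mulLeft_apply, mulRight_apply,
      zero_mul, mul_zero, sub_zero, sub_eq_zero] at e
    obtain ⟨c, ψ, e2⟩ := h.key hq sch reg s1 (φ := (∑ i ∈ range (t + 1), mulLeft K (u ^ i) *
      mulRight K (u ^ (t + 1 - 1 - i))) (f.smulRight w)) (by
        rw [← sub_add_cancel g 1, ← hu, mul_add, add_mul, e, mul_one, one_mul])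
    rw [← hu, show p ^ n - (t + 1) = 1 by omega, pow_one, sum_range_succ'] at e2
    have e3 := congrArg (fun θ : End K V => θ v) e2
    simp only [LinearMap.add_apply, LinearMap.sum_apply, End.mul_apply, mulLeft_apply, mulRight_apply, pow_succ',
      LinearMap.smul_apply, End.one_apply, ← map_sum, pow_zero, Nat.add_sub_cancel, Nat.sub_zero, smulRight_apply, hf,
      one_smul] at e3
    exact ⟨c, _, by rw [map_sub, ← add_sub_assoc, ← e3, add_sub_cancel_left]⟩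
  have k2 : ∀ k w, w ∈ Submodule.span K (Set.range fun i : Fin k => (u ^ (i : ℕ)) v) ⊔ LinearMap.range (u ^ k) := by
    intro k
    induction k with
    | zero => simp
    | succ k ih =>
      intro w
      obtain ⟨a, ha, _, ⟨b, rfl⟩, rfl⟩ := Submodule.mem_sup.1 (ih w)
      obtain ⟨c, w', rfl⟩ := k1 b
      rw [map_add, map_smul, ← add_assoc]
      refine Submodule.add_mem_sup (add_mem (Submodule.span_mono ?_ ha) (Submodule.smul_mem _ _
        (Submodule.subset_span ⟨Fin.last k, rfl⟩))) ⟨w', by rw [pow_succ, End.mul_apply]⟩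
      rintro _ ⟨i, rfl⟩; exact ⟨i.castSucc, rfl⟩
  have k3 : Submodule.span K (Set.range fun i : Fin (t + 1) => (u ^ (i : ℕ)) v) = ⊤ :=
    eq_top_iff.2 fun w _ => by simpa [s1] using k2 (t + 1) w
  simpa using finrank_le_of_span_eq_top k3

theorem res {W : Submodule K V} (h1 : ∀ a, ∀ w ∈ W, ρ a w ∈ W) (h2 : ∀ w ∈ W, g w ∈ W) :
    HD p n (resHom ρ W h1) σ (g.restrict h2) :=
  ⟨fun a => by ext w; exact congrArg (fun θ : End K V => θ w) (h.rel a),
    by ext w; rw [End.pow_restrict]; exact congrArg (fun θ : End K V => θ w) h.gp, h.sp⟩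

theorem rel_pow (a : Q) (i : ℕ) : g ^ i * ρ a = ρ ((σ ^ i) a) * g ^ i := by
  induction i with
  | zero => simp
  | succ i ih => rw [pow_succ', mul_assoc, ih, ← mul_assoc, h.rel, mul_assoc, pow_succ', MulAut.mul_apply]

/-- if `End_Q V ≠ K` but `End_{Q⟨g⟩} V = K`, some `ψ ∈ End_Q V` has `g ψ g⁻¹ = ψ + 1` -/
theorem exists_shift (sch : ∀ φ : End K V, (∀ a, φ * ρ a = ρ a * φ) → φ * g = g * φ → ∃ c : K, φ = c • 1)
    {φ : End K V} (h1 : ∀ a, φ * ρ a = ρ a * φ) (h2 : ¬ ∃ c : K, φ = c • 1) :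
    ∃ ψ : End K V, (∀ a, ψ * ρ a = ρ a * ψ) ∧ g * ψ = (ψ + 1) * g := by
  classical
  let D := cjE g (g ^ (p ^ n - 1)) - 1
  have d1 : ∀ θ, D θ * g = g * θ - θ * g := fun θ => by
    simp only [D, LinearMap.sub_apply, cjE_apply, End.one_apply, sub_mul, mul_assoc, h.inv_mul, mul_one]
  have d2 : ∀ θ : End K V, (∀ a, θ * ρ a = ρ a * θ) → ∀ a, D θ * ρ a = ρ a * D θ := fun θ hθ a => by
    obtain ⟨b, rfl⟩ := σ.surjective a
    simp only [D, LinearMap.sub_apply, End.one_apply, sub_mul, mul_sub, hθ, sub_left_inj]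
    rw [← h.cj_rho, cjE_apply, cjE_apply]
    simp only [mul_assoc]
    rw [← mul_assoc _ g (ρ b * _), ← mul_assoc _ g (θ * _), h.inv_mul, one_mul, one_mul, ← mul_assoc θ, hθ, mul_assoc]
  have d3 : ∀ k a, (D ^ k) φ * ρ a = ρ a * (D ^ k) φ := fun k => by
    induction k with
    | zero => exact h1
    | succ k ih => rw [pow_succ']; exact d2 _ ih
  have ex : ∃ k, (D ^ k) φ = 0 := ⟨p ^ n, by
    rw [sub_one_pow (K := K), LinearMap.sub_apply, cjE_pow, ← pow_mul, mul_comm, pow_mul, h.gp]; simp⟩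
  have s1 := Nat.find_spec ex
  have s2 : ∀ k < Nat.find ex, (D ^ k) φ ≠ 0 := fun k => Nat.find_min ex
  generalize Nat.find ex = s at s1 s2
  have d4 : ∀ k, (D ^ (k + 1)) φ = 0 → ∃ c : K, (D ^ k) φ = c • 1 := fun k e => sch _ (d3 k) (by
    rw [eq_comm, ← sub_eq_zero, ← d1, ← End.mul_apply, ← pow_succ', e, zero_mul])
  match s, s1, s2 with
  | 0, s1, _ => exact (h2 ⟨0, by simpa using s1⟩).elim
  | 1, s1, _ => exact (h2 (d4 0 s1)).elim
  | k + 2, s1, s2 =>
    obtain ⟨c, hc⟩ := d4 _ s1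
    have c0 : c ≠ 0 := fun e => s2 (k + 1) (by omega) (by rw [hc, e, zero_smul])
    refine ⟨c⁻¹ • (D ^ k) φ, fun a => by rw [smul_mul_assoc, d3, mul_smul_comm], ?_⟩
    have := d1 (c⁻¹ • (D ^ k) φ)
    rw [map_smul, ← End.mul_apply, ← pow_succ', hc, inv_smul_smul₀ c0] at this
    rw [add_mul, this]; abel

end HD

/-- the conclusion of Theorem B -/
def Concl (p q n r : ℕ) (Q : Type u) [Group Q] : Prop :=
  r + 1 = p ^ n ∨ ∃ n₀ m, 1 ≤ n₀ ∧ n₀ ≤ n ∧ 1 ≤ m ∧ p ^ n₀ - 1 = q ^ m ∧ (¬ ∀ a b : Q, a * b = b * a) ∧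
    r + 1 = p ^ (n - n₀) * (p ^ n₀ - 1)

theorem res_pow_ne {W : Submodule K V} (h2 : ∀ w ∈ W, g w ∈ W) {r : ℕ} (h : (g.restrict h2 - 1) ^ r ≠ 0) :
    ∃ w ∈ W, ((g - 1) ^ r) w ≠ 0 := by
  have h3 : ∀ w ∈ W, (g - 1) w ∈ W := fun w hw => sub_mem (h2 w hw) hw
  rw [show g.restrict h2 - 1 = (g - 1).restrict h3 from rfl, End.pow_restrict] at h
  obtain ⟨w, hw⟩ := not_forall.1 fun c => h (LinearMap.ext c)
  exact ⟨w, w.2, fun e => hw (Subtype.ext e)⟩

theorem core [IsAlgClosed K] (hq : q.Prime) (hQ : IsPGroup q Q) (hc : (Fintype.card Q : K) ≠ 0) {τ : MulAut Q}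
    (t1 : ∀ a, τ a = a → ∀ b, a * b = b * a) (t2 : Subgroup.closure (Set.range fun b => b⁻¹ * τ b) = ⊤) (n : ℕ) :
    ∀ (V : Type v) [AddCommGroup V] [Module K V] [FiniteDimensional K V] [Nontrivial V] (ρ : Q →* End K V)
      (σ : MulAut Q) (g : End K V), HD p n ρ σ g → (∀ v, (∀ a, ρ a v = v) → v = 0) →
      (∀ m, n = m + 1 → σ ^ p ^ m = τ) → ∃ r, (g - 1) ^ r ≠ 0 ∧ Concl p q n r Q := by
  induction n with
  | zero => exact fun V _ _ _ _ ρ σ g _ _ _ => ⟨0, by simp, Or.inl (by simp)⟩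
  | succ n ih =>
  intro V₀ _ _ _ _ ρ₀ σ g₀ h₀ f₀ hτ
  obtain ⟨V, -, w2, ⟨w3, w4⟩, w5⟩ := exists_min (fun W : Submodule K V₀ => (∀ a, ∀ w ∈ W, ρ₀ a w ∈ W) ∧
    ∀ w ∈ W, g₀ w ∈ W) (U := ⊤) ⟨fun _ _ _ => trivial, fun _ _ => trivial⟩ top_ne_bot
  haveI := Submodule.nontrivial_iff_ne_bot.2 w2
  have h := h₀.res w3 w4
  suffices ∃ r, (g₀.restrict w4 - 1) ^ r ≠ 0 ∧ Concl p q (n + 1) r Q by
    obtain ⟨r, r1, r2⟩ := this
    obtain ⟨w, -, hw⟩ := res_pow_ne w4 r1
    exact ⟨r, fun e => hw (by rw [e]; rfl), r2⟩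
  have f : ∀ v, (∀ a, resHom ρ₀ V w3 a v = v) → v = 0 := fun v hv =>
    Subtype.ext (f₀ v fun a => congrArg Subtype.val (hv a))
  have irr : ∀ W : Submodule K V, ((∀ a, ∀ w ∈ W, resHom ρ₀ V w3 a w ∈ W) ∧ ∀ w ∈ W, g₀.restrict w4 w ∈ W) →
      W = ⊥ ∨ W = ⊤ := fun W hW => w5 W ⟨by rintro a _ ⟨w, hw, rfl⟩; exact ⟨_, hW.1 a w hw, rfl⟩,
        by rintro _ ⟨w, hw, rfl⟩; exact ⟨_, hW.2 w hw, rfl⟩⟩
  generalize resHom ρ₀ V w3 = ρ at h f irr
  generalize g₀.restrict w4 = g at h irr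
  have sch2 : ∀ φ : End K V, (∀ a, φ * ρ a = ρ a * φ) → φ * g = g * φ → ∃ c : K, φ = c • 1 := fun φ h1 h2 =>
    schur _ irr φ fun μ => ⟨fun a => eig_inv (h1 a) μ, eig_inv h2 μ⟩
  by_cases sch : ∀ φ : End K V, (∀ a, φ * ρ a = ρ a * φ) → ∃ c : K, φ = c • 1
  · have reg : ∀ a, (∃ c : K, ρ a = c • 1) ∨ ∀ i, (σ ^ i) a = a → p ^ (n + 1) ∣ i := fun a =>
      or_iff_not_imp_right.2 fun c => sch _ fun b => by
        obtain ⟨i, h1, h2⟩ : ∃ i, (σ ^ i) a = a ∧ ¬ p ^ (n + 1) ∣ i := by simpa using c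
        obtain ⟨k, k1, k2⟩ := (Nat.dvd_prime_pow hp.out).1 (MulAction.pow_smul_eq_iff_period_dvd.1
          (show σ ^ p ^ (n + 1) • a = a by rw [h.sp, one_smul]))
        have k3 : k ≤ n := Nat.le_of_lt_succ (k1.lt_of_ne fun e => h2 (by
          rw [← e, ← k2]; exact MulAction.pow_smul_eq_iff_period_dvd.1 h1))
        rw [← map_mul, ← map_mul, t1 a (hτ n rfl ▸ MulAction.pow_smul_eq_iff_period_dvd.2 (k2 ▸ pow_dvd_pow p k3))]
    have g1 : g ≠ 1 := by
      rintro rfl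
      obtain ⟨v, hv⟩ := exists_ne (0 : V)
      have : ρ.toHomUnits.ker = ⊤ := eq_top_iff.2 (t2 ▸ (Subgroup.closure_le _).2 (by
        rintro _ ⟨b, rfl⟩
        have := h.rel_pow b (p ^ n)
        rw [hτ n rfl, one_pow, one_mul, mul_one] at this
        exact Units.ext (by rw [MonoidHom.coe_toHomUnits, map_mul, ← this, ← map_mul, inv_mul_cancel, map_one]; rfl)))
      exact hv (f v fun a => by
        rw [show ρ a = 1 from congrArg Units.val (MonoidHom.mem_ker.1 (this ▸ Subgroup.mem_top a :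
          a ∈ ρ.toHomUnits.ker))]; rfl)
    have N1 : 1 < p ^ (n + 1) := Nat.one_lt_pow (by omega) hp.out.one_lt
    by_cases h0 : (g - 1) ^ (p ^ (n + 1) - 1) = 0
    swap
    · exact ⟨_, h0, Or.inl (by omega)⟩
    obtain ⟨c1, c2⟩ := h.crit hc sch reg g1 h0
    obtain ⟨k, hk⟩ := finrank_pow_aux hq _ Q V ρ rfl hQ (maschke hc sch)
    have N2 : 2 < p ^ (n + 1) := lt_of_le_of_ne N1 fun e => g1 (by rw [← e] at h0; simpa [sub_eq_zero] using h0)
    refine ⟨_, c1, Or.inr ⟨n + 1, k, by omega, le_rfl, Nat.pos_of_ne_zero ?_, c2 ▸ hk, fun c => g1 ?_, ?_⟩⟩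
    · rintro rfl; rw [pow_zero] at hk; omega
    · obtain ⟨d, hd⟩ := sch (g - 1) fun a => by
        obtain ⟨e, he⟩ := sch (ρ a) fun b => by rw [← map_mul, c, map_mul]
        rw [he, mul_smul_comm, smul_mul_assoc, mul_one, one_mul]
      rw [hd, _root_.smul_pow, one_pow] at h0
      rw [← sub_eq_zero, hd, pow_eq_zero_iff (by omega) |>.1 ((smul_eq_zero.1 h0).resolve_right one_ne_zero), zero_smul]
    · rw [Nat.sub_self, pow_zero]; omega
  obtain ⟨φ, h1, h2⟩ : ∃ φ : End K V, (∀ a, φ * ρ a = ρ a * φ) ∧ ¬ ∃ c : K, φ = c • 1 := by simpa using sch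
  obtain ⟨ψ, p1, p2⟩ := h.exists_shift sch2 h1 h2
  obtain ⟨μ, hμ⟩ := ψ.exists_eigenvalue
  haveI := Submodule.nontrivial_iff_ne_bot.2 hμ
  have e1 : ∀ i : ℕ, ∀ w ∈ ψ.eigenspace μ, (g ^ i) w ∈ ψ.eigenspace (μ - i) := fun i w hw => by
    induction i with
    | zero => simpa using hw
    | succ i ih =>
      have := congrArg (fun θ : End K V => θ ((g ^ i) w)) p2
      simp only [End.mul_apply, LinearMap.add_apply, End.one_apply, End.mem_eigenspace_iff.1 ih, map_smul] at this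
      rw [End.mem_eigenspace_iff, pow_succ', End.mul_apply, Nat.cast_succ, ← sub_sub, sub_smul, this, one_smul,
        add_sub_cancel_right]
  have e2 : ∀ w ∈ ψ.eigenspace μ, (g ^ p) w ∈ ψ.eigenspace μ := fun w hw => by simpa using e1 p w hw
  have h' : HD p n ρ (σ ^ p) (g ^ p) := ⟨fun a => h.rel_pow a p, by rw [← pow_mul, ← pow_succ', h.gp],
    by rw [← pow_mul, ← pow_succ', h.sp]⟩
  obtain ⟨r, r1, r2⟩ := ih _ _ _ _ (h'.res (fun a => eig_inv (p1 a) μ) e2)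
    (fun v hv => Subtype.ext (f v fun a => congrArg Subtype.val (hv a)))
    fun m e => by rw [← pow_mul, ← pow_succ', ← e, hτ n rfl]
  obtain ⟨w, v1, v2⟩ := res_pow_ne e2 r1
  have v3 : ((g ^ p - 1) ^ r) w ∈ ψ.eigenspace μ :=
    End.pow_apply_mem_of_forall_mem r (fun w hw => sub_mem (e2 w hw) hw) w v1
  refine ⟨p - 1 + p * r, fun e => v2 ?_, ?_⟩
  · have e3 := congrArg (fun θ : End K V => θ w) e
    have e4 := geom_char (K := K) (p := p) g 1
    have e5 := sub_one_pow (K := K) (p := p) g 1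
    rw [pow_one] at e4 e5
    simp only [pow_add, pow_mul, e5, ← e4, End.mul_apply, LinearMap.sum_apply, LinearMap.zero_apply,
      Finset.sum_range] at e3
    simpa using eq_zero_of_sum ψ (μ := fun i : Fin p => μ - (i : ℕ)) (fun i j e => Fin.ext
      (CharP.natCast_injOn_Iio K p i.2 j.2 (sub_right_injective e))) (fun i => e1 i _ v3) e3 ⟨0, hp.out.pos⟩
  · have e3 : p - 1 + p * r + 1 = p * (r + 1) := by have := hp.out.pos; rw [mul_add]; omega
    rcases r2 with r2 | ⟨n₀, m, a1, a2, a3, a4, a5, a6⟩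
    · exact Or.inl (by rw [e3, r2, pow_succ'])
    · exact Or.inr ⟨n₀, m, a1, by omega, a3, a4, a5, by rw [e3, a6, Nat.succ_sub a2, pow_succ', mul_assoc]⟩

end H21.HB
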