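import Cfsg.Agent.H21.HHC
import Cfsg.Agent.H21.PLen
import Cfsg.Agent.H21.MinAct
import Cfsg.Agent.H1.LiftChar

/-! Hall-Higman Theorem B for groups: `thmB_min` (for a minimal action `MinAct`), `thmB_q`, `thmB` (faithful
representation of a `p`-solvable group with `O_p = 1`); `Exc` is the exceptional case. -/

set_option autoImplicit false
set_option linter.unusedSectionVars false

namespace H21.HB
open Module Subgroup Cfsg H18 H1
open scoped commutatorElement TensorProduct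
universe u v

variable {G : Type u} [Group G] [Finite G] {F : Type*} [Field F] {V : Type v} [AddCommGroup V] [Module F V]
  [FiniteDimensional F V] {p q n : ℕ} [hp : Fact p.Prime] [CharP F p] {x : G} {U H : Subgroup G}

theorem thmB_alg [IsAlgClosed F] (ρ : G →* End F V) (hx : x ^ p ^ (n + 1) = 1)
    (h : MinAct q (zpowers x) (zpowers (x ^ p ^ n)) U) (hqp : q ≠ p) (nt : ∃ u ∈ U, ρ u ≠ 1) :
    ∃ r, (ρ x - 1) ^ r ≠ 0 ∧ Concl p q (n + 1) r U := by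
  classical
  haveI := Fintype.ofFinite U
  have xN : x ∈ N(U) := h.norm (mem_zpowers x)
  let σ : MulAut U := U.normalizerMonoidHom ⟨x, xN⟩
  have hσ : ∀ (i : ℕ) (a : U), ((σ ^ i) a : G) = x ^ i * a * (x ^ i)⁻¹ := fun i a => by
    rw [← map_pow]; rfl
  let ρ' : U →* End F V := ρ.comp U.subtype
  have hd : HD p (n + 1) ρ' σ (ρ x) := ⟨fun a => by
      show ρ x * ρ a = ρ (x * a * x⁻¹) * ρ x
      rw [← map_mul, ← map_mul, inv_mul_cancel_right], by rw [← map_pow, hx, map_one],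
    by ext a; rw [hσ, hx]; simp⟩
  let e : End F V := ∑ a, ρ' a
  have e1 : ∀ b, e * ρ' b = e := fun b => by
    rw [Finset.sum_mul]
    exact Fintype.sum_equiv (Equiv.mulRight b) _ _ fun a => (map_mul ρ' a b).symm
  have e2 : ρ x * e = e * ρ x := by
    rw [Finset.sum_mul, Finset.mul_sum]
    exact Fintype.sum_equiv σ.toEquiv _ _ fun a => hd.rel a
  have hc : (Fintype.card U : F) ≠ 0 := by
    rw [← Nat.card_eq_fintype_card, Ne, CharP.cast_eq_zero_iff F p]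
    exact (piNat_compl_iff hp.out).1 (PiNat.p'_of_ne h.pi hqp)
  have i1 : ∀ a, ∀ w ∈ LinearMap.ker e, ρ' a w ∈ LinearMap.ker e := fun a w hw => by
    rwa [LinearMap.mem_ker, ← End.mul_apply, e1]
  have i2 : ∀ w ∈ LinearMap.ker e, ρ x w ∈ LinearMap.ker e := fun w hw => by
    rw [LinearMap.mem_ker, ← End.mul_apply, ← e2, End.mul_apply, hw, map_zero]
  haveI : Nontrivial (LinearMap.ker e) := Submodule.nontrivial_iff_ne_bot.2 fun c => by
    obtain ⟨u, u1, u2⟩ := nt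
    exact u2 (LinearMap.ext fun w => LinearMap.ker_eq_bot.1 c (by
      rw [← End.mul_apply]; exact congrArg (fun θ : End F V => θ w) (e1 ⟨u, u1⟩)))
  have t1 : ∀ a, (σ ^ p ^ n) a = a → ∀ b, a * b = b * a := fun a ha b => by
    have : (a : G) ∈ U ⊓ C(zpowers (x ^ p ^ n)) := mem_inf.2 ⟨a.2, by
      rw [C_zpowers, mem_C1, eq_comm, ← mul_inv_eq_iff_eq_mul, ← hσ, ha]⟩
    exact Subtype.ext (comm_of_cent h.der_cent (h.cent_eq_der ▸ this) b.2)
  have t2 : closure (Set.range fun b => b⁻¹ * (σ ^ p ^ n) b) = ⊤ := by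
    refine map_injective U.subtype_injective (le_antisymm (map_mono le_top) ?_)
    rw [← MonoidHom.range_eq_map, range_subtype]
    refine h.comm_eq.symm.le.trans (commutator_le.2 fun a ha y hy => ?_)
    obtain ⟨i, rfl⟩ := (mem_powers_iff_mem_zpowers.2 hy)
    have : ∀ (i : ℕ) (b : U), b⁻¹ * ((σ ^ p ^ n) ^ i) b ∈ closure (Set.range fun b => b⁻¹ * (σ ^ p ^ n) b) := by
      intro i b
      induction i with
      | zero => simp
      | succ i ih =>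
        have := mul_mem ih (subset_closure ⟨((σ ^ p ^ n) ^ i) b, rfl⟩)
        rwa [mul_assoc, mul_inv_cancel_left, ← MulAut.mul_apply, ← pow_succ'] at this
    refine ⟨_, this i ⟨a, ha⟩⁻¹, ?_⟩
    rw [← pow_mul, inv_inv, coe_subtype, coe_mul, hσ, commutatorElement_def, pow_mul]
    simp [mul_assoc]
  obtain ⟨r, r1, r2⟩ := core (K := F) (p := p) h.prime h.pi.isPGroup hc t1 t2 (n + 1) _
    _ σ _ (hd.res i1 i2) (fun v hv => Subtype.ext (by
      have := v.2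
      rw [LinearMap.mem_ker, LinearMap.sum_apply, Finset.sum_congr rfl fun a _ => show ρ' a v = v from
        congrArg Subtype.val (hv a),
        Finset.sum_const, Finset.card_univ, ← Nat.cast_smul_eq_nsmul F] at this
      exact (smul_eq_zero.1 this).resolve_left hc)) fun m e => by rw [Nat.succ.inj e]
  obtain ⟨w, -, hw⟩ := res_pow_ne i2 r1
  exact ⟨r, fun e => hw (by rw [e]; rfl), r2⟩

theorem thmB_min (ρ : G →* End F V) (hx : x ^ p ^ (n + 1) = 1)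
    (h : MinAct q (zpowers x) (zpowers (x ^ p ^ n)) U) (hqp : q ≠ p) (nt : ∃ u ∈ U, ρ u ≠ 1) :
    ∃ r, (ρ x - 1) ^ r ≠ 0 ∧ Concl p q (n + 1) r U := by
  let K := AlgebraicClosure F
  let φ := End.baseChangeHom F K V
  have inj : Function.Injective φ := LinearMap.baseChangeHom_injective F V K
  obtain ⟨u, u1, u2⟩ := nt
  obtain ⟨r, r1, r2⟩ := thmB_alg (F := K) (φ.toMonoidHom.comp ρ) hx h hqp ⟨u, u1, fun e => u2 (inj (e.trans (map_one φ).symm))⟩
  exact ⟨r, fun e => r1 (by simpa using congrArg φ e), r2⟩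

/-- the exceptional case of Theorem B in the subgroup `H` -/
def Exc (p n r : ℕ) (H : Subgroup G) : Prop :=
  ∃ q n₀ m, ∃ U ≤ H, q.Prime ∧ q ≠ p ∧ PiGrp {q} U ∧ ¬ Abel U ∧ 1 ≤ n₀ ∧ n₀ ≤ n ∧ 1 ≤ m ∧ p ^ n₀ - 1 = q ^ m ∧
    r + 1 = p ^ (n - n₀) * (p ^ n₀ - 1)

/-- `x` acts on a `p'`-group `H` on which `ρ` is faithful, and `x ^ p ^ n` does not centralize `H` -/
theorem thmB_q (ρ : G →* End F V) (hx : x ^ p ^ (n + 1) = 1) (hH : PiGrp {p}ᶜ H) (hn : x ∈ N(H))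
    (nc : x ^ p ^ n ∉ C(H)) (inj : ∀ u ∈ H, ρ u = 1 → u = 1) :
    ∃ r, (ρ x - 1) ^ r ≠ 0 ∧ (r + 1 = p ^ (n + 1) ∨ Exc p (n + 1) r H) := by
  have xp : PiElt {p} x := (piNat_pow_self hp.out _).of_dvd (orderOf_dvd_of_pow_eq_one hx)
  have c : Cop (zpowers x) H := ⟨zpowers_le.2 hn, xp.zpowers.coprime hH, Or.inl abel_zpowers.solv⟩
  obtain ⟨q, hq, q1, Q, hQ, n1, n2⟩ : ∃ q, q.Prime ∧ q ∣ Nat.card H ∧ ∃ Q, Hall {q} Q H ∧ zpowers x ≤ N(Q) ∧
      ¬ Q ≤ C(zpowers (x ^ p ^ n)) := by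
    by_contra! c2
    refine nc (le_C1_iff.1 (le_of_sylows fun q hq q1 => ?_))
    obtain ⟨Q, h1, h2⟩ := c.exists_sylow hq
    exact ⟨Q, h1, (c2 q hq q1 Q h1 h2).trans C_zpowers.le⟩
  have qp : q ≠ p := fun e => (piNat_compl_iff hp.out).1 hH (e ▸ q1)
  have l : zpowers (x ^ p ^ n) ≤ zpowers x := zpowers_le.2 (npow_mem_zpowers x _)
  obtain ⟨U, u1, hU⟩ := exists_minAct hQ.2 n1 l (abel_zpowers.norm l) (PiNat.p'_of_ne (xp.pow' _).zpowers qp.symm) n2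
  obtain ⟨u, u2, u3⟩ := exists_mem_ne_one' hU.ne_bot
  obtain ⟨r, r1, r2⟩ := thmB_min ρ hx hU qp ⟨u, u2, fun e => u3 (inj u (hQ.1 (u1 u2)) e)⟩
  refine ⟨r, r1, r2.imp_right fun ⟨n₀, m, a1, a2, a3, a4, a5, a6⟩ => ⟨q, n₀, m, U, u1.trans hQ.1, hq, qp, hU.pi,
    fun c => a5 fun a b => Subtype.ext (comm_of_cent c a.2 b.2), a1, a2, a3, a4, a6⟩⟩

/-- Theorem B of Hall and Higman -/
theorem thmB [Nontrivial V] (ρ : G →* End F V) (inj : ∀ u ∈ H, ρ u = 1 → u = 1) (hs : H4.PSol p H) (hO : O[{p}](H) = ⊥)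
    (xH : x ∈ H) (hx : orderOf x = p ^ n) : ∃ r, (ρ x - 1) ^ r ≠ 0 ∧ (r + 1 = p ^ n ∨ Exc p n r H) := by
  rcases n with _ | n
  · exact ⟨0, by simp, Or.inl (by simp)⟩
  have xp : PiElt {p} x := (piNat_pow_self hp.out _).of_dvd hx.dvd
  obtain ⟨r, r1, r2⟩ := thmB_q ρ (hx ▸ pow_orderOf_eq_one x) (pcore_pi (π := {p}ᶜ) (H := H)) (pcore_nml.2 xH)
    (fun c => pow_ne_one_of_lt_orderOf (pow_ne_zero n hp.out.ne_zero) (hx ▸ Nat.pow_lt_pow_succ hp.out.one_lt)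
      ((xp.pow' _).eq_one' (pcore_pi.elt (psol_cent_p'core hs hO ⟨H.pow_mem xH _, c⟩)))) fun u hu => inj u (pcore_nml.1 hu)
  exact ⟨r, r1, r2.imp_right fun ⟨q, n₀, m, U, a, b⟩ => ⟨q, n₀, m, U, a.trans pcore_nml.1, b⟩⟩

end H21.HB
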