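import Cfsg.Agent.H21.HHD
import Cfsg.Agent.H4.Sec
import Cfsg.Agent.H1.FTCor

/-! Group-theoretic form of Hall-Higman: `RD p H V` (`V = O_p(H)` elementary and self-centralizing), `exists_rd`,
`qrep` (action of `N(V)/V` on `V`), `RD.thmB`, `plr_step`, `NoExc`, `plr_of_exp` (`l_p ≤ e_p`), `sec_of_mim`. -/

set_option autoImplicit false
set_option linter.unusedSectionVars false

namespace H21.HB
open Module Subgroup Cfsg H18 H1
universe u v

variable {G : Type u} [Group G] [Finite G] {p n k : ℕ} [hp : Fact p.Prime] {x y : G} {A H K V : Subgroup G}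

/-- `V = O_p(H)` is elementary abelian and self-centralizing in the `p`-solvable group `H` -/
structure RD (p : ℕ) (H V : Subgroup G) : Prop where
  psol : H4.PSol p H
  elem : Elem p V
  nml : V ⊴ H
  cent : H ⊓ C(V) ≤ V
  core : O[{p}](H) ≤ V

theorem cent_phi (hs : H4.PSol p H) (e : O[{p}ᶜ](H) = ⊥) (hA : A ⊴ H) (h : ⁅O[{p}](H), A⁆ ≤ Φ(O[{p}](H))) :
    A ≤ O[{p}](H) := by
  refine le_pcore hA (piGrp_of_prime_elt fun x hx h1 => by_contra fun c => ?_)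
  have x1 : PiElt {p}ᶜ x := (piNat_prime h1).2 c
  have x2 : zpowers x ≤ H := zpowers_le.2 (hA.1 hx)
  have := cent_of_comm_le_phi (x2.trans pcore_nml.2) (x1.zpowers.coprime' pcore_pi)
    ((comm_mono le_rfl (zpowers_le.2 hx)).trans h)
  exact h1.one_lt.ne' (orderOf_eq_one_iff.2 ((pcore_pi.elt (psol_chP hs e ⟨hA.1 hx, this (mem_zpowers x)⟩)).eq_one' x1))

theorem exists_rd (hs : H4.PSol p H) : ∃ M, M ⊴ H ∧ O[{p}ᶜ](H) ≤ M ∧ M ≤ O2[{p}ᶜ,{p}](H) ∧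
    RD p (H ⫽ M) (O2[{p}ᶜ,{p}](H) ⫽ M) := by
  set A := O[{p}ᶜ](H)
  set B := O2[{p}ᶜ,{p}](H)
  have nA : A ⊴ H := pcore_nml
  have nB : B ⊴ H := pcore2_nml
  have e : B ⫽ A = O[{p}](H ⫽ A) := quo_pcore2
  let M := qpre A Φ(O[{p}](H ⫽ A))
  have nM : M ⊴ H := nml_qpre nA pcore_nml.phi
  have MB : M ≤ B := qpre_le_of_le pcore_nml_pcore2 (e ▸ phi_le)
  have BN : B ≤ N(A) := nB.1.trans nA.2
  have BM : B ≤ N(M) := nB.1.trans nM.2
  have mem : ∀ {x}, x ∈ N(A) → cs A x ∈ Φ(O[{p}](H ⫽ A)) → x ∈ M := fun h1 h2 => mem_mpre.2 ⟨h1, h2⟩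
  refine ⟨M, nM, le_qpre, MB, psol_mim hs, ⟨(abel_quo_iff BM).2 ?_, fun a ha => ?_⟩, nB.mim, ?_, ?_⟩
  · rw [← mim_le_iff (der_le.trans BN), mim_comm BN BN, e]
    exact pcore_pi.der_le_phi hp.out
  · obtain ⟨x, h1, rfl⟩ := (mem_quo BM).1 ha
    rw [← mfun_pow (BM h1)]
    refine cs_eq_one (mem (pow_mem (BN h1) _) ?_)
    rw [mfun_pow (BN h1)]
    exact pcore_pi.pow_mem_phi hp.out (e ▸ mfun_mem_mim h1)
  · let Y := qpre M (H ⫽ M ⊓ C(B ⫽ M))
    have nY : Y ⊴ H := nml_qpre nM nB.mim.cent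
    rw [← quo_qpre (U := H ⫽ M ⊓ C(B ⫽ M))]
    refine mim_mono (le_of_quo_le (nY.1.trans nA.2) pcore_nml_pcore2 (e ▸ cent_phi (psol_mim hs) ?_ nY.mim ?_))
    · rw [← quo_rad]
      exact quo_eq_bot (by simpa only [rad_bot] using rad_rad_le (π := {p}ᶜ) (Nml.bot (H := H)))
    · refine (comm_mono e.ge le_rfl).trans ?_
      rw [← mim_comm BN (nY.1.trans nA.2), mim_le_iff ((comm_le_of_le nB.1 nY.1).trans nA.2)]
      exact (comm_le_iff_quo BM (nY.1.trans nM.2)).2 (cent_symm (quo_qpre.le.trans inf_le_right))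
  · rw [← quo_qpre (U := O[{p}](H ⫽ M))]
    exact mim_mono (le_pcore2 (qpre_pcore_nml nM) (PiNat.idx_trans (PiNat.idx_mono pcore2_idx BN MB) qpre_pcore_idx
      (MB.trans BN)))

/-- the action of `N(V)/V` on the elementary abelian group `V` -/
noncomputable def qrep (hV : Elem p V) : Coset V →* End (ZMod p) (EV hV) :=
  (Units.coeHom _).comp (QuotientGroup.lift (V.subgroupOf N(V))
    (MonoidHom.toHomUnits (elemRep hV N(V).subtype fun g => g.2)) fun g hg => Units.ext (LinearMap.ext fun v =>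
      EV.ext (mul_inv_eq_iff_eq_mul.2 (comm_of_cent hV.abel hg v.mem))))

theorem qrep_val (hV : Elem p V) (hx : x ∈ N(V)) (v : EV hV) : (qrep hV (cs V x) v).val = x * v.val * x⁻¹ := by
  rw [mfun_of_mem hx]; rfl

theorem mul_pow_val (hV : Elem p V) (hx : x ∈ N(V)) (v : EV hV) (m : ℕ) :
    (v.val * x) ^ m = ((∑ i ∈ Finset.range m, qrep hV (cs V x) ^ i) v).val * x ^ m := by
  induction m with
  | zero => simp
  | succ m ih =>
    rw [pow_succ, ih, Finset.sum_range_succ, LinearMap.add_apply, EV.val_add, ← map_pow, ← mfun_pow hx,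
      qrep_val hV (pow_mem hx m), pow_succ]
    simp only [mul_assoc, inv_mul_cancel_left]

theorem val_ne {hV : Elem p V} {v : EV hV} (h : v ≠ 0) : v.val ≠ 1 := fun e => h (EV.ext e)

namespace RD
variable (h : RD p H V)
include h

theorem pi : PiGrp {p} V := piGrp_of_elt fun a ha => piElt_of_pow_eq_one hp.out (h.elem.pow a ha)
theorem eq : O[{p}](H) = V := le_antisymm h.core (le_pcore h.nml h.pi)

theorem quo_core : O[{p}](H ⫽ V) = ⊥ := by
  rw [← quo_qpre (U := O[{p}](H ⫽ V))]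
  exact quo_eq_bot ((le_pcore (qpre_pcore_nml h.nml) (piGrp_of_relIndex le_qpre h.pi qpre_pcore_idx)).trans h.core)

theorem inj : ∀ u ∈ H ⫽ V, qrep h.elem u = 1 → u = 1 := fun u hu e => by
  obtain ⟨x, h1, rfl⟩ := (mem_quo h.nml.2).1 hu
  refine cs_eq_one (h.cent ⟨h1, mem_C.2 fun v hv => ?_⟩)
  have := qrep_val h.elem (h.nml.2 h1) (EV.mk h.elem v hv)
  rw [e] at this
  exact eq_mul_inv_iff_mul_eq.1 this

theorem le_of_bot (e : V = ⊥) : H ≤ V := fun x hx => h.cent ⟨hx, by simp [e]⟩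

theorem thmB (hx : x ∈ H) (h0 : V ≠ ⊥) (ho : orderOf (cs V x) = p ^ n) :
    ∃ r, (qrep h.elem (cs V x) - 1) ^ r ≠ 0 ∧ (r + 1 = p ^ n ∨ Exc p n r (H ⫽ V)) := by
  haveI : Nontrivial (EV h.elem) := (nontrivial_iff_ne_bot V).2 h0
  exact HB.thmB _ h.inj (psol_mim h.psol) h.quo_core (mfun_mem_mim hx) ho

/-- a complement `Q` to `V` in `O_{p,p'}(H)` -/
theorem exists_compl : ∃ Q ≤ H, PiGrp {p}ᶜ Q ∧ H ≤ N(V ⊔ Q) ∧ (∀ a ∈ H, ∃ v ∈ V, v * a ∈ N(Q)) ∧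
    ∀ a ∈ H, PiElt {p} a → ⁅zpowers a, Q⁆ ≤ V → a ∈ V := by
  have n := rad_nml (π := {p}ᶜ) h.nml
  obtain ⟨Q, hQ⟩ := exists_sd (h.nml.of_le le_rad_self n.1) (h.pi.coprime rad_idx)
  have q : PiGrp {p}ᶜ Q := by rw [PiGrp, ← hQ.relIndex]; exact rad_idx
  have QH := hQ.le_right.trans n.1
  refine ⟨Q, QH, q, hQ.sup.symm ▸ n.2, fun a ha => ?_, fun a ha a1 a2 => ?_⟩
  · have := hQ.cj a
    rw [cj_eq_self (h.nml.2 ha), cj_eq_self (n.2 ha)] at this
    obtain ⟨v, v1, v2⟩ := sd_conj hQ this (h.pi.coprime q)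
    exact ⟨v⁻¹, inv_mem v1, mem_N_iff_cj.2 (by rw [cj_mul, v2, cj_inv_cj])⟩
  · have aN := h.nml.2 ha
    have := (comm_le_iff_quo (zpowers_le.2 aN) hQ.norm).1 a2
    rw [← hQ.quo, quo_rad, mim_zpowers aN] at this
    exact (cs_eq_one_iff aN).1 ((a1.mfun aN).eq_one' (pcore_pi.elt (psol_cent_p'core (psol_mim h.psol) h.quo_core
      ⟨mfun_mem_mim ha, this (mem_zpowers _)⟩)))

end RD

theorem plr_step (Pr : ∀ (G : Type u) [Group G], Subgroup G → Prop)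
    (hq : ∀ (G : Type u) [Group G] [Finite G] (H K : Subgroup G), K ⊴ H → Pr G H → Pr _ (H ⫽ K))
    (h : ∀ (G : Type u) [Group G] [Finite G] (H V : Subgroup G), RD p H V → Pr G H → PLR p H k V)
    (hs : H4.PSol p H) (hP : Pr G H) : PLR p H (k + 1) ⊥ := by
  obtain ⟨M, m1, -, m2, m3⟩ := exists_rd hs
  have := (h _ _ _ m3 (hq _ _ _ m1 hP)).mpre (f := coset M) (le_top.trans quo_N.ge)
  rw [qpre_quo_nml m1, qpre_quo_nml (m1.of_le m2 pcore2_le)] at this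
  exact (this.of_p pcore_nml pcore2_idx).of_p' Nml.bot (by simpa using pcore_pi)

/-- no exceptional case of Theorem B in sections of `H` -/
def NoExc (p : ℕ) (H : Subgroup G) : Prop :=
  ∀ q n₀ m, q.Prime → q ≠ p → 1 ≤ n₀ → 1 ≤ m → p ^ n₀ - 1 = q ^ m → ∀ U ≤ H, PiGrp {q} U → Abel U

theorem NoExc.quo (h : NoExc p H) (hK : H ≤ N(K)) : NoExc p (H ⫽ K) := fun q n₀ m a b c d e U h1 h2 => by
  obtain ⟨P, p1, p2, rfl⟩ := exists_pGrp_lift a hK h1 h2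
  exact (h q n₀ m a b c d e P p1 p2.2).mim

theorem NoExc.not_exc (h : NoExc p H) {r : ℕ} : ¬ Exc p n r H := fun ⟨q, n₀, m, U, a, b, c, d, e, f, _, g, i, _⟩ =>
  e (h q n₀ m b c f g i U a d)

theorem noExc_of_not_fermat (h2 : p ≠ 2) (h : (¬ ∃ k, p = 2 ^ k + 1) ∨ ∀ U ≤ H, PiGrp {2} U → Abel U) : NoExc p H := by
  intro q n₀ m a _ c d e
  have o : Odd (p ^ n₀) := (hp.out.odd_of_ne_two h2).pow
  obtain rfl : 2 = q := (Nat.prime_dvd_prime_iff_eq Nat.prime_two a).1 (Nat.prime_two.dvd_of_dvd_pow (n := m)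
    (e ▸ (Nat.Odd.sub_odd o odd_one).two_dvd))
  refine h.resolve_left fun c => c ?_
  obtain ⟨k, -, hk⟩ := (Nat.dvd_prime_pow Nat.prime_two).1 (e ▸ Nat.sub_one_dvd_pow_sub_one p n₀)
  exact ⟨k, by have := hp.out.pos; omega⟩

/-- a `p`-element of `H / V` of order `p ^ n` acting freely lifts to one of order `≥ p ^ (n + 1)` -/
theorem RD.exp_quo (h : RD p H V) (hn : NoExc p H) (he : ∀ x ∈ H, PiElt {p} x → x ^ p ^ (n + 1) = 1) :
    ∀ z ∈ H ⫽ V, PiElt {p} z → z ^ p ^ n = 1 := fun z hz z1 => by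
  obtain ⟨x, x1, x2, x3, rfl⟩ := exists_piElt_lift hz z1
  by_cases h0 : V = ⊥
  · rw [cs_eq_one (h.le_of_bot h0 x1), one_pow]
  obtain ⟨m, hm⟩ := z1.eq_pow (orderOf_pos _).ne'
  refine orderOf_dvd_iff_pow_eq_one.1 (hm ▸ pow_dvd_pow p (not_lt.1 fun c => ?_))
  obtain ⟨r, r1, r2⟩ := h.thmB x1 h0 hm
  obtain ⟨v, hv⟩ := not_forall.1 fun c => r1 (LinearMap.ext c)
  have k : ∀ y ∈ H, PiElt {p} y → y ^ p ^ m = 1 := fun y a b =>
    orderOf_dvd_iff_pow_eq_one.1 ((orderOf_dvd_of_pow_eq_one (he y a b)).trans (pow_dvd_pow p c))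
  have := k (v.val * x) (mul_mem (h.nml.1 v.mem) x1) ((x3.zpowers.sup_norm h.pi (zpowers_le.2 x2)).elt
    (mul_mem (mem_sup_right v.mem) (mem_sup_left (mem_zpowers x))))
  rw [mul_pow_val h.elem x2, k x x1 x3, mul_one, geom_char (K := ZMod p),
    ← r2.resolve_right (hn.quo h.nml.2).not_exc, Nat.add_sub_cancel] at this
  exact val_ne hv this

theorem exp_quo (he : ∀ x ∈ H, PiElt {p} x → x ^ n = 1) : ∀ z ∈ H ⫽ K, PiElt {p} z → z ^ n = 1 := fun z hz z1 => by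
  obtain ⟨x, x1, x2, x3, rfl⟩ := exists_piElt_lift hz z1
  rw [← mfun_pow x2, he x x1 x3, mfun_one]

/-- `l_p ≤ e_p` in the non-exceptional case -/
theorem plr_of_exp (n : ℕ) : ∀ (G : Type u) [Group G] [Finite G] (H : Subgroup G), H4.PSol p H → NoExc p H →
    (∀ x ∈ H, PiElt {p} x → x ^ p ^ n = 1) → PLR p H n ⊥ := by
  induction n with
  | zero =>
    intro G _ _ H _ _ he
    refine plr_zero_iff.2 ⟨Nml.bot, ?_⟩
    rw [relIndex_bot_left]
    refine piGrp_of_prime_elt fun x hx h1 (e : _ = p) => h1.one_lt.ne' (orderOf_eq_one_iff.2 ?_)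
    simpa using he x hx (e ▸ piNat_self h1)
  | succ n ih =>
    intro G _ _ H hs hn he
    exact plr_step (fun G _ H => NoExc p H ∧ ∀ x ∈ H, PiElt {p} x → x ^ p ^ (n + 1) = 1)
      (fun G _ _ H K hK h => ⟨h.1.quo hK.2, exp_quo h.2⟩) (fun G _ _ H V h a => (plr_quo_iff h.nml).1
        (ih _ _ (psol_mim h.psol) (a.1.quo h.nml.2) (h.exp_quo a.1 a.2))) hs ⟨hn, he⟩

theorem sec_of_mim {X Q : Type*} [Group X] [Group Q] {D : Subgroup G} {f : D →* Q} (h : H4.Sec X (mim f H)) :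
    H4.Sec X H := (H4.Sec.of_map h |> (H4.sec_map_iff D.subtype_injective).2).mono (by rw [subgroupOf_map_subtype]; exact inf_le_left)

theorem abel_of_sylow {q : ℕ} (hq : q.Prime) (h : ∀ Q : Sylow q G, IsMulCommutative (Q : Subgroup G)) (U : Subgroup G)
    (hU : PiGrp {q} U) : Abel U := by
  haveI := Fact.mk hq
  obtain ⟨Q, hQ⟩ := hU.isPGroup.exists_le_sylow
  exact (abel_of_comm (h Q)).mono hQ

end H21.HB
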