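import Cfsg.Agent.H3.PG
import Cfsg.Agent.S3889

/-! Nilpotent minimal covers of centerless groups (Bryce–Serena): for an abelian Sylow subgroup `P`
without a partition, `C(P)` is a member of the cover and `N(P)` contains every proper overgroup of `C(P)`. -/

set_option autoImplicit false

namespace H21

open H18 Subgroup

variable {G : Type*} [Group G] [Finite G] {𝓐 : Finset (Subgroup G)} {A B M P : Subgroup G} {p : ℕ} {x : G}

structure NC (𝓐 : Finset (Subgroup G)) : Prop where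
  cen : center G = ⊥
  cov : ∀ g, ∃ A ∈ 𝓐, g ∈ A
  nil : ∀ A ∈ 𝓐, Nil A
  gen : ∀ A ∈ 𝓐, ∀ B ∈ 𝓐, ∀ M, M ≠ ⊤ → A ≤ M → B ≤ M → A = B

structure NCGood (p : ℕ) (P : Subgroup G) : Prop where
  pp : p.Prime
  hall : Hall {p} P ⊤
  ab : Abel P
  ne : P ≠ ⊥
  nel : ¬ ((∀ a ∈ P, a ^ p = 1) ∧ p < Nat.card P)

omit [Finite G] in
theorem NC.of_min (hZ : center G = ⊥)
    (h : ((∀ A ∈ 𝓐, A ≠ ⊤) ∧ (∀ g : G, ∃ A ∈ 𝓐, g ∈ A)) ∧ (∀ 𝓑 : Finset (Subgroup G),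
      (∀ A ∈ 𝓑, A ≠ ⊤) ∧ (∀ g : G, ∃ A ∈ 𝓑, g ∈ A) → 𝓐.card ≤ 𝓑.card) ∧ (∀ A ∈ 𝓐, Group.IsNilpotent ↥A)) :
    NC 𝓐 := by
  classical
  refine ⟨hZ, h.1.2, h.2.2, fun A hA B hB M hM a b => by_contra fun ne => ?_⟩
  have h5 := h.2.1 (insert M ((𝓐.erase A).erase B)) ⟨fun X hX => ?_, fun g => ?_⟩
  · have h6 := Finset.card_insert_le M ((𝓐.erase A).erase B)
    rw [Finset.card_erase_of_mem (Finset.mem_erase.mpr ⟨Ne.symm ne, hB⟩), Finset.card_erase_of_mem hA] at h6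
    have := Finset.one_lt_card.mpr ⟨A, hA, B, hB, ne⟩
    omega
  · rcases Finset.mem_insert.1 hX with rfl | hX
    · exact hM
    · exact h.1.1 X (Finset.mem_of_mem_erase (Finset.mem_of_mem_erase hX))
  · obtain ⟨X, hX, hg⟩ := h.1.2 g
    by_cases e1 : X = A
    · exact ⟨M, Finset.mem_insert_self _ _, a (e1 ▸ hg)⟩
    by_cases e2 : X = B
    · exact ⟨M, Finset.mem_insert_self _ _, b (e2 ▸ hg)⟩
    exact ⟨X, Finset.mem_insert_of_mem (by simp [hX, e1, e2]), hg⟩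

omit [Finite G] in
theorem NCGood.cj (h : NCGood p P) (g : G) : NCGood p (cj g P) :=
  ⟨h.pp, h.hall.cj_top g, h.ab.cj g, by simpa using h.ne, fun e => h.nel ⟨fun a ha => by
    have := e.1 _ (conj_mem_cj (g := g) ha)
    rwa [conj_pow, conj_eq_one_iff'] at this, by simpa using e.2⟩⟩

theorem NC.le_C1 (h : NC 𝓐) (g : NCGood p P) (hA : A ∈ 𝓐) (hx : x ∈ A) (px : PiElt {p} x) : A ≤ C1(x) := by
  have n := h.nil A hA
  have xO := n.le_pcore (zpowers_le.2 hx) px.zpowers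
  obtain ⟨y, -, hy⟩ := sylow_le_cj' g.pp g.hall (pcore_pi (H := A)) le_top
  rw [← n.pcore_sup (π := {p}), ← C_zpowers]
  exact sup_le (cent_mono ((g.ab.cj y).mono hy) le_rfl xO) (cent_mono (cent_symm pcore_cent_compl) le_rfl xO)

theorem NC.uniq (h : NC 𝓐) (g : NCGood p P) (hA : A ∈ 𝓐) (hB : B ∈ 𝓐) (a : x ∈ A) (b : x ∈ B)
    (px : PiElt {p} x) (x1 : x ≠ 1) : A = B :=
  h.gen A hA B hB C1(x) (fun e => x1 (eq_one_of_eq_bot h.cen (mem_center_iff.2 fun y =>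
    mem_C1.1 (e.ge (mem_top y))))) (h.le_C1 g hA a px) (h.le_C1 g hB b px)

theorem NC.exists_le (h : NC 𝓐) (g : NCGood p P) : ∃ A ∈ 𝓐, P ≤ A := by
  by_contra! n
  have ab := g.ab.comm
  letI : CommGroup P := { (inferInstance : Group P) with mul_comm := ab.is_comm.comm }
  have := Cfsg.Agent.S3889.result (G := P) ((fun A => A.subgroupOf P) '' 𝓐)
    (by rintro _ ⟨A, hA, rfl⟩ e; exact n A hA (subgroupOf_eq_top.1 e))
    (fun y => let ⟨A, hA, hy⟩ := h.cov y; ⟨_, ⟨A, hA, rfl⟩, hy⟩)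
    (by
      rintro _ ⟨A, hA, rfl⟩ _ ⟨B, hB, rfl⟩ ne
      refine eq_bot_iff.2 fun y hy => by_contra fun y1 => ne ?_
      rw [h.uniq g hA hB hy.1 hy.2 (g.hall.pi.elt y.2) fun e => y1 (Subtype.ext e)])
  have e := g.hall.pi.eq_of_dvd this Group.exponent_dvd_nat_card
  refine g.nel ⟨fun a ha => congrArg Subtype.val (e ▸ Monoid.pow_exponent_eq_one (⟨a, ha⟩ : P)), lt_of_not_ge fun c => ?_⟩
  obtain ⟨y, hy⟩ := (cyc_of_prime ((H3.card_eq_prime_of_le g.hall.pi g.ne c).symm ▸ g.pp)).gen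
  obtain ⟨A, hA, ha⟩ := h.cov y
  exact n A hA (hy.ge.trans (zpowers_le.2 ha))

theorem NC.cent_mem (h : NC 𝓐) (g : NCGood p P) : C(P) ∈ 𝓐 := by
  obtain ⟨A, hA, PA⟩ := h.exists_le g
  obtain ⟨x, hx, x1⟩ := exists_mem_ne_one' g.ne
  have px := g.hall.pi.elt hx
  refine (le_antisymm (cent_symm fun y hy => le_C1_iff.1 (h.le_C1 g hA (PA hy) (g.hall.pi.elt hy)))
    fun c hc => mem_of_parts (π := {p}) (PA ?_) ?_ : A = C(P)) ▸ hA
  · exact (g.hall.of_le le_N le_top).mem_of_nml le_rfl (C_le_N (piPart_mem hc)) piElt_piPart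
  · have cm := mem_C.1 (piPart_mem (π := {p}ᶜ) hc) x hx
    obtain ⟨B, hB, hb⟩ := h.cov (x * piPart {p}ᶜ c)
    rw [h.uniq g hA hB (PA hx) (zpowers_le.2 hb (mem_zpowers_mul_left cm px piElt_piPart)) px x1]
    exact zpowers_le.2 hb (mem_zpowers_mul_right cm px piElt_piPart)

theorem NC.mem_N (h : NC 𝓐) (g : NCGood p P) {y : G} (e : C(P) = C(cj y P)) : y ∈ N(P) := by
  have n := h.nil _ (h.cent_mem g)
  exact mem_N_iff_cj.2 ((n.hall_eq ((g.cj y).hall.of_le ((g.cj y).ab.trans e.ge) le_top)).trans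
    (n.hall_eq (g.hall.of_le g.ab le_top)).symm)

theorem NC.le_N (h : NC 𝓐) (g : NCGood p P) (hM : M ≠ ⊤) (c : C(P) ≤ M) : M ≤ N(P) := fun y hy =>
  h.mem_N g (h.gen _ (h.cent_mem g) _ (h.cent_mem (g.cj y)) M hM c (cj_C.ge.trans (cj_le_of_mem c hy)))

theorem NC.coatom (h : NC 𝓐) (g : NCGood p P) (hn : ¬ P.Normal) : IsCoatom N(P) :=
  ⟨fun e => hn (norm_top_iff.1 e.ge), fun _ l => by_contra fun e => l.not_ge (h.le_N g e (C_le_N.trans l.le))⟩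

theorem NC.ti (h : NC 𝓐) (g : NCGood p P) {y : G} (d : p ∣ Nat.card (N(P) ⊓ cj y N(P) : Subgroup G)) : y ∈ N(P) := by
  obtain ⟨x, hx, o⟩ := cauchy g.pp d
  have px : PiElt {p} x := by unfold PiElt; rw [o]; exact piNat_self g.pp
  rw [cj_N] at hx
  exact h.mem_N g (h.uniq g (h.cent_mem g) (h.cent_mem (g.cj y))
    (g.ab ((g.hall.of_le H18.le_N le_top).mem_of_nml le_rfl hx.1 px))
    ((g.cj y).ab (((g.cj y).hall.of_le H18.le_N le_top).mem_of_nml le_rfl hx.2 px)) px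
    fun e => g.pp.ne_one (by rw [← o, e, orderOf_one]))

end H21
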