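import Cfsg.Agent.H18.BG1
import Cfsg.Agent.H3.BG4b
import Cfsg.Agent.H4.Quad
import Cfsg.Agent.H2.Subnormal

/-! `p`-stability in the `H18` vocabulary (`quad_stab`), `subnIn_pcore_le`, `le_pcore_of_forall_cj`,
`le_pcore_of_norm_idx`, characteristic `p` (`ChP`), primitive pairs `PP p M₁ M₂` and the amalgam argument
showing that a primitive pair of characteristic `p` involves `SL₂(p)` (`PP.sec`). -/

set_option autoImplicit false

namespace H21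
open Subgroup Cfsg H18 H1
open scoped commutatorElement MatrixGroups

variable {G : Type*} [Group G] {A B C D H K L M P Q R S U V W X Y : Subgroup G} {p n : ℕ} {π : Set ℕ}
  {x y g : G}

theorem cent_map_subtype {Y : Subgroup H} :
    (centralizer (Y : Set H)).map H.subtype = H ⊓ C(Y.map H.subtype) := by
  ext x
  constructor
  · rintro ⟨y, hy, rfl⟩
    refine ⟨y.2, ?_⟩
    rintro _ ⟨z, hz, rfl⟩
    exact congrArg Subtype.val (hy z hz)
  · rintro ⟨h1, h2⟩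
    exact ⟨⟨x, h1⟩, fun z hz => Subtype.ext (h2 _ ⟨z, hz, rfl⟩), rfl⟩

variable [Finite G]

/-- `H` has characteristic `p` -/
def ChP (p : ℕ) (H : Subgroup G) : Prop := H ⊓ C(O[{p}](H)) ≤ O[{p}](H)

theorem chP_iff (hp : p.Prime) : ChP p H ↔ centralizer (pCore p H : Set H) ≤ pCore p H := by
  rw [ChP, ← pCore_map hp, ← cent_map_subtype, map_le_map_iff_of_injective H.subtype_injective]

theorem ChP.cj (h : ChP p H) (g : G) : ChP p (cj g H) := by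
  rw [ChP, ← cj_pcore, ← cj_C, ← cj_inf, cj_le_cj]; exact h

theorem ChP.pcore_ne_bot (h : ChP p H) (hA : A ⊴ H) (h1 : A ≠ ⊥) : O[{p}](A) ≠ ⊥ := fun e => by
  rw [hA.pcore_eq_inf] at e
  have : A ≤ O[{p}](H) := (le_inf hA.le (cent_of_inf_eq_bot (hA.le.trans pcore_nml.norm)
    (pcore_le.trans hA.norm) e)).trans h
  exact h1 (by rw [← e, inf_eq_left.2 this])

theorem subnIn_pcore_le (h : H2.SubnIn A H) : O[π](A) ≤ O[π](H) := by
  induction h with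
  | refl => exact le_rfl
  | step h1 h2 _ ih => exact (Nml.pcore_le_pcore ⟨h1, h2⟩).trans ih

theorem le_pcore_of_subnIn (h : H2.SubnIn A H) (hA : PiGrp π A) : A ≤ O[π](H) :=
  (pcore_eq_self hA).ge.trans (subnIn_pcore_le h)

theorem le_pcore_of_forall_cj (hS : S ≤ D) (hp : PiGrp π S) (h : ∀ d ∈ D, R ≤ cj d S) : R ≤ O[π](D) := by
  have e : ⨅ d : D, cj (d : G) S ≤ S := (iInf_le _ 1).trans (by simp)
  refine (le_iInf fun d : D => h d d.2).trans (le_pcore ⟨e.trans hS, fun g hg => mem_N_of_cj_le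
    (le_iInf fun d => ?_)⟩ (hp.of_le e))
  rw [cj_le_iff, cj_cj]
  exact iInf_le (fun d : D => cj (d : G) S) ⟨g⁻¹ * d, mul_mem (inv_mem hg) d.2⟩

theorem le_pcore_of_norm_idx (hp : p.Prime) (hR : PiGrp {p} R) (hD : R ≤ D) (hC : D ≤ N(C))
    (hi : PiNat {p} (C.relIndex D)) (hn : D ⊓ C ≤ N(R)) : R ≤ O[{p}](D) := by
  obtain ⟨S, hS, hRS⟩ := exists_sylow_le hp hR hD
  refine le_pcore_of_forall_cj hS.le hS.pi fun d hd => ?_
  have e : S ⊔ (D ⊓ C) = D := hS.sup_of_idx inf_le_left (by rwa [relIndex_inf_left])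
  obtain ⟨c, hc, s, hs, rfl⟩ := (mem_sup_of_norm' (hS.le.trans (nml_inf_of_norm hC).norm)).1
    ((sup_comm S _ ▸ e).ge hd)
  rw [cj_mul, cj_eq_self_of_mem hs, ← cj_eq_self (hn hc)]
  exact cj_mono hRS

theorem quad_stab [hp : Fact p.Prime] (h2 : p ≠ 2) (hs : ¬ H4.Sec SL(2, ZMod p) H) (hP : PiGrp {p} P)
    (hH : H ≤ N(P)) (hA : A ≤ H) (q : ⁅⁅P, A⁆, A⁆ = ⊥) :
    ∃ D, A ≤ D ∧ D ⊴ H ∧ PiNat {p} (C(P).relIndex D) := by
  refine ⟨_, H4.le_opMod_of_not_sec_SL2 h2 hP.isPGroup hH hs hA q,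
    ⟨H4.opMod_le _ _ _, H4.le_normalizer_opMod _ _ _⟩, H3.piNat_relIndex_of fun q _ hq x hx e => ?_⟩
  exact H4.pResidualOf_opMod_le (norm_C hH) (H26.mem_pResidualOf hx
    ((piNat_compl_iff_coprime hp.out).1 (PiNat.p'_of_ne e hq)))

theorem ChP.quad_le [hp : Fact p.Prime] (h : ChP p H) (h2 : p ≠ 2) (hs : ¬ H4.Sec SL(2, ZMod p) H)
    (hA : A ≤ H) (q : ⁅⁅O[{p}](H), A⁆, A⁆ = ⊥) : A ≤ O[{p}](H) := by
  obtain ⟨D, d1, d2, d3⟩ := quad_stab h2 hs pcore_pi pcore_nml.norm hA q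
  refine d1.trans (le_pcore d2 (piGrp_of_relIndex (A := D ⊓ C(O[{p}](H))) inf_le_left
    (pcore_pi.of_le ((inf_le_inf_right _ d2.le).trans h)) ?_))
  rwa [relIndex_inf_left]

/-- the subgroup generated by the centres of the Sylow `p`-subgroups -/
def zSyl (p : ℕ) (H : Subgroup G) : Subgroup G := sSup {A | ∃ S, Hall {p} S H ∧ A = Z(S)}

theorem cj_zSyl : cj g (zSyl p H) = zSyl p (cj g H) := by
  refine cj_functor (fun g H => ?_) g H
  rw [zSyl, cj_sSup]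
  refine sSup_le_sSup ?_
  rintro _ ⟨_, ⟨S, hS, rfl⟩, rfl⟩
  exact ⟨_, hS.cj g, cj_Z⟩

theorem norm_zSyl : H ≤ N(zSyl p H) := norm_functor (fun _ _ => cj_zSyl) le_N

theorem ChP.zSyl_le (h : ChP p H) : zSyl p H ≤ Z(O[{p}](H)) := by
  refine sSup_le ?_
  rintro _ ⟨S, hS, rfl⟩
  have : Z(S) ≤ C(O[{p}](H)) := inf_le_right.trans (C_anti hS.pcore_le)
  exact le_inf ((le_inf (inf_le_left.trans hS.le) this).trans h) this

theorem ChP.zSyl_ne_bot (hp : p.Prime) (h : ChP p H) (h1 : H ≠ ⊥) : zSyl p H ≠ ⊥ := fun e => by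
  obtain ⟨S, hS⟩ := exists_sylow hp H
  refine hS.pi.nil.Z_ne_bot (fun e => h.pcore_ne_bot Nml.rfl h1 (eq_bot_iff.2 (e ▸ hS.pcore_le))) ?_
  exact eq_bot_iff.2 (e ▸ le_sSup ⟨S, hS, rfl⟩)

theorem cent_zSyl (hD : D ⊴ H) (hi : PiNat {p} (C(zSyl p H).relIndex D)) : D ≤ C(zSyl p H) := by
  refine cent_sSup ?_
  rintro _ ⟨S, hS, rfl⟩
  rw [← (hS.inf_nml hD).sup_of_idx (K := D ⊓ C(zSyl p H)) inf_le_left (by rwa [relIndex_inf_left])]
  exact sup_le (inf_le_left.trans Z_cent) (inf_le_right.trans (C_anti (le_sSup ⟨S, hS, rfl⟩)))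

/-- primitive pair of characteristic `p` -/
structure PP (p : ℕ) (X Y : Subgroup G) : Prop where
  ne : X ≠ Y
  left : ∀ A, A ≠ ⊥ → A ≤ Y → A ⊴ X → Y ⊓ N(A) ≤ X
  right : ∀ A, A ≠ ⊥ → A ≤ X → A ⊴ Y → X ⊓ N(A) ≤ Y
  chl : ChP p X
  chr : ChP p Y
  lel : O[{p}](X) ≤ Y
  ler : O[{p}](Y) ≤ X

theorem PP.symm (h : PP p X Y) : PP p Y X := ⟨h.ne.symm, h.right, h.left, h.chr, h.chl, h.ler, h.lel⟩

theorem PP.eq_bot (h : PP p X Y) (h1 : A ⊴ X) (h2 : A ⊴ Y) : A = ⊥ := by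
  by_contra e
  exact h.ne (((le_inf le_rfl h1.norm).trans (h.right A e h1.le h2)).antisymm
    ((le_inf le_rfl h2.norm).trans (h.left A e h2.le h1)))

theorem PP.ne_bot (h : PP p X Y) : X ≠ ⊥ := by
  rintro rfl
  exact h.chr.pcore_ne_bot Nml.rfl h.ne.symm (eq_bot_iff.2 h.ler)

theorem PP.cj (h : PP p X Y) (g : G) : PP p (cj g X) (cj g Y) := by
  have key : ∀ X Y : Subgroup G, (∀ A, A ≠ ⊥ → A ≤ Y → A ⊴ X → Y ⊓ N(A) ≤ X) →
      ∀ A, A ≠ ⊥ → A ≤ H18.cj g Y → A ⊴ H18.cj g X → H18.cj g Y ⊓ N(A) ≤ H18.cj g X := by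
    intro X Y h A h1 h2 h3
    have := h (H18.cj g⁻¹ A) (by simpa using h1) (le_cj_iff.1 h2) (by simpa using h3.cj g⁻¹)
    rw [← cj_le_cj (g := g), cj_inf, cj_N, cj_cj_inv] at this
    exact this
  exact ⟨by simpa using h.ne, key _ _ h.left, key _ _ h.right, h.chl.cj g, h.chr.cj g,
    by rw [← cj_pcore, cj_le_cj]; exact h.lel, by rw [← cj_pcore, cj_le_cj]; exact h.ler⟩

theorem pp_iff (hp : p.Prime) : PP p X Y ↔ X ≠ Y ∧ (∀ A : Subgroup G, A ≠ ⊥ → A ≤ X ⊓ Y →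
    (X ≤ N(A) → Y ⊓ N(A) = X ⊓ Y) ∧ (Y ≤ N(A) → X ⊓ N(A) = X ⊓ Y)) ∧
    centralizer (pCore p X : Set X) ≤ pCore p X ∧ centralizer (pCore p Y : Set Y) ≤ pCore p Y ∧
    (pCore p X).map X.subtype ⊔ (pCore p Y).map Y.subtype ≤ X ⊓ Y := by
  rw [← chP_iff hp, ← chP_iff hp, pCore_map hp, pCore_map hp]
  constructor
  · intro h
    refine ⟨h.ne, fun A h1 h2 => ⟨fun h3 => ?_, fun h3 => ?_⟩, h.chl, h.chr,
      sup_le (le_inf pcore_le h.lel) (le_inf h.ler pcore_le)⟩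
    · exact (le_inf (h.left A h1 (h2.trans inf_le_right) ⟨h2.trans inf_le_left, h3⟩) inf_le_left).antisymm
        (le_inf inf_le_right (inf_le_left.trans h3))
    · exact (le_inf inf_le_left (h.right A h1 (h2.trans inf_le_left) ⟨h2.trans inf_le_right, h3⟩)).antisymm
        (le_inf inf_le_left (inf_le_right.trans h3))
  · rintro ⟨h1, h2, h3, h4, h5⟩
    exact ⟨h1, fun A a b c => ((h2 A a (le_inf c.le b)).1 c.norm).le.trans inf_le_left,
      fun A a b c => ((h2 A a (le_inf b c.le)).2 c.norm).le.trans inf_le_right, h3, h4,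
      (le_sup_left.trans h5).trans inf_le_right, (le_sup_right.trans h5).trans inf_le_left⟩

/-- paths of length `n` for a relation -/
inductive Walk {α : Type*} (r : α → α → Prop) : ℕ → α → α → Prop
  | nil (a : α) : Walk r 0 a a
  | cons {n : ℕ} {a b c : α} : r a b → Walk r n b c → Walk r (n + 1) a c

theorem Walk.snoc {α : Type*} {r : α → α → Prop} {a b c : α} (h : Walk r n a b) (e : r b c) :
    Walk r (n + 1) a c := by
  induction h with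
  | nil => exact .cons e (.nil _)
  | cons e' _ ih => exact .cons e' (ih e)

theorem Walk.symm {α : Type*} {r : α → α → Prop} (hr : ∀ a b, r a b → r b a) {a b : α} (h : Walk r n a b) :
    Walk r n b a := by
  induction h with
  | nil => exact .nil _
  | cons e _ ih => exact ih.snoc (hr _ _ e)

theorem Walk.map {α : Type*} {r : α → α → Prop} (f : α → α) (hf : ∀ a b, r a b → r (f a) (f b)) {a b : α}
    (h : Walk r n a b) : Walk r n (f a) (f b) := by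
  induction h with
  | nil => exact .nil _
  | cons e _ ih => exact .cons (hf _ _ e) ih

theorem Walk.tail {α : Type*} {r : α → α → Prop} {a c : α} (h : Walk r (n + 1) a c) :
    ∃ b, r a b ∧ Walk r n b c := by
  cases h with
  | cons e h => exact ⟨_, e, h⟩

theorem Walk.eq {α : Type*} {r : α → α → Prop} {a c : α} (h : Walk r 0 a c) : a = c := by
  cases h; rfl

/-- a primitive pair of odd characteristic `p` involves `SL₂(p)` -/
theorem PP.sec [hp : Fact p.Prime] (h2 : p ≠ 2) {M₁ M₂ : Subgroup G} (h : PP p M₁ M₂) :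
    H4.Sec SL(2, ZMod p) M₁ ∨ H4.Sec SL(2, ZMod p) M₂ := by
  classical
  by_contra! hs
  let r : Subgroup G → Subgroup G → Prop := fun X Y =>
    PP p X Y ∧ ¬ H4.Sec SL(2, ZMod p) X ∧ ¬ H4.Sec SL(2, ZMod p) Y
  have rs : ∀ X Y, r X Y → r Y X := fun X Y e => ⟨e.1.symm, e.2.2, e.2.1⟩
  have rc : ∀ g X Y, r X Y → r (H18.cj g X) (H18.cj g Y) := fun g X Y e =>
    ⟨e.1.cj g, fun s => e.2.1 ((H4.sec_map_iff (MulAut.conj g).injective).1 s),
      fun s => e.2.2 ((H4.sec_map_iff (MulAut.conj g).injective).1 s)⟩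
  have r0 : r M₁ M₂ := ⟨h, hs⟩
  have ex : ∃ n, ∃ X Y, ChP p X ∧ Walk r n X Y ∧ ¬ zSyl p X ≤ O[{p}](Y) := by
    by_contra! e
    let T := sSup {A | ∃ n X, ChP p X ∧ Walk r n X M₁ ∧ A = zSyl p X}
    have t1 : T ≤ O[{p}](M₁) := sSup_le (by rintro _ ⟨n, X, a, b, rfl⟩; exact e n X _ a b)
    have t2 : T ≤ O[{p}](M₂) := sSup_le (by rintro _ ⟨n, X, a, b, rfl⟩; exact e _ X _ a (b.snoc r0))
    have t3 : ∀ g, (∃ m, Walk r m (H18.cj g M₁) M₁) → g ∈ N(T) := by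
      rintro g ⟨m, hm⟩
      refine mem_N_of_cj_le ?_
      rw [cj_sSup]
      refine sSup_le_sSup ?_
      rintro _ ⟨_, ⟨n, X, a, b, rfl⟩, rfl⟩
      have key : ∀ {m} {U V : Subgroup G}, Walk r m U V → ∀ {n W}, Walk r n W U → ∃ k, Walk r k W V := by
        intro m U V w
        induction w with
        | nil => exact fun w => ⟨_, w⟩
        | cons e _ ih => exact fun w => ih (w.snoc e)
      obtain ⟨k, hk⟩ := key hm (b.map _ (rc g))
      exact ⟨k, _, a.cj g, hk, cj_zSyl⟩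
    have := h.eq_bot (A := T) ⟨t1.trans pcore_le, fun g hg => t3 g ⟨0, by
      rw [cj_eq_self_of_mem hg]; exact .nil _⟩⟩ ⟨t2.trans pcore_le, fun g hg => t3 g ⟨2, by
        have := rc g _ _ r0
        rw [cj_eq_self_of_mem hg] at this
        exact .cons this (.cons (rs _ _ r0) (.nil _))⟩⟩
    exact h.chl.zSyl_ne_bot hp.out h.ne_bot (eq_bot_iff.2 (this ▸ le_sSup ⟨0, M₁, h.chl, .nil _, rfl⟩))
  have zle : ∀ X : Subgroup G, ChP p X → zSyl p X ≤ O[{p}](X) := fun X c => c.zSyl_le.trans inf_le_left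
  have zab : ∀ X : Subgroup G, ChP p X → Abel (zSyl p X) := fun X c => abel_Z.mono c.zSyl_le
  have b1 : ∀ X Y, r X Y → zSyl p X ≤ O[{p}](Y) := fun X Y e =>
    e.1.chr.quad_le h2 e.2.2 ((zle X e.1.chl).trans e.1.lel) (comm_eq_bot_iff.2
      ((comm_le_right (e.1.ler.trans norm_zSyl)).trans (zab X e.1.chl)))
  let W : Subgroup G → Subgroup G := fun X => sSup {A | ∃ Y, r Y X ∧ A = zSyl p Y}
  have w1 : ∀ X, W X ≤ O[{p}](X) := fun X => sSup_le (by rintro _ ⟨Y, e, rfl⟩; exact b1 Y X e)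
  have w2 : ∀ X, X ≤ N(W X) := fun X g hg => mem_N_of_cj_le (by
    rw [cj_sSup]
    refine sSup_le_sSup ?_
    rintro _ ⟨_, ⟨Y, e, rfl⟩, rfl⟩
    have := rc g _ _ e
    rw [cj_eq_self_of_mem hg] at this
    exact ⟨_, this, cj_zSyl⟩)
  have w3 : ∀ X, Abel (W X) := fun X => cent_sSup (by
    rintro _ ⟨Y, e, rfl⟩
    refine sSup_le ?_
    rintro _ ⟨Y', e', rfl⟩
    obtain ⟨D, d1, d2, d3⟩ := quad_stab h2 e.2.1 (pcore_pi.of_le (zle Y e.1.chl)) norm_zSyl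
      ((b1 _ _ e').trans e.1.ler) (comm_eq_bot_iff.2
        ((comm_le_right (((b1 _ _ e).trans e'.1.ler).trans norm_zSyl)).trans (zab Y' e'.1.chl)))
    exact d1.trans (cent_zSyl d2 d3))
  obtain ⟨X₀, Y₀, c0, w, hn⟩ := Nat.find_spec ex
  have hmin : ∀ m < Nat.find ex, ∀ X Y, ChP p X → Walk r m X Y → zSyl p X ≤ O[{p}](Y) := by
    intro m hm X Y c w
    by_contra e
    exact Nat.find_min ex hm ⟨X, Y, c, w, e⟩
  generalize Nat.find ex = b at w hmin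
  obtain _ | _ | b := b
  · exact hn (w.eq ▸ zle _ c0)
  · obtain ⟨Y, e, w⟩ := w.tail
    exact hn (w.eq ▸ b1 _ _ e)
  obtain ⟨X₁, e1, w⟩ := w.tail
  obtain ⟨X₂, e2, w'⟩ := w.tail
  obtain ⟨Y₁, e3, w''⟩ := (w.symm rs).tail
  have a1 : W X₁ ≤ O[{p}](Y₁) := sSup_le (by
    rintro _ ⟨Y, e, rfl⟩; exact hmin (b + 1) (by omega) _ _ e.1.chl (.cons e (w''.symm rs)))
  have a2 : W Y₀ ≤ O[{p}](X₂) := sSup_le (by
    rintro _ ⟨Y, e, rfl⟩; exact hmin (b + 1) (by omega) _ _ e.1.chl (.cons e (w'.symm rs)))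
  obtain ⟨D, d1, d2, d3⟩ := quad_stab h2 e3.2.1 (pcore_pi.of_le (w1 Y₀)) (w2 Y₀) (a1.trans e3.1.ler)
    (comm_eq_bot_iff.2 ((comm_le_right ((a2.trans e2.1.ler).trans (w2 X₁))).trans (w3 X₁)))
  have a0 : zSyl p Y₁ ≤ W Y₀ := le_sSup ⟨Y₁, rs _ _ e3, rfl⟩
  have a3 : D ⊓ C(W Y₀) ≤ Y₁ :=
    (inf_le_inf d2.le ((C_anti a0).trans C_le_N)).trans
      (e3.1.right _ (e3.1.chr.zSyl_ne_bot hp.out e3.1.symm.ne_bot) ((zle _ e3.1.chr).trans e3.1.ler)
        ⟨(zle _ e3.1.chr).trans pcore_le, norm_zSyl⟩)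
  have a4 := le_pcore_of_norm_idx hp.out (R := O[{p}](Y₁) ⊓ D) pcore_pi.inf_left inf_le_right
    (d2.le.trans (norm_C (w2 Y₀))) d3 (norm_inf (a3.trans pcore_nml.norm) (le_norm inf_le_left))
  have a5 : zSyl p X₀ ≤ W X₁ := le_sSup ⟨X₀, e1, rfl⟩
  exact hn ((le_inf (a5.trans a1) (a5.trans d1)).trans (a4.trans d2.pcore_le_pcore))

end H21
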