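import Cfsg.Agent.H29.Q0

/-! Overgroups of `Ω₃(K)`: the stabiliser of a vector of a member acts on it by field automorphisms (`model`, `pB`). -/

set_option autoImplicit false
set_option linter.unusedSectionVars false

namespace H21.Q3B

open Module H11 H11.PForm H29 H29.Q3

variable {F K V : Type*} [Field F] [Field K] [Algebra F K] [AddCommGroup V] [Module F V]
  [Module K V] [IsScalarTower F K V] [FiniteDimensional F V] {S : PForm (orthP F) V}
  [Finite F] [Finite K] {φ : Dual F K} {U : PForm (orthP K) V} {H : Subgroup S.Isom}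

theorem model (hA : SL U H) {Y : Submodule F V} {y : V} (hY : KM U H Y) (hy : y ∈ Y) (y0 : y ≠ 0) :
    ∃ e : K →ₗ[F] V, Function.Injective e ∧ (∀ z ∈ Y, ∃ a, e a = z) ∧ (∀ a, e a ∈ Y) ∧ e 1 = y ∧
      ∀ g ∈ H, (∀ z ∈ Y, g.1 z ∈ Y) → g.1 y = y → ∃ τ : K ≃ₐ[F] K, ∀ a, g.1 (e a) = e (τ a) := by
  obtain ⟨k, hk, v, -, hv, rfl⟩ := hY
  obtain ⟨x, hx, rfl⟩ := hy
  obtain ⟨b, rfl⟩ := mem_KL.1 hx
  have b0 : b • v ≠ 0 := fun e => y0 (by simp [e])
  let e : K →ₗ[F] V := (k.1 : V →ₗ[F] V) ∘ₗ (LinearMap.toSpanSingleton K V (b • v)).restrictScalars F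
  have he : ∀ a, e a = k.1 (a • b • v) := fun _ => rfl
  have inj : Function.Injective e := fun a a' h => smul_left_injective K b0 (k.1.injective h)
  have sur : ∀ z ∈ (KL F K v).map (k.1 : V →ₗ[F] V), ∃ a, e a = z := by
    rintro _ ⟨x, hx, rfl⟩
    obtain ⟨a, rfl⟩ := mem_KL.1 hx
    exact ⟨a / b, by rw [he, smul_smul, div_mul_cancel₀ _ (left_ne_zero_of_smul b0)]; rfl⟩
  have mem : ∀ a, e a ∈ (KL F K v).map (k.1 : V →ₗ[F] V) := fun a =>
    ⟨_, smul_mem_KL (a * b) v, by rw [he, smul_smul]; rfl⟩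
  have e1 : e 1 = k.1 (b • v) := by rw [he, one_smul]
  refine ⟨e, inj, sur, mem, e1, fun g hg h1 h2 => ?_⟩
  choose γ hγ using fun a => sur _ (h1 _ (mem a))
  have γ1 : γ 1 = 1 := inj (by rw [hγ, e1]; exact h2)
  have γm : ∀ a a', γ (a * a') = γ a * γ a' := fun a a' => by
    obtain ⟨κ, hκ⟩ := hA (b • v) (k⁻¹ * g * k) γ (hv.smul b) b0 (H.mul_mem (H.mul_mem (H.inv_mem hk) hg) hk)
      (fun a => k.1.injective (by rw [isom_mul_apply, isom_mul_apply, isom_apply_inv_self, ← he, ← he, hγ])) a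
    have := hκ 1
    rw [mul_one, γ1, mul_one] at this
    rw [hκ, this]
  let f : K →ₗ[F] K := ⟨⟨γ, fun a a' => inj (by rw [map_add, hγ, hγ, hγ, map_add, map_add])⟩,
    fun c a => inj (by simp only [RingHom.id_apply, map_smul, hγ])⟩
  exact ⟨AlgEquiv.ofBijective (AlgHom.ofLinearMap f γ1 γm) (AlgHom.bijective _), fun a => (hγ a).symm⟩

theorem pB (h : O3 φ U H) (hA : SL U H) : S1 U H ∧ S2 U H ∧ S3 U H := by
  have cd : Nat.card (K ≃ₐ[F] K) = finrank F K := IsGalois.card_aut_eq_finrank F K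
  refine ⟨fun Y g y y' hY hg h1 hy hy' y0 n h2 h3 z hz => ?_, fun Y g y a b c hY hg h1 hy y0 h2 h3 z hz => ?_,
    fun Y y hY hy y0 => ?_⟩
  · obtain ⟨e, inj, sur, -, e1, k⟩ := model hA hY hy y0
    obtain ⟨τ, hτ⟩ := k g hg h1 h2
    obtain ⟨a, rfl⟩ := sur _ hy'
    obtain ⟨b, rfl⟩ := sur _ hz
    haveI := Subalgebra.isSimpleOrder_of_finrank_prime F K h.pr
    rcases eq_bot_or_eq_top (AlgHom.equalizer (τ : K →ₐ[F] K) (AlgHom.id F K)) with l | l
    · have : a ∈ AlgHom.equalizer (τ : K →ₐ[F] K) (AlgHom.id F K) := inj ((hτ a).symm.trans h3)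
      rw [l, Algebra.mem_bot] at this
      obtain ⟨c, rfl⟩ := this
      exact absurd (Submodule.mem_span_singleton.2 ⟨c, by rw [Algebra.algebraMap_eq_smul_one, map_smul, e1]⟩) n
    · have : b ∈ AlgHom.equalizer (τ : K →ₐ[F] K) (AlgHom.id F K) := l ▸ Algebra.mem_top
      rw [hτ]; exact congrArg e this
  · obtain ⟨e, inj, sur, mem, e1, k⟩ := model hA hY hy y0
    obtain ⟨τ, hτ⟩ := k g hg h1 h2
    obtain ⟨b', rfl⟩ := sur _ hz
    by_cases t1 : τ = 1
    · rw [hτ, t1]; rfl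
    exfalso
    have o : orderOf τ = finrank F K := ((Nat.dvd_prime h.pr).1 (cd ▸ orderOf_dvd_natCard τ)).resolve_left
      fun l => t1 (orderOf_eq_one_iff.1 l)
    have five := h.five
    have li := (linearIndependent_monoidHom K K).comp (fun i : Fin 4 => ((τ ^ i.1 : K ≃ₐ[F] K) : K →* K))
      fun i j l => Fin.ext (pow_injOn_Iio_orderOf (x := τ) (show i.1 < _ by omega) (show j.1 < _ by omega)
        (AlgEquiv.ext fun x => DFunLike.congr_fun l x))
    have := Fintype.linearIndependent_iff.1 li ![algebraMap F K c, algebraMap F K b, algebraMap F K a, -1]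
      (funext fun x => by
        have := h3 _ (mem x)
        simp only [hτ, ← map_smul, ← map_add] at this
        have := inj this
        simp only [Algebra.smul_def] at this
        simp [Fin.sum_univ_four, pow_succ, this]
        ring) 3
    simp at this
  · obtain ⟨e, inj, sur, -, e1, k⟩ := model hA hY hy y0
    choose s hs using sur
    rw [← cd, ← Set.ncard_univ]
    refine le_trans (Set.ncard_le_ncard ?_ (Set.toFinite _))
      (Set.ncard_image_le (f := fun (τ : K ≃ₐ[F] K) (z : Y) => e (τ (s z z.2))) (Set.toFinite _))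
    rintro _ ⟨g, hg, h1, h2, rfl⟩
    obtain ⟨τ, hτ⟩ := k g hg h1 h2
    exact ⟨τ, trivial, funext fun z => (hτ _).symm.trans (by rw [hs])⟩

end H21.Q3B
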