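import Cfsg.Agent.H29.Q0

/-! Overgroups of `Ω₃(K)`: the counting step for small intersections (`pE2`). -/

set_option autoImplicit false
set_option linter.unusedSectionVars false

namespace H21.Q3E

open Module H11 H11.PForm H29 H29.Q3

variable {F K V : Type*} [Field F] [Field K] [Algebra F K] [AddCommGroup V] [Module F V]
  [Module K V] [IsScalarTower F K V] [FiniteDimensional F V] {S : PForm (orthP F) V}
  [Finite F] [Finite K] {φ : Dual F K} {U : PForm (orthP K) V} {H : Subgroup S.Isom}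

theorem arith {q r e m n : ℕ} (hq : 2 ≤ q) (he : 2 ≤ e) (hr : 2 * e < r) (hm : m + e = r * 3)
    (h1 : (q ^ r) ^ 2 ≤ q * n) (h2 : n * (q ^ r - q ^ e) ≤ q ^ m) : False := by
  have q0 : 0 < q := by omega
  have a1 : q ^ e ≤ q ^ r := Nat.pow_le_pow_right q0 (by omega)
  obtain ⟨c, hc⟩ := Nat.exists_eq_add_of_le a1
  rw [hc, Nat.add_sub_cancel_left] at h2
  have a2 : (q ^ r) ^ 2 * (q ^ e * c) ≤ (q ^ r) ^ 2 * (q * q ^ r) := by
    calc _ ≤ q * n * (q ^ e * c) := Nat.mul_le_mul_right _ h1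
      _ = q * q ^ e * (n * c) := by ring
      _ ≤ q * q ^ e * q ^ m := Nat.mul_le_mul_left _ h2
      _ = q * q ^ (m + e) := by ring
      _ = _ := by rw [hm]; ring
  have a3 := Nat.le_of_mul_le_mul_left a2 (by positivity)
  have a4 : q ^ e * q ^ e < q ^ r := by rw [← pow_add]; exact Nat.pow_lt_pow_right hq (by omega)
  have a5 : q * q ≤ q ^ e := by rw [← sq]; exact Nat.pow_le_pow_right q0 he
  have a6 : q ^ e * q ^ r = q ^ e * q ^ e + q ^ e * c := by rw [← mul_add, ← hc]
  have a7 : (q + 1) * q ^ r ≤ q ^ e * q ^ r := Nat.mul_le_mul_right _ (by nlinarith)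
  nlinarith

theorem pE2 (h : O3 φ U H) (s1 : S1 U H) (inj : INJ U H) : E2 U H := by
  intro d u Y hM hu u0 hY uY hd d1 hr
  by_contra ne
  haveI := h.toOX.fd
  haveI : FiniteDimensional F K := finite_of_finrank_pos h.pr.pos
  haveI : Finite V := Module.finite_of_finite F
  obtain ⟨I, G, c1, c2, c3⟩ := inj d u Y hM hu u0 hY uY ne hd hr
  set D := KL F K u ⊓ Y with hD
  have a4 : finrank F D = d + 1 :=
    le_antisymm (not_lt.1 fun k => ne (hM _ _ (om_kl hu u0) hY k).symm) hd
  have uD : u ∈ D := ⟨⟨1, one_smul _ _⟩, uY⟩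
  obtain ⟨y, yD, yu⟩ : ∃ y ∈ D, y ∉ F ∙ u := by
    by_contra! a
    have := Submodule.finrank_mono a
    rw [finrank_span_singleton u0] at this
    omega
  let f : I × ↥((Y : Set V) \ D) → S.perp D := fun p => ⟨(G p.1).1 p.2, S.mem_perp.2 fun z hz => by
    rw [← (c2 _ p.1.2).2 z hz, isom_h]
    exact h.toOX.ts hY hz.2 p.2.2.1⟩
  have fi : Function.Injective f := by
    rintro ⟨i, x⟩ ⟨j, x'⟩ e
    replace e : (G i).1 x = (G j).1 x' := congrArg Subtype.val e
    have gH := H.mul_mem (H.inv_mem (c2 _ j.2).1) (c2 _ i.2).1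
    have gD : ∀ z ∈ D, ((G j)⁻¹ * G i).1 z = z := fun z hz => (G j).1.injective (by
      rw [isom_mul_apply, isom_apply_inv_self, (c2 _ i.2).2 z hz, (c2 _ j.2).2 z hz])
    have n := hM.nml hY inf_le_right a4.ge gH gD x.2.1 (by simpa [e] using x'.2.1) x.2.2
    have k := s1 Y _ u y hY gH n uY yD.2 u0 yu (gD _ uD) (gD _ yD)
    have ij : i = j := Subtype.ext (c3 _ i.2 _ j.2 fun z hz => by
      conv_rhs => rw [← k z hz, isom_mul_apply, isom_apply_inv_self])
    subst ij
    exact Prod.ext rfl (Subtype.ext ((G i).1.injective e))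
  have k := Nat.card_le_card_of_injective f fi
  have cY : (Y : Set V).ncard = Nat.card F ^ finrank F K := by
    rw [← hY.finrank, ← Module.natCard_eq_pow_finrank]; rfl
  have cD : (D : Set V).ncard = Nat.card F ^ (d + 1) := by
    rw [← a4, ← Module.natCard_eq_pow_finrank]; rfl
  rw [Nat.card_prod, Nat.card_coe_set_eq, Nat.card_coe_set_eq, Set.ncard_sdiff (show (D : Set V) ⊆ Y from inf_le_right),
    cY, cD, Module.natCard_eq_pow_finrank (K := F) (V := S.perp D)] at k
  rw [Module.natCard_eq_pow_finrank (K := F) (V := K)] at c1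
  have a1 := h.nd.finrank_perp D
  have a2 := Module.finrank_mul_finrank F K V
  rw [h.dim3] at a2
  exact arith Finite.one_lt_card (by omega) hr (show finrank F (S.perp D) + (d + 1) = _ by omega) c1 k

end H21.Q3E
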