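import Cfsg.Agent.H29.Q0

/-! Overgroups of `Ω₃(K)`: the torus of rotations about a nonsingular vector (`pF1`; the conic group `Cn`). -/

set_option autoImplicit false
set_option linter.unusedSectionVars false

namespace H21.Q3F

open Module H11 H11.PForm H29 H29.Q3

variable {F K V : Type*} [Field F] [Field K] [Algebra F K] [AddCommGroup V] [Module F V]
  [Module K V] [IsScalarTower F K V] [FiniteDimensional F V] {S : PForm (orthP F) V}
  [Finite F] [Finite K] {φ : Dual F K} {U : PForm (orthP K) V} {H : Subgroup S.Isom}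

/-- the conic `x² - δ z² = 1` -/
def Cn (δ : K) : Type _ := {p : K × K // p.1 ^ 2 - δ * p.2 ^ 2 = 1}

instance (δ : K) : CommGroup (Cn δ) where
  mul a b := ⟨(a.1.1 * b.1.1 + δ * a.1.2 * b.1.2, a.1.1 * b.1.2 + a.1.2 * b.1.1), by
    linear_combination (b.1.1 ^ 2 - δ * b.1.2 ^ 2) * a.2 + b.2⟩
  one := ⟨(1, 0), by simp⟩
  inv a := ⟨(a.1.1, -a.1.2), by simpa using a.2⟩
  mul_assoc a b c := Subtype.ext (Prod.ext (by
    change (a.1.1 * b.1.1 + δ * a.1.2 * b.1.2) * c.1.1 + δ * (a.1.1 * b.1.2 + a.1.2 * b.1.1) * c.1.2 =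
      a.1.1 * (b.1.1 * c.1.1 + δ * b.1.2 * c.1.2) + δ * a.1.2 * (b.1.1 * c.1.2 + b.1.2 * c.1.1); ring) (by
    change (a.1.1 * b.1.1 + δ * a.1.2 * b.1.2) * c.1.2 + (a.1.1 * b.1.2 + a.1.2 * b.1.1) * c.1.1 =
      a.1.1 * (b.1.1 * c.1.2 + b.1.2 * c.1.1) + a.1.2 * (b.1.1 * c.1.1 + δ * b.1.2 * c.1.2); ring))
  one_mul a := Subtype.ext (Prod.ext (by change 1 * a.1.1 + δ * 0 * a.1.2 = _; ring)
    (by change 1 * a.1.2 + 0 * a.1.1 = _; ring))
  mul_one a := Subtype.ext (Prod.ext (by change a.1.1 * 1 + δ * a.1.2 * 0 = _; ring)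
    (by change a.1.1 * 0 + a.1.2 * 1 = _; ring))
  inv_mul_cancel a := Subtype.ext (Prod.ext (by
    change a.1.1 * a.1.1 + δ * -a.1.2 * a.1.2 = 1; linear_combination a.2)
    (by change a.1.1 * a.1.2 + -a.1.2 * a.1.1 = 0; ring))
  mul_comm a b := Subtype.ext (Prod.ext (by
    change a.1.1 * b.1.1 + δ * a.1.2 * b.1.2 = b.1.1 * a.1.1 + δ * b.1.2 * a.1.2; ring)
    (by change a.1.1 * b.1.2 + a.1.2 * b.1.1 = b.1.1 * a.1.2 + b.1.2 * a.1.1; ring))

theorem mul1 {δ : K} (a b : Cn δ) : (a * b).1.1 = a.1.1 * b.1.1 + δ * a.1.2 * b.1.2 := rfl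
theorem mul2 {δ : K} (a b : Cn δ) : (a * b).1.2 = a.1.1 * b.1.2 + a.1.2 * b.1.1 := rfl
theorem one1 {δ : K} : (1 : Cn δ).1 = (1, 0) := rfl

theorem card_Cn {δ : K} (h2 : (2 : K) ≠ 0) (hδ : δ ≠ 0) :
    Nat.card (Cn δ) = Nat.card K + 1 ∨ Nat.card (Cn δ) + 1 = Nat.card K := by
  classical
  let f : Option {s : K // δ * s ^ 2 ≠ 1} → Cn δ := fun o => o.elim ⟨(-1, 0), by simp⟩ fun s =>
    ⟨((1 + δ * s.1 ^ 2) / (1 - δ * s.1 ^ 2), 2 * s.1 / (1 - δ * s.1 ^ 2)), by
      have := sub_ne_zero.2 s.2.symm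
      field_simp; ring⟩
  have ne : ∀ s : {s : K // δ * s ^ 2 ≠ 1}, (1 + δ * s.1 ^ 2) / (1 - δ * s.1 ^ 2) ≠ -1 := fun s k => by
    have := sub_ne_zero.2 s.2.symm
    field_simp at k
    exact h2 (by linear_combination k)
  have bij : Function.Bijective f := ⟨by
    rintro (_ | s) (_ | t) e
    · rfl
    · exact absurd (congrArg (fun p => p.1.1) e).symm (ne t)
    · exact absurd (congrArg (fun p => p.1.1) e) (ne s)
    · have e1 : (1 + δ * s.1 ^ 2) / (1 - δ * s.1 ^ 2) = (1 + δ * t.1 ^ 2) / (1 - δ * t.1 ^ 2) :=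
        congrArg (fun p => p.1.1) e
      have e2 : 2 * s.1 / (1 - δ * s.1 ^ 2) = 2 * t.1 / (1 - δ * t.1 ^ 2) := congrArg (fun p => p.1.2) e
      have hs := sub_ne_zero.2 s.2.symm
      have ht := sub_ne_zero.2 t.2.symm
      rw [div_eq_div_iff hs ht] at e1
      have e3 : 1 - δ * s.1 ^ 2 = 1 - δ * t.1 ^ 2 := mul_left_cancel₀ h2 (by linear_combination -e1)
      rw [e3, div_left_inj' ht] at e2
      exact congrArg some (Subtype.ext (mul_left_cancel₀ h2 e2)), by
    rintro ⟨⟨x, z⟩, h⟩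
    simp only at h
    by_cases k : x = -1
    · subst k
      have : z = 0 := pow_eq_zero_iff two_ne_zero |>.1 (mul_left_cancel₀ hδ (by linear_combination -h))
      subst this
      exact ⟨none, rfl⟩
    have x1 : 1 + x ≠ 0 := fun l => k (by linear_combination l)
    have e : 1 - δ * (z / (1 + x)) ^ 2 = 2 / (1 + x) := by field_simp; linear_combination h
    refine ⟨some ⟨z / (1 + x), fun l => ?_⟩, Subtype.ext (Prod.ext ?_ ?_)⟩
    · rw [l, sub_self] at e
      exact div_ne_zero h2 x1 e.symm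
    · change (1 + δ * (z / (1 + x)) ^ 2) / (1 - δ * (z / (1 + x)) ^ 2) = x
      rw [e]; field_simp; linear_combination -h
    · change 2 * (z / (1 + x)) / (1 - δ * (z / (1 + x)) ^ 2) = z
      rw [e]; field_simp⟩
  rw [← Nat.card_eq_of_bijective f bij, Finite.card_option]
  have c := Set.ncard_add_ncard_compl {s : K | δ * s ^ 2 ≠ 1}
  rw [← Nat.card_coe_set_eq] at c
  change Nat.card {s : K // δ * s ^ 2 ≠ 1} + _ = _ at c
  by_cases k : ∃ s : K, δ * s ^ 2 = 1
  · obtain ⟨s, hs⟩ := k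
    have s0 : s ≠ -s := fun l => by
      have : s = 0 := mul_left_cancel₀ h2 (by linear_combination l)
      simp [this] at hs
    rw [show {s : K | δ * s ^ 2 ≠ 1}ᶜ = {s, -s} from Set.ext fun t => by
      simp only [Set.mem_compl_iff, Set.mem_ofPred_eq, not_not, Set.mem_insert_iff, Set.mem_singleton_iff]
      rw [← sq_eq_sq_iff_eq_or_eq_neg, ← hs, mul_right_inj' hδ], Set.ncard_pair s0] at c
    omega
  · rw [show {s : K | δ * s ^ 2 ≠ 1}ᶜ = ∅ from Set.eq_empty_of_forall_notMem fun t l => k ⟨t, not_not.1 l⟩,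
      Set.ncard_empty] at c
    omega

theorem pF1 (h : O3 φ U H) : F1 U H := by
  intro y qy
  haveI := h.toOX.fd
  have h2 := h.toOX.twoK
  have nd := h.toOX.ndK
  have yy : U.h y y ≠ 0 := by simp [U.orth_h_self, qy, h2]
  have n1 := nd.restrict_perp (nondeg_singleton yy)
  have f1 := U.le_finrank_ker_h y
  have d3 := h.dim3
  obtain ⟨a, ha, qa⟩ := orth_exists_q_ne_mem n1 (by omega)
  have aa : (U.restrict (U.perp (K ∙ y))).h ⟨a, ha⟩ ⟨a, ha⟩ ≠ 0 := by
    change U.h a a ≠ 0; simp [U.orth_h_self, qa, h2]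
  have f2 := (U.restrict (U.perp (K ∙ y))).le_finrank_ker_h ⟨a, ha⟩
  obtain ⟨⟨b, hb⟩, hb', qb⟩ := orth_exists_q_ne_mem (n1.restrict_perp (nondeg_singleton aa)) (by omega)
  replace qb : U.q b ≠ 0 := qb
  have ya : U.h y a = 0 := U.mem_perp_singleton.1 ha
  have yb : U.h y b = 0 := U.mem_perp_singleton.1 hb
  have ab : U.h a b = 0 := (U.restrict _).mem_perp_singleton.1 hb'
  have ay := U.h_swap_zero ya
  have by' := U.h_swap_zero yb
  have ba := U.h_swap_zero ab
  clear f1 f2 aa hb' n1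
  have co : ∀ c0 c1 c2 : K, U.h y (c0 • y + c1 • a + c2 • b) = c0 * (2 * U.q y) ∧
      U.h a (c0 • y + c1 • a + c2 • b) = c1 * (2 * U.q a) ∧ U.h b (c0 • y + c1 • a + c2 • b) = c2 * (2 * U.q b) :=
    fun c0 c1 c2 => by simp [U.orth_h_self, ya, yb, ab, ay, by', ba]
  have uq : ∀ {c0 c1 c2 d0 d1 d2 : K}, c0 • y + c1 • a + c2 • b = d0 • y + d1 • a + d2 • b →
      c0 = d0 ∧ c1 = d1 ∧ c2 = d2 := fun {c0 c1 c2 d0 d1 d2} e => by
    obtain ⟨k0, k1, k2⟩ := co c0 c1 c2
    obtain ⟨l0, l1, l2⟩ := co d0 d1 d2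
    rw [e] at k0 k1 k2
    exact ⟨mul_right_cancel₀ (mul_ne_zero h2 qy) (k0.symm.trans l0),
      mul_right_cancel₀ (mul_ne_zero h2 qa) (k1.symm.trans l1), mul_right_cancel₀ (mul_ne_zero h2 qb) (k2.symm.trans l2)⟩
  have dec : ∀ v, ∃ c0 c1 c2 : K, v = c0 • y + c1 • a + c2 • b := fun v => by
    have li : LinearIndependent K ![y, a, b] := Fintype.linearIndependent_iff.2 fun g hg i => by
      obtain ⟨k0, k1, k2⟩ := uq (c0 := g 0) (c1 := g 1) (c2 := g 2) (d0 := 0) (d1 := 0) (d2 := 0)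
        (by simpa [Fin.sum_univ_three] using hg)
      fin_cases i <;> assumption
    have := li.span_eq_top_of_card_eq_finrank' (by simp [d3])
    obtain ⟨c, hc⟩ := (Submodule.mem_span_range_iff_exists_fun K).1 (this.ge (Submodule.mem_top (x := v)))
    exact ⟨c 0, c 1, c 2, by simpa [Fin.sum_univ_three] using hc.symm⟩
  have hq : ∀ c0 c1 c2 : K, U.q (c0 • y + c1 • a + c2 • b) = c0 ^ 2 * U.q y + c1 ^ 2 * U.q a + c2 ^ 2 * U.q b :=
    fun c0 c1 c2 => by simp [U.orth_q_add, U.orth_q_smul, ya, yb, ab]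
  obtain ⟨R, hR⟩ : ∃ R : K → K → V →ₗ[K] V, ∀ x z c0 c1 c2 : K, R x z (c0 • y + c1 • a + c2 • b) =
      c0 • y + (x * c1 - U.q b * z * c2) • a + (x * c2 + U.q a * z * c1) • b :=
    ⟨fun x z => x • LinearMap.id + ((1 - x) / (2 * U.q y)) • (U.h y).smulRight y +
      (z / 2) • ((U.h a).smulRight b - (U.h b).smulRight a), fun x z c0 c1 c2 => by
      obtain ⟨k0, k1, k2⟩ := co c0 c1 c2
      simp only [LinearMap.add_apply, LinearMap.smul_apply, LinearMap.id_apply, LinearMap.smulRight_apply,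
        LinearMap.sub_apply, k0, k1, k2]
      match_scalars <;> field_simp <;> ring⟩
  set δ := -(U.q a * U.q b) with hδ
  have δ0 : δ ≠ 0 := neg_ne_zero.2 (mul_ne_zero qa qb)
  have Rm : ∀ (c d : Cn δ) v, R c.1.1 c.1.2 (R d.1.1 d.1.2 v) = R (c * d).1.1 (c * d).1.2 v := fun c d v => by
    obtain ⟨c0, c1, c2, rfl⟩ := dec v
    rw [hR, hR, hR, mul1, mul2]
    match_scalars <;> ring
  have R1 : ∀ v, R (1 : Cn δ).1.1 (1 : Cn δ).1.2 v = v := fun v => by
    obtain ⟨c0, c1, c2, rfl⟩ := dec v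
    rw [hR]; simp [one1]
  have Rq : ∀ (c : Cn δ) v, U.q (R c.1.1 c.1.2 v) = U.q v := fun c v => by
    obtain ⟨c0, c1, c2, rfl⟩ := dec v
    have := c.2
    rw [hR, hq, hq]
    linear_combination (c1 ^ 2 * U.q a + c2 ^ 2 * U.q b) * this
  let e : Cn δ → V ≃ₗ[K] V := fun c => LinearEquiv.ofLinearMap (R c.1.1 c.1.2) (R c⁻¹.1.1 c⁻¹.1.2)
    (LinearMap.ext fun v => (Rm c c⁻¹ v).trans (by rw [mul_inv_cancel, R1]; rfl))
    (LinearMap.ext fun v => (Rm c⁻¹ c v).trans (by rw [inv_mul_cancel, R1]; rfl))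
  have sq' : ∀ x, S.q x = φ (U.q x) := fun x => mul_left_cancel₀ h.two (by
    rw [← S.orth_h_self, ← h.hU, ← smul_eq_mul, ← map_smul, Algebra.smul_def, map_ofNat, ← U.orth_h_self])
  let ρ : Cn δ →* S.Isom :=
    { toFun := fun c => ⟨(e c).restrictScalars F, orth_isIsom (f := ((e c).restrictScalars F).toLinearMap)
        fun x => by rw [sq', sq']; exact congrArg φ (Rq c x)⟩
      map_one' := isom_ext R1
      map_mul' := fun c d => isom_ext fun v => (Rm c d v).symm }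
  have hρ : ∀ c v, (ρ c).1 v = R c.1.1 c.1.2 v := fun _ _ => rfl
  have ρ1 : ∀ c, ρ c = 1 → c = 1 := fun c k => by
    have := hρ c ((0 : K) • y + (1 : K) • a + (0 : K) • b)
    rw [k, hR] at this
    obtain ⟨-, k1, k2⟩ := uq this
    exact Subtype.ext (Prod.ext (by simpa [one1] using k1.symm) (by simpa [qa, one1] using k2.symm))
  have z0 : ∀ c : Cn δ, c.1.1 ^ 2 = 1 → c.1.2 = 0 := fun c k =>
    pow_eq_zero_iff two_ne_zero |>.1 (mul_left_cancel₀ δ0 (by linear_combination k - c.2))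
  obtain ⟨u, w, Hy⟩ := nd.orth_exists_hyp h.three
  refine ⟨(ρ.comp (powMonoidHom 2)).range, ?_, ?_, ?_⟩
  · rintro _ ⟨c, rfl⟩
    let g : U.Isom := ⟨e c, orth_isIsom (f := (e c).toLinearMap) (Rq c)⟩
    obtain ⟨g', hg, k⟩ := h.hH (g * g) ((nd.mem_E_iff h.three Hy _).2 (by simp))
    rwa [show (ρ.comp (powMonoidHom 2)) c = g' from isom_ext fun v => by
      rw [k, MonoidHom.comp_apply, powMonoidHom_apply, sq, map_mul]; rfl]
  · let m : Cn δ := ⟨(-1, 0), by simp⟩
    have km : ((ρ.comp (powMonoidHom 2)).ker : Set (Cn δ)) = {1, m} := Set.ext fun c => by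
      simp only [SetLike.mem_coe, MonoidHom.mem_ker, MonoidHom.comp_apply, powMonoidHom_apply, Set.mem_insert_iff,
        Set.mem_singleton_iff]
      refine ⟨fun k => ?_, ?_⟩
      · have k1 := congrArg (fun p => p.1.1) (ρ1 _ k)
        simp only [sq, mul1, one1] at k1
        have k2 : c.1.1 ^ 2 = 1 := mul_left_cancel₀ h2 (by linear_combination k1 + c.2)
        exact (sq_eq_one_iff.1 k2).imp (fun l => Subtype.ext (Prod.ext l (z0 c k2)))
          fun l => Subtype.ext (Prod.ext l (z0 c k2))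
      · rintro (rfl | rfl)
        · simp
        · rw [sq, show m * m = 1 from Subtype.ext (Prod.ext (by rw [mul1]; simp [m, one1])
            (by rw [mul2]; simp [m, one1])), map_one]
    have c2 : Nat.card (ρ.comp (powMonoidHom 2)).ker = 2 := by
      rw [← SetLike.coe_sort_coe, km, Nat.card_coe_set_eq, Set.ncard_pair]
      exact fun k => h2 (by
        have : (1 : K) = -1 := congrArg (fun p => p.1.1) k
        linear_combination this)
    have := (ρ.comp (powMonoidHom 2)).ker.card_mul_index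
    rw [Subgroup.index_ker, c2] at this
    rw [this]
    exact card_Cn h2 δ0
  · rintro _ ⟨c, rfl⟩
    rw [MonoidHom.comp_apply]
    generalize (powMonoidHom 2 c : Cn δ) = c
    refine ⟨2 * c.1.1, ⟨fun a x => map_smul (R _ _) a x, ?_, fun v hv => ?_⟩, fun k => ?_⟩
    · simpa [hρ] using hR c.1.1 c.1.2 1 0 0
    · obtain ⟨c0, c1, c2, rfl⟩ := dec v
      have : c0 = 0 := by simpa [h2, qy] using (co c0 c1 c2).1.symm.trans hv
      subst this
      rw [hρ, hρ, hR, hR, (co _ _ _).1]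
      refine ⟨zero_mul _, ?_⟩
      have := c.2
      match_scalars
      · ring
      · linear_combination (-c1) * this
      · linear_combination (-c2) * this
    · have k1 : c.1.1 = 1 := mul_left_cancel₀ h2 (by rw [k, mul_one])
      rw [show c = 1 from Subtype.ext (Prod.ext k1 (z0 c (by rw [k1, one_pow]))), map_one]

end H21.Q3F
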