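import Cfsg.Agent.H21.RED
/-! Aschbacher's criterion, non-simple form: an involution of `⟨D⟩` in the kernel lies in `⟨D ∩ C(u)⟩`
(`ZO.ker_mem`), and `se_class` (the fundamental theorem for a class of `2`-central involutions). -/
set_option autoImplicit false
set_option linter.unusedSectionVars false
open Cfsg H18 Subgroup MulAction H9 H19
open H5 (exists_inv_of_even even_of_inv exists_sqrt eq_of_sq_eq inverts_pow eq_one_of_odd odd_order_of_mem
  odd_card_of_le)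

namespace H21
universe u v
variable {G Ω : Type*} [Group G] [MulAction G Ω] [Finite G] {D : Set G}
variable {a b c : Ω} {d e f s s' t t' u v w g x y z : G} {H K L M O X : Subgroup G}

theorem ZO.one (h : ZO Ω D) (nD : ∀ g : G, g ∈ normalizer D) (odd : ∀ a : Ω, Odd (Sw D a a).ncard) (hd : d ∈ D)
    (he : e ∈ D) (c : d * e = e * d) (n : d ≠ e) (da : d • a = a) (hb : (d * e) • b = b) : b = a := by
  have s2 : d * e * (d * e) = 1 := by rw [mul_assoc, ← mul_assoc e, ← c, mul_assoc, h.sq e he, mul_one, h.sq d hd]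
  obtain ⟨t, ht, m⟩ := h.swap nD odd s2 (a := a) (by rw [mul_smul, h.comm_fix hd da c.symm, da]) hb
  exact ht.2.symm.trans (h.cen d hd e he c n a da m)

theorem ZO.comm_mem_O (h : ZO Ω D) (nD : ∀ g : G, g ∈ normalizer D) (odd : ∀ a : Ω, Odd (Sw D a a).ncard) (hab : a ≠ b)
    (hd : d ∈ D) (hM : d ∈ N(M)) (h0 : ∀ x ∈ M, ∀ c : Ω, x • c = c) (hg : g ∈ M) :
    ∃ n ∈ O[{2}ᶜ](M), g * d * g⁻¹ = n * d * n⁻¹ := by
  have d2 := h.sq d hd
  have nM : M ⊴ M ⊔ zpowers d := nml_sup_left (zpowers_le.2 hM)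
  have key : ∀ g ∈ M ⊔ zpowers d, d * (g * d * g⁻¹) ∈ M := fun g hg => by
    obtain ⟨x, hx, y, hy, rfl⟩ := (mem_sup_of_norm' (zpowers_le.2 hM)).1 hg
    have := mul_mem (tN d2 hM hx) (inv_mem hx)
    rcases mem_zpowers_inv d2 hy with rfl | rfl <;> simpa [mul_assoc, h.inv hd, tt' d2] using this
  have iso : IsIsolatedInvolution (⟨d, mem_sup_right (mem_zpowers d)⟩ : ↥(M ⊔ zpowers d)) := isolated_of_forall
    (orderOf_eq_two.2 ⟨Subtype.ext d2, fun e => h.ne d hd (congrArg Subtype.val e)⟩) fun y hy hc => by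
      by_contra e
      obtain ⟨c, rfl⟩ := isConj_iff.1 hy
      have n : (c : G) * d * (c : G)⁻¹ ≠ d := fun e' => e (Subtype.ext e')
      obtain ⟨p, hp⟩ := h.fix d hd
      have k := fun q => h.one nD odd hd (nD_conj (nD c) hd) (congrArg Subtype.val hc.eq) n.symm hp (h0 _ (key c c.2) q)
      exact hab ((k a).trans (k b).symm)
  obtain ⟨n, hn, e⟩ := zstar_factor iso ⟨g, mem_sup_left hg⟩
  have m := (pPrimeCore_map Nat.prime_two).le (mem_map_of_mem (M ⊔ zpowers d).subtype hn)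
  have e' : (n : G)⁻¹ * g ∈ C1(d) := mem_C1.2 (congrArg Subtype.val e.eq)
  refine ⟨n, inf_pcore_le nM.le ⟨?_, m⟩, by
    rw [show g * d * g⁻¹ = n * ((n : G)⁻¹ * g * d * ((n : G)⁻¹ * g)⁻¹) * (n : G)⁻¹ by group, conj_eq_self_of_C1 e']⟩
  obtain ⟨k, hk⟩ := exists_sqrt (odd_order_of_mem odd_O m)
  obtain ⟨x, hx, y, hy, e⟩ := (mem_sup_of_norm' (zpowers_le.2 hM)).1 (pow_mem n.2 k)
  change _ ∈ M
  rw [show (M ⊔ zpowers d).subtype n = n from rfl] at hk
  rw [← hk, e]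
  rcases mem_zpowers_inv d2 hy with rfl | rfl
  · simpa using mul_mem hx hx
  · simpa [mul_assoc] using mul_mem hx (tN d2 hM hx)

/-- an involution of `⟨D⟩` acting trivially lies in `⟨D ∩ C(u)⟩` -/
theorem ZO.ker_mem (h : ZO Ω D) (nD : ∀ g : G, g ∈ normalizer D) (odd : ∀ a : Ω, Odd (Sw D a a).ncard) (hab : a ≠ b)
    (hu : u ∈ closure D) (u2 : u * u = 1) (ut : ∀ c : Ω, u • c = c) : u ∈ closure (D ∩ (C1(u) : Subgroup G)) := by
  have hK : ∀ x, x ∈ (toPermHom G Ω).ker ↔ ∀ a : Ω, x • a = a := fun x => Equiv.ext_iff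
  have nO : ∀ g, g ∈ N(O[{2}ᶜ]((toPermHom G Ω).ker)) := fun g =>
    (nml_top_iff.2 (inferInstance : (toPermHom G Ω).ker.Normal)).pcore.norm (mem_top g)
  have : closure D ≤ O[{2}ᶜ]((toPermHom G Ω).ker) ⊔ closure (D ∩ (C1(u) : Subgroup G)) := (closure_le _).2 fun d hd => by
    obtain ⟨n, hn, e⟩ := h.comm_mem_O nD odd hab hd (le_normalizer_of_normal (mem_top d)) (fun x => (hK x).1)
      ((hK u).2 ut)
    obtain ⟨_, ⟨k, hk, rfl⟩, m⟩ := exists_cent_of_odd (I := {x | ∃ k ∈ O[{2}ᶜ]((toPermHom G Ω).ker), k * d * k⁻¹ = x})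
      (by rw [ncard_cls]; exact odd_O.of_dvd_nat relIndex_dvd) (two_zpowers u2) fun x hx _ ⟨k, hk, e'⟩ => by
        rcases mem_zpowers_inv u2 hx with rfl | rfl
        · exact ⟨k, hk, by simpa using e'⟩
        · exact ⟨_, mul_mem (conj_mem_N (nO x) hk) hn, by
            rw [← e', show x * (k * d * k⁻¹) * x⁻¹ = x * k * x⁻¹ * (x * d * x⁻¹) * (x * k * x⁻¹)⁻¹ by group, e]; group⟩
    rw [C_zpowers] at m
    simpa [mul_assoc] using mul_mem (mul_mem (mem_sup_left (inv_mem hk)) (mem_sup_right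
      (subset_closure (k := D ∩ (C1(u) : Subgroup G)) ⟨nD_conj (nD k) hd, m⟩))) (mem_sup_left hk)
  obtain ⟨o, ho, l, hl, e⟩ := (mem_sup_of_norm' fun g _ => nO g).1 (this hu)
  have c : Commute u l := (mem_C1.1 ((closure_le C1(u)).2 Set.inter_subset_right hl)).symm
  obtain ⟨n, hn⟩ := odd_order_of_mem odd_O ho
  have := pow_orderOf_eq_one o
  rw [hn, eq_mul_inv_of_mul_eq e.symm, c.inv_right.mul_pow, pow_succ u, pow_mul, pow_two, u2, one_pow, one_mul,
    mul_eq_one_iff_eq_inv] at this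
  have m := inv_mem (pow_mem (inv_mem hl) (2 * n + 1))
  rwa [← this] at m

theorem se_class {G : Type u} [Group G] [Finite G] {H : Subgroup G} {z : G} (z2 : z * z = 1) (z1 : z ≠ 1) (hH : H ≠ ⊤)
    (zH : z ∈ H) (h1 : Odd (C1(z) : Subgroup G).index) (h2 : ∀ g : G, g * z * g⁻¹ ∈ H → g ∈ H)
    (hii : ∀ u : G, u * u = 1 → u ≠ 1 → u ∈ H → u * z = z * u → ¬ C1(u) ≤ H →
      u ∉ closure ({x | IsConj z x} ∩ (C1(u) : Subgroup G))) :
    SEin (closure {x | IsConj z x} ⊓ H) (closure {x | IsConj z x}) := by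
  have h3 : ∀ e, IsConj z e → z * e = e * z → z ≠ e → C1(z * e) ≤ H := fun e he c n => by_contra fun m => by
    obtain ⟨g, rfl⟩ := isConj_iff.1 he
    have e2 := conj_sq z2 g
    generalize g * z * g⁻¹ = e at *
    have c' : z * e * z = z * (z * e) := by rw [mul_assoc, c]
    refine hii _ (by rw [mul_assoc, ← mul_assoc e, ← c, mul_assoc, e2, mul_one, z2])
      (fun e' => n (by rw [← tt' z2 e, e', mul_one])) (mul_mem zH (h2 e (by rwa [← c, mul_inv_cancel_right]))) c' m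
      (mul_mem (subset_closure ⟨IsConj.refl z, mem_C1.2 c'.symm⟩) (subset_closure ⟨he, mem_C1.2 (by rw [← mul_assoc, c])⟩))
  refine ⟨inf_lt_left.2 fun l => hH (eq_top_iff.2 fun g _ => h2 g (l (subset_closure (isConj_iff.2 ⟨g, rfl⟩)))),
    even_of_inv ⟨subset_closure (IsConj.refl z), zH⟩ z2 z1, fun g hg gH x hx xg x2 => by_contra fun x1 => ?_⟩
  have za : z • ((1 : G) : G ⧸ H) = (1 : G) := coset_St.ge zH
  have uq : ∀ b : G ⧸ H, z • b = b → b = (1 : G) := fun b => QuotientGroup.induction_on b fun g e =>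
    QuotientGroup.eq.2 (by simpa using h2 g⁻¹ (by simpa using coset_fix.1 e))
  have h := zo_class z2 z1 za uq (by rwa [coset_St])
  have odd := odd_class za uq coset_tr h1
  have hab : ((1 : G) : G ⧸ H) ≠ g := fun e => gH ⟨hg, by simpa using QuotientGroup.eq.1 e⟩
  have k := crit_class H19.noU z2 z1 zH h1 h2 h3 hx.1 x2 (fun e => gH ⟨hg, e⟩) hx.2 xg.2
  obtain ⟨t, ⟨ht, -⟩, m⟩ := h.swap (nD_class z) odd x2 (coset_St.ge hx.2) (coset_St.ge hx.2)
  obtain ⟨r, rfl⟩ := isConj_iff.1 ht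
  have ut : ∀ c : G ⧸ H, (r⁻¹ * x * r) • c = c := fun c => QuotientGroup.induction_on c fun g =>
    coset_fix.2 (by simpa [mul_assoc] using k (r * g))
  obtain ⟨t, ht, m'⟩ := h.swap (nD_class z) odd (conj_sq' x2 r) (ut (1 : G)) (ut g)
  refine hii _ (conj_sq' x2 r) (conj_ne' x1 r) (k r) ?_ (fun l => hab ((coset_St.ge (l m')).symm.trans ht.2))
    (h.ker_mem (nD_class z) odd hab (conj_mem_N' (norm_closure_of_nD (nD_class z r)) hx.1) (conj_sq' x2 r) ut)
  rw [← mul_left_cancel_iff (a := r), ← mul_right_cancel_iff (a := r⁻¹)]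
  simpa [mul_assoc] using (mem_C1.1 m).symm

end H21
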