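import Cfsg.Agent.H18.BG1
import Cfsg.Agent.H18.Prod
import Cfsg.Agent.H21.Pairing

/-! Regular pairs `(v, w)` for a group `A` of odd order normalizing an abelian group `V`: definitions (`CR`, `Reg`,
`T`, `IH`), a second orbit (`two`), the bound `four`, the reducible case (`red`), independence of blocks
(`indep`, `indep2`, `card_sup`), hyperplanes (`exists_hyp`). -/

set_option autoImplicit false

namespace H21.Rb
open Subgroup Cfsg H18
open scoped commutatorElement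

universe u

variable {G : Type*} [Group G] {V A U W H K M B : Subgroup G} {v w a x y : G}

/-- every `A`-invariant subgroup of `V` has an `A`-invariant complement -/
def CR (V A : Subgroup G) : Prop :=
  ∀ U, U ≤ V → A ≤ N(U) → ∃ W, W ≤ V ∧ A ≤ N(W) ∧ U ⊓ W = ⊥ ∧ U ⊔ W = V

/-- the elements of `A` fixing `v` and `w` centralize `V` -/
def Reg (V A : Subgroup G) (v w : G) : Prop :=
  v ∈ V ∧ w ∈ V ∧ ∀ a ∈ A, a * v * a⁻¹ = v → a * w * a⁻¹ = w → a ∈ C(V)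

def T (V A : Subgroup G) : Prop :=
  Abel V → A ≤ N(V) → Odd (Nat.card A) → CR V A → ∃ v w, Reg V A v w

def IH (n : ℕ) : Prop :=
  ∀ (G : Type u) [Group G] [Finite G] (V A : Subgroup G), Nat.card V < n → T V A

theorem conj_of_C (h : a ∈ C(V)) (hv : v ∈ V) : a * v * a⁻¹ = v := by
  rw [← mem_C.1 h v hv, mul_inv_cancel_right]

theorem C_of_conj (h : ∀ v ∈ V, a * v * a⁻¹ = v) : a ∈ C(V) := mem_C.2 fun v hv => by
  conv_lhs => rw [← h v hv]
  group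

theorem C1_iff : v ∈ C1(a) ↔ a * v * a⁻¹ = v := by
  rw [mem_C1, mul_inv_eq_iff_eq_mul, eq_comm]

variable [Finite G]

theorem mem_of_pow (ho : Odd (Nat.card A)) (ha : a ∈ A) (k : ℕ) (h : a ^ 2 ^ k ∈ K) : a ∈ K := by
  have h1 : (2 ^ k).gcd (orderOf a) = 1 :=
    Nat.Coprime.pow_left k (Nat.coprime_two_left.2 (ho.of_dvd_nat (orderOf_dvd_card ha)))
  exact zpowers_le.2 h (mem_zpowers_pow_iff.2 h1)

theorem eq_one_of_inv (ho : Odd (Nat.card V)) (hv : v ∈ V) (h : v⁻¹ = v) : v = 1 :=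
  mem_bot.1 (mem_of_pow ho hv 1 (by rw [pow_one, sq]; nth_rw 1 [← h]; simp))

theorem two (ho : Odd (Nat.card A)) (hV : V ≠ ⊥) (h : Reg V A v w) :
    ∃ v w v' w', Reg V A v w ∧ Reg V A v' w' ∧ ∀ a ∈ A, a * v * a⁻¹ = v' → a * w * a⁻¹ = w' → False := by
  by_cases e : v = w
  · subst e
    by_cases e1 : v = 1
    · subst e1
      obtain ⟨u, hu, u1⟩ := exists_mem_ne_one' hV
      refine ⟨u, 1, 1, 1, ⟨hu, h.1, fun a ha _ _ => h.2.2 a ha (by simp) (by simp)⟩, h, fun a _ h1 _ => u1 ?_⟩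
      exact conj_eq_one_iff'.1 h1
    · exact ⟨v, v, v, 1, h, ⟨h.1, one_mem _, fun a ha h1 _ => h.2.2 a ha h1 h1⟩, fun a _ _ h2 =>
        e1 (conj_eq_one_iff'.1 h2)⟩
  · refine ⟨v, w, w, v, h, ⟨h.2.1, h.1, fun a ha h1 h2 => h.2.2 a ha h2 h1⟩, fun a ha h1 h2 => e ?_⟩
    have : a ∈ C(V) := mem_of_pow ho ha 1 (h.2.2 _ (pow_mem ha _)
      (by calc _ = a * (a * v * a⁻¹) * a⁻¹ := by simp [sq, mul_assoc]
        _ = v := by rw [h1, h2])
      (by calc _ = a * (a * w * a⁻¹) * a⁻¹ := by simp [sq, mul_assoc]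
        _ = w := by rw [h2, h1]))
    rw [← h1, conj_of_C this h.1]

omit [Finite G] in
theorem pinj (kv : v⁻¹ = v → v = 1) (kw : w⁻¹ = w → w = 1) (e : ¬ (v = 1 ∧ w = 1)) :
    Function.Injective (![(v, w), (w⁻¹, v), (v⁻¹, w⁻¹), (w, v⁻¹)] : Fin 4 → G × G) := by
  intro i j h
  have i1 : v⁻¹⁻¹ = v := inv_inv v
  have i2 : w⁻¹⁻¹ = w := inv_inv w
  have i3 : (1 : G)⁻¹ = 1 := inv_one
  fin_cases i <;> fin_cases j <;>
    simp only [Fin.zero_eta, Fin.mk_one, Fin.reduceFinMk, Matrix.cons_val, Prod.mk.injEq] at h <;>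
    first | rfl | (exfalso; grind)

theorem four (hn : A ≤ N(V)) (ho : Odd (Nat.card A)) (hoV : Odd (Nat.card V)) (hV : V ≠ ⊥) (h : Reg V A v w) :
    4 * C(V).relIndex A ≤ Nat.card V ^ 2 := by
  by_cases e : v = 1 ∧ w = 1
  · have : A ≤ C(V) := fun a ha => h.2.2 a ha (by simp [e.1]) (by simp [e.2])
    rw [relIndex_eq_one_iff.2 this]
    have := one_lt_card hV
    nlinarith
  let p : Fin 4 → G × G := ![(v, w), (w⁻¹, v), (v⁻¹, w⁻¹), (w, v⁻¹)]
  have pm : ∀ i, (p i).1 ∈ V ∧ (p i).2 ∈ V := fun i => by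
    fin_cases i <;> simp [p, h.1, h.2.1]
  let f : Fin 4 × (A ⧸ C(V).subgroupOf A) → V × V := fun q =>
    (⟨_, conj_mem hn q.2.out.2 (pm q.1).1⟩, ⟨_, conj_mem hn q.2.out.2 (pm q.1).2⟩)
  have hf : Function.Injective f := by
    rintro ⟨i, q⟩ ⟨j, r⟩ e1
    simp only [f, Prod.mk.injEq, Subtype.mk.injEq] at e1
    set c : G := (r.out : G)⁻¹ * q.out with hc
    have cA : c ∈ A := mul_mem (inv_mem r.out.2) q.out.2
    have h1 : MulAut.conj c (p i).1 = (p j).1 := by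
      rw [MulAut.conj_apply, hc, mul_inv_rev, inv_inv]
      calc _ = (r.out : G)⁻¹ * (q.out * (p i).1 * (q.out : G)⁻¹) * r.out := by group
        _ = _ := by rw [e1.1]; group
    have h2 : MulAut.conj c (p i).2 = (p j).2 := by
      rw [MulAut.conj_apply, hc, mul_inv_rev, inv_inv]
      calc _ = (r.out : G)⁻¹ * (q.out * (p i).2 * (q.out : G)⁻¹) * r.out := by group
        _ = _ := by rw [e1.2]; group
    have k4 : ∀ x : G, c ^ 2 ^ 2 * x * (c ^ 2 ^ 2)⁻¹ =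
        MulAut.conj c (MulAut.conj c (MulAut.conj c (MulAut.conj c x))) := fun x => by
      simp [MulAut.conj_apply, pow_succ, mul_assoc]
    have cC : c ∈ C(V) := by
      refine mem_of_pow ho cA 2 (h.2.2 _ (pow_mem cA _) ?_ ?_) <;> rw [k4] <;>
        generalize MulAut.conj c = φ at h1 h2 <;> fin_cases i <;> fin_cases j <;>
        simp only [p, Fin.zero_eta, Fin.mk_one, Fin.reduceFinMk, Matrix.cons_val, map_inv,
          inv_eq_iff_eq_inv, inv_inv] at h1 h2 <;> simp only [h1, h2, map_inv, inv_inv]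
    rw [MulAut.conj_apply, conj_of_C cC (pm i).1] at h1
    rw [MulAut.conj_apply, conj_of_C cC (pm i).2] at h2
    have hq : q = r := by
      rw [← q.out_eq', ← r.out_eq', eq_comm, QuotientGroup.eq]
      exact cC
    have kv : v⁻¹ = v → v = 1 := eq_one_of_inv hoV h.1
    have kw : w⁻¹ = w → w = 1 := eq_one_of_inv hoV h.2.1
    have hij : i = j := pinj kv kw e (Prod.ext h1 h2)
    rw [hq, hij]
  have := Nat.card_le_card_of_injective f hf
  rwa [Nat.card_prod, Nat.card_prod, Nat.card_eq_fintype_card (α := Fin 4), Fintype.card_fin, ← sq] at this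

omit [Finite G] in
theorem CR.sub (h : CR V A) (hV : Abel V) (hU : U ≤ V) (hn : A ≤ N(U)) : CR U A := fun X hX nX => by
  obtain ⟨W, h1, h2, h3, h4⟩ := h X (hX.trans hU) nX
  refine ⟨W ⊓ U, inf_le_right, norm_inf h2 hn, by rw [← inf_assoc, h3, bot_inf_eq], ?_⟩
  have n2 : Nrm2 X W := Or.inl ((hX.trans hU).trans (hV.norm h1))
  rw [← n2.modular hX, h4, inf_eq_right.2 hU]

theorem CR.of_min (h : MinNorm V A) : CR V A := fun U hU hn => by
  rcases h.eq_bot_or hU hn with rfl | rfl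
  · exact ⟨V, le_rfl, h.norm, bot_inf_eq _, bot_sup_eq _⟩
  · exact ⟨⊥, bot_le, by simp, inf_bot_eq _, sup_bot_eq _⟩

omit [Finite G] in
theorem Reg.mul {v' w' : G} (hV : Abel (U ⊔ W)) (hU : A ≤ N(U)) (hW : A ≤ N(W)) (hd : U ⊓ W = ⊥)
    (h1 : Reg U A v w) (h2 : Reg W A v' w') : Reg (U ⊔ W) A (v * v') (w * w') := by
  have key : ∀ a ∈ A, ∀ x ∈ U, ∀ y ∈ W, a * (x * y) * a⁻¹ = x * y → a * x * a⁻¹ = x ∧ a * y * a⁻¹ = y := by
    intro a ha x hx y hy e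
    have e1 : x⁻¹ * (a * x * a⁻¹) = y * (a * y * a⁻¹)⁻¹ := by
      rw [inv_mul_eq_iff_eq_mul, ← mul_assoc, ← e]; group
    have m : x⁻¹ * (a * x * a⁻¹) ∈ U ⊓ W :=
      mem_inf.2 ⟨mul_mem (inv_mem hx) (conj_mem hU ha hx), e1 ▸ mul_mem hy (inv_mem (conj_mem hW ha hy))⟩
    rw [hd, mem_bot] at m
    exact ⟨(inv_mul_eq_one.1 m).symm, (mul_inv_eq_one.1 (e1 ▸ m)).symm⟩
  refine ⟨mul_mem_sup' h1.1 h2.1, mul_mem_sup' h1.2.1 h2.2.1, fun a ha e1 e2 => ?_⟩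
  have k1 := key a ha v h1.1 v' h2.1 e1
  have k2 := key a ha w h1.2.1 w' h2.2.1 e2
  rw [C_sup]
  exact ⟨h1.2.2 a ha k1.1 k2.1, h2.2.2 a ha k1.2 k2.2⟩

theorem red {G : Type u} [Group G] [Finite G] {V A : Subgroup G} (ih : IH.{u} (Nat.card V))
    (h : ¬ MinNorm V A) : T V A := fun hV hn ho hc => by
  by_cases h0 : V = ⊥
  · exact ⟨1, 1, one_mem _, one_mem _, fun a _ _ _ => by simp [h0]⟩
  obtain ⟨U, UV, hU⟩ := exists_minNorm h0 hn
  obtain ⟨W, h1, h2, h3, h4⟩ := hc U UV hU.norm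
  have l1 : U < V := lt_of_le_of_ne UV fun e => h (e ▸ hU)
  have l2 : W < V := lt_of_le_of_ne h1 fun e => hU.ne_bot (by rw [← h3, e, inf_eq_left.2 UV])
  obtain ⟨v, w, r1⟩ := ih G U A (card_lt l1) (hV.mono UV) hU.norm ho (hc.sub hV UV hU.norm)
  obtain ⟨v', w', r2⟩ := ih G W A (card_lt l2) (hV.mono h1) h2 ho (hc.sub hV h1 h2)
  exact ⟨_, _, h4 ▸ Reg.mul (h4 ▸ hV) hU.norm h2 h3 r1 r2⟩

section indep
variable {ι : Type*} [DecidableEq ι] {f : ι → Subgroup G}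

omit [Finite G] in
theorem indep (hV : Abel V) (hf : ∀ i, f i ≤ V) (hn : ∀ i, M ≤ N(f i))
    (h : ∀ i j, i ≠ j → ∃ u ∈ M, u ∈ C(f j) ∧ f i ⊓ C1(u) = ⊥) (i : ι) (s : Finset ι) (hi : i ∉ s) :
    f i ⊓ s.sup f = ⊥ := by
  induction s using Finset.induction_on with
  | empty => simp
  | insert j s hj ih =>
    rw [Finset.mem_insert, not_or] at hi
    obtain ⟨u, hu, u1, u2⟩ := h i j hi.1
    have sV : s.sup f ≤ V := Finset.sup_le fun k _ => hf k
    have ns : M ≤ N(s.sup f) := by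
      rw [Finset.sup_eq_iSup]; exact norm_iSup fun k => norm_iSup fun _ => hn k
    rw [Finset.sup_insert, eq_bot_iff, ← u2]
    intro x hx
    obtain ⟨y, hy, z, hz, e⟩ := (mem_sup_of_cent (cent_mono hV (hf j) sV)).1 hx.2
    refine ⟨hx.1, C1_iff.2 ?_⟩
    have m : x⁻¹ * (u * x * u⁻¹) ∈ f i ⊓ s.sup f := by
      refine mem_inf.2 ⟨mul_mem (inv_mem (mem_inf.1 hx).1) (conj_mem (hn i) hu hx.1), ?_⟩
      have : x⁻¹ * (u * x * u⁻¹) = z⁻¹ * (u * z * u⁻¹) := by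
        rw [e]
        calc _ = z⁻¹ * y⁻¹ * (u * y * u⁻¹) * (u * z * u⁻¹) := by group
          _ = _ := by rw [conj_of_C u1 hy]; group
      rw [this]
      exact mul_mem (inv_mem hz) (conj_mem ns hu hz)
    rw [ih hi.2, mem_bot] at m
    exact (inv_mul_eq_one.1 m).symm

omit [Finite G] in
theorem indep2 (hV : Abel V) (hf : ∀ i, f i ≤ V) (h : ∀ i (s : Finset ι), i ∉ s → f i ⊓ s.sup f = ⊥)
    (s t : Finset ι) (hd : Disjoint s t) : s.sup f ⊓ t.sup f = ⊥ := by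
  induction s using Finset.induction_on with
  | empty => simp
  | insert j s hj ih =>
    rw [Finset.disjoint_insert_left] at hd
    have sV : s.sup f ≤ V := Finset.sup_le fun k _ => hf k
    rw [Finset.sup_insert, eq_bot_iff, ← ih hd.2]
    intro x hx
    obtain ⟨y, hy, z, hz, e⟩ := (mem_sup_of_cent (cent_mono hV (hf j) sV)).1 hx.1
    have m : y ∈ f j ⊓ (s ∪ t).sup f := by
      refine mem_inf.2 ⟨hy, ?_⟩
      rw [Finset.sup_union, show y = x * z⁻¹ by rw [e]; group]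
      exact mul_mem (le_sup_right (a := s.sup f) hx.2) (inv_mem (le_sup_left (b := t.sup f) hz))
    rw [h j _ (by simp [hj, hd.1]), mem_bot] at m
    rw [m, one_mul] at e
    exact ⟨e ▸ hz, hx.2⟩

theorem card_sup (hV : Abel V) (hf : ∀ i, f i ≤ V) (h : ∀ i (s : Finset ι), i ∉ s → f i ⊓ s.sup f = ⊥)
    (s : Finset ι) : Nat.card ↥(s.sup f) = ∏ i ∈ s, Nat.card (f i) := by
  induction s using Finset.induction_on with
  | empty => simp
  | insert j s hj ih =>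
    have sV : s.sup f ≤ V := Finset.sup_le fun k _ => hf k
    rw [Finset.sup_insert, Finset.prod_insert hj, card_sup_of_cent (cent_mono hV (hf j) sV) (h j s hj), ih]

end indep

theorem exists_hyp (hV : Abel V) (h0 : V ≠ ⊥) (hM : Abel M) (hn : M ≤ N(V)) :
    ∃ B ≤ M, V ⊓ C(B) ≠ ⊥ ∧ (∀ u ∈ M, u ∉ B → V ⊓ C(B) ⊓ C1(u) = ⊥) ∧ ∃ g ∈ M, M ≤ zpowers g ⊔ B := by
  obtain ⟨B, -, ⟨BM, h1⟩, hB⟩ := exists_maximal_sub (A := ⊥) (fun B => B ≤ M ∧ V ⊓ C(B) ≠ ⊥)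
    ⟨bot_le, by simpa using h0⟩
  refine ⟨B, BM, h1, fun u hu uB => ?_, ?_⟩
  · by_contra e
    have := hB (B ⊔ zpowers u) ⟨sup_le BM (zpowers_le.2 hu), by rwa [C_sup, C_zpowers, ← inf_assoc]⟩ le_sup_left
    exact uB (this.le (le_sup_right (a := B) (mem_zpowers u)))
  · obtain ⟨U, UV, hU⟩ := exists_minNorm h1 (norm_inf hn (norm_C (hM.norm BM)))
    obtain ⟨g, hg, e⟩ := hU.exists_gen (hV.mono (UV.trans inf_le_left)) (by rw [hM.der]; exact bot_le)
    have := hB (M ⊓ C(U)) ⟨inf_le_left, fun e => hU.ne_bot (eq_bot_iff.2 (e ▸ le_inf (UV.trans inf_le_left)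
      (cent_symm inf_le_right)))⟩ (le_inf BM (cent_symm (UV.trans inf_le_right)))
    refine ⟨g, hg, ?_⟩
    have n2 : Nrm2 (zpowers g) C(U) := Or.inl ((zpowers_le.2 hg).trans (norm_C hU.norm))
    rw [← this, ← n2.modular_left (zpowers_le.2 hg)]
    exact le_inf le_rfl e

end H21.Rb
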