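import Cfsg.Agent.H21.Rb1
import Cfsg.Agent.H16.OddOrder

/-! Regular pairs, imprimitive case: `gluck` (a primitive group of odd order has a regular orbit on subsets),
`imprim`, `noncyc` (a noncyclic normal abelian subgroup gives a system of imprimitivity). -/

set_option autoImplicit false

namespace H21.Rb
open Subgroup Cfsg H18
open scoped commutatorElement

universe u

section
variable {G : Type*} [Group G] {V A U W H K M B : Subgroup G} {v w a b x y : G}

theorem par {φ : G → G} (hφ : Function.Injective φ) (hc : a * b = b * a) (ka : a * a = 1 → a = 1)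
    (kb : b * b = 1 → b = 1) (h : b = 1 ∨ (a ≠ 1 ∧ b ≠ 1 ∧ a ≠ b ∧ a * b ≠ 1))
    (m : ∀ x ∈ ({1, a, b, a * b} : Set G), φ x ∈ ({1, a, b, a * b} : Set G))
    (rel : φ 1 * φ (a * b) = φ a * φ b) :
    φ (φ (φ (φ 1))) = 1 ∧ φ (φ (φ (φ a))) = a ∧ φ (φ (φ (φ b))) = b := by
  have h1 := m 1 (by simp)
  have h2 := m a (by simp)
  have h3 := m b (by simp)
  have h4 := m (a * b) (by simp)
  simp only [Set.mem_insert_iff, Set.mem_singleton_iff] at h1 h2 h3 h4
  have inj : ∀ x y, φ x = φ y → x = y := hφ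
  rcases h with rfl | ⟨n1, n2, n3, n4⟩
  · rw [mul_one] at h1 h2
    clear m rel h3 h4 hc ka kb hφ
    grind
  · have n5 : a * b ≠ a := by simpa using n2
    have n6 : a * b ≠ b := by simpa using n1
    have p1 : a ≠ b * (a * b) := fun e => n2 (kb (by
      rw [← mul_assoc, ← hc, mul_assoc] at e; simpa using e))
    have p2 : a ≠ (a * b) * b := fun e => n2 (kb (by rw [mul_assoc] at e; simpa using e))
    have p3 : b ≠ a * (a * b) := fun e => n1 (ka (by rw [← mul_assoc] at e; simpa using e))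
    have p4 : b ≠ (a * b) * a := fun e => n1 (ka (by rw [hc, mul_assoc] at e; simpa using e))
    generalize a * b = s at *
    have q1 : 1 * a = a := one_mul _
    have q2 : a * 1 = a := mul_one _
    have q3 : 1 * b = b := one_mul _
    have q4 : b * 1 = b := mul_one _
    clear m hc ka kb hφ
    have d1 : φ 1 ≠ φ a := fun e => n1 (inj _ _ e).symm
    have d2 : φ 1 ≠ φ b := fun e => n2 (inj _ _ e).symm
    have d3 : φ 1 ≠ φ s := fun e => n4 (inj _ _ e).symm
    have d4 : φ a ≠ φ b := fun e => n3 (inj _ _ e)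
    have d5 : φ a ≠ φ s := fun e => n5 (inj _ _ e).symm
    have d6 : φ b ≠ φ s := fun e => n6 (inj _ _ e).symm
    clear inj
    grind

theorem Reg.gen (h : Reg V A v w) :
    ∃ a b, Reg V A a b ∧ (b = 1 ∨ (a ≠ 1 ∧ b ≠ 1 ∧ a ≠ b ∧ a * b ≠ 1)) := by
  by_cases e1 : v = 1
  · exact ⟨w, 1, ⟨h.2.1, one_mem _, fun a ha h1 _ => h.2.2 a ha (by simp [e1]) h1⟩, Or.inl rfl⟩
  by_cases e2 : w = 1
  · exact ⟨v, w, h, Or.inl e2⟩
  by_cases e3 : v = w
  · exact ⟨v, 1, ⟨h.1, one_mem _, fun a ha h1 _ => h.2.2 a ha h1 (e3 ▸ h1)⟩, Or.inl rfl⟩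
  by_cases e4 : v * w = 1
  · refine ⟨v, 1, ⟨h.1, one_mem _, fun a ha h1 _ => h.2.2 a ha h1 ?_⟩, Or.inl rfl⟩
    rw [← inv_eq_of_mul_eq_one_right e4]
    calc _ = (a * v * a⁻¹)⁻¹ := by group
      _ = _ := by rw [h1]
  exact ⟨v, w, h, Or.inr ⟨e1, e2, e3, e4⟩⟩

theorem sol [Finite G] (ho : Odd (Nat.card H)) : Solv H := H16.odd_order H ho

end

theorem gluck0 {L : Type u} [Group L] [Finite L] {H : Subgroup L} {n : ℕ} (ih : IH.{u} n) (hn : H.index < n)
    (ho : Odd (Nat.card L)) (hH : IsCoatom H) (hc : H.normalCore = ⊥) :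
    ∃ D : Set L, (∀ g ∈ D, ∀ h ∈ H, g * h ∈ D) ∧ ∀ t, (∀ g ∈ D, t * g ∈ D) → t = 1 := by
  have oa : ∀ X : Subgroup L, Odd (Nat.card X) := fun X => ho.of_dvd_nat (card_subgroup_dvd_card X)
  have core : ∀ X : Subgroup L, X ≤ H → ⊤ ≤ N(X) → X = ⊥ := fun X h1 h2 => by
    haveI := norm_top_iff.1 h2
    exact eq_bot_iff.2 (hc ▸ normal_le_normalCore.2 h1)
  obtain ⟨W, -, hW⟩ := exists_minNorm (K := ⊤) (A := (⊤ : Subgroup L))
    (fun e => hH.1 (top_unique (e ▸ bot_le))) (by simp)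
  have aW : Abel W := hW.abel (sol (oa W))
  have nW : H ≤ N(W) := le_top.trans hW.norm
  have hs : H ⊔ W = ⊤ := hH.2 _ (left_lt_sup.2 fun e => hW.ne_bot (core W e hW.norm))
  have hi : W ⊓ H = ⊥ := core _ inf_le_right
    (hs ▸ sup_le (norm_inf nW le_N) (aW.norm inf_le_left))
  have mW : MinNorm W H := ⟨hW.ne_bot, nW, fun K h1 h2 h3 => hW.min K h1 h2 (hs ▸ sup_le h3 (aW.norm h1))⟩
  have cW : Nat.card W = H.index := by
    have n2 : Nrm2 H W := Or.inl nW
    have := n2.card_sup_of_disj (inf_comm W H ▸ hi)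
    rw [hs, card_top, ← H.card_mul_index] at this
    exact (Nat.eq_of_mul_eq_mul_left card_pos' this).symm
  obtain ⟨v, w, r⟩ := ih L W H (cW ▸ hn) aW nW (oa H) (CR.of_min mW)
  obtain ⟨a, b, r, gen⟩ := r.gen
  have fa : H ⊓ C(W) = ⊥ := core _ inf_le_left
    (hs ▸ sup_le (norm_inf le_N (norm_C nW)) (cent_norm (cent_symm inf_le_right)))
  have dj : ∀ x ∈ W, x ∈ H → x = 1 := fun x h1 h2 => eq_one_of_eq_bot hi ⟨h1, h2⟩
  have ΔW : ∀ x ∈ ({1, a, b, a * b} : Set L), x ∈ W := by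
    rintro x (rfl | rfl | rfl | rfl)
    exacts [one_mem _, r.1, r.2.1, mul_mem r.1 r.2.1]
  refine ⟨{g | ∃ x ∈ ({1, a, b, a * b} : Set L), x⁻¹ * g ∈ H}, ?_, fun t ht => ?_⟩
  · rintro g ⟨x, hx, e⟩ h hh
    exact ⟨x, hx, by rw [← mul_assoc]; exact mul_mem e hh⟩
  obtain ⟨τ, hτ, h, hh, rfl⟩ := (mem_sup_of_norm' nW).1 (show t ∈ W ⊔ H by rw [sup_comm, hs]; trivial)
  let φ : L → L := fun x => τ * (h * x * h⁻¹)
  have φW : ∀ x ∈ W, φ x ∈ W := fun x hx => mul_mem hτ (conj_mem nW hh hx)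
  have R1 : ∀ x, (φ x)⁻¹ * (τ * h) * x ∈ H := fun x => by
    have : (φ x)⁻¹ * (τ * h) * x = h := by simp only [φ]; group
    rw [this]; exact hh
  have R4 : ∀ x, φ (φ (φ (φ x))) = x → x⁻¹ * (τ * h) ^ 2 ^ 2 * x ∈ H := fun x e => by
    have := mul_mem (mul_mem (mul_mem (R1 (φ (φ (φ x)))) (R1 (φ (φ x)))) (R1 (φ x))) (R1 x)
    rw [e] at this
    convert this using 1
    simp [pow_succ, mul_assoc]
  have sq1 : ∀ x ∈ W, x * x = 1 → x = 1 := fun x hx e =>
    eq_one_of_inv (oa W) hx (inv_eq_of_mul_eq_one_right e)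
  obtain ⟨k1, k2, k3⟩ := par (φ := φ) (fun x y e => by simpa [φ] using e) (comm_of_cent aW r.1 r.2.1)
    (sq1 a r.1) (sq1 b r.2.1) gen (fun x hx => by
      obtain ⟨y, hy, e⟩ := ht x ⟨x, hx, by simp⟩
      have e1 : y⁻¹ * φ x = 1 := dj _ (mul_mem (inv_mem (ΔW y hy)) (φW x (ΔW x hx))) (by
        have := mul_mem e (inv_mem hh)
        convert this using 1
        simp only [φ]; group)
      rwa [← inv_mul_eq_one.1 e1]) (by
      have := comm_of_cent aW hτ (conj_mem nW hh r.1)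
      simp only [φ]
      calc _ = τ * (τ * (h * a * h⁻¹)) * (h * b * h⁻¹) := by group
        _ = τ * ((h * a * h⁻¹) * τ) * (h * b * h⁻¹) := by rw [this]
        _ = _ := by group)
  set s := (τ * h) ^ 2 ^ 2 with hs4
  have sH : s ∈ H := by simpa using R4 1 k1
  have fx : ∀ x ∈ W, x⁻¹ * s * x ∈ H → s * x * s⁻¹ = x := fun x hx e => by
    have : x⁻¹ * (s * x * s⁻¹) = 1 := dj _ (mul_mem (inv_mem hx) (conj_mem nW sH hx)) (by
      have := mul_mem e (inv_mem sH)
      convert this using 1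
      group)
    exact (inv_mul_eq_one.1 this).symm
  have s1 : s = 1 := eq_one_of_eq_bot fa ⟨sH, r.2.2 s sH (fx a r.1 (R4 a k2)) (fx b r.2.1 (R4 b k3))⟩
  exact mem_bot.1 (mem_of_pow (oa ⊤) (mem_top _) 2 (hs4 ▸ s1 ▸ one_mem _))

theorem gluck {L : Type u} [Group L] [Finite L] {H : Subgroup L} {n : ℕ} (ih : IH.{u} n) (hn : H.index < n)
    (ho : Odd (Nat.card L)) (hH : IsCoatom H) :
    ∃ D : Set (L ⧸ H), ∀ t : L, (∀ ω ∈ D, t • ω ∈ D) → ∀ ω : L ⧸ H, t • ω = ω := by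
  let π := QuotientGroup.mk' H.normalCore
  have hπ : Function.Surjective π := QuotientGroup.mk'_surjective _
  have kπ : π.ker ≤ H := by rw [QuotientGroup.ker_mk']; exact H.normalCore_le
  have cm : (H.map π).comap π = H := comap_map_eq_self kπ
  obtain ⟨D, h1, h2⟩ := gluck0 (H := H.map π) ih (by rwa [index_map_eq _ hπ kπ])
    (ho.of_dvd_nat (card_quotient_dvd_card _))
    ⟨fun e => hH.1 (by rw [← cm, e, comap_top]), fun X hX => by
      have := hH.2 (X.comap π) (cm.ge.trans_lt ((comap_lt_comap_of_surjective hπ).2 hX))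
      rw [← map_comap_eq_self_of_surjective hπ X, this, map_top_of_surjective _ hπ]⟩
    (by
      have : ((H.map π).normalCore).comap π ≤ H.normalCore :=
        normal_le_normalCore.2 ((comap_mono (normalCore_le _)).trans cm.le)
      rw [← map_comap_eq_self_of_surjective hπ (H.map π).normalCore, Subgroup.map_eq_bot_iff, QuotientGroup.ker_mk']
      exact this)
  have key : ∀ g g' : L, (g : L ⧸ H) = g' → π g ∈ D → π g' ∈ D := fun g g' e hg => by
    have := h1 _ hg _ (mem_map_of_mem π (QuotientGroup.eq.1 e))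
    rwa [← map_mul, mul_inv_cancel_left] at this
  refine ⟨{ω | π ω.out ∈ D}, fun t ht ω => ?_⟩
  have t1 : π t = 1 := h2 _ fun g hg => by
    obtain ⟨g, rfl⟩ := hπ g
    have := ht g (key _ _ (QuotientGroup.out_eq' _).symm hg)
    rw [← map_mul]
    exact key _ _ (QuotientGroup.out_eq' _) this
  have t2 : t ∈ H.normalCore := by rwa [← QuotientGroup.ker_mk' H.normalCore]
  rw [normalCore_eq_ker] at t2
  exact Equiv.congr_fun t2 ω

section
variable {G : Type u} [Group G] [Finite G] {V A U W H K M B : Subgroup G}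

theorem uniq {ι : Type*} [DecidableEq ι] [Fintype ι] {f : ι → Subgroup G} (hV : Abel V)
    (h : ∀ i (s : Finset ι), i ∉ s → f i ⊓ s.sup f = ⊥) (x : ι → V) (hx : ∀ i, (x i : G) ∈ f i) :
    letI : CommGroup V := { (inferInstance : Group V) with mul_comm := fun a b => Subtype.ext (comm_of_cent hV a.2 b.2) }
    ∏ i, x i = 1 → ∀ i, x i = 1 := by
  letI : CommGroup V := { (inferInstance : Group V) with mul_comm := fun a b => Subtype.ext (comm_of_cent hV a.2 b.2) }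
  intro e i
  rw [← Finset.mul_prod_erase _ _ (Finset.mem_univ i)] at e
  have m : ∏ j ∈ Finset.univ.erase i, x j ∈ ((Finset.univ.erase i).sup f).subgroupOf V :=
    Subgroup.prod_mem _ fun j hj => Finset.le_sup (f := f) hj (hx j)
  rw [← inv_eq_of_mul_eq_one_right e, inv_mem_iff] at m
  exact Subtype.ext (eq_one_of_eq_bot (h i _ (Finset.notMem_erase _ _)) ⟨hx i, m⟩)

theorem span_cj (hm : MinNorm V A) (hU : U ≤ V) (h0 : U ≠ ⊥) : ⨆ a : A, cj (a : G) U = V := by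
  refine hm.min _ (iSup_le fun a => cj_le_of_mem_N hU (hm.norm a.2)) (fun e => h0 ?_) fun g hg => ?_
  · have := le_iSup (fun a : A => cj (a : G) U) 1
    rw [e] at this
    simpa using this
  · refine mem_N_of_cj_le ?_
    rw [cj_iSup]
    refine iSup_le fun a => ?_
    rw [cj_cj]
    exact le_iSup (fun a : A => cj (a : G) U) (⟨g, hg⟩ * a)

theorem imprim (ih : IH.{u} (Nat.card V)) (hV : Abel V) (hm : MinNorm V A) (ho : Odd (Nat.card A))
    (hH : H ⋖ A) (hU : U ≤ V) (h0 : U ≠ ⊥) (hn : H ≤ N(U))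
    (hd : U ⊓ ⨆ a : {a : G // a ∈ A ∧ a ∉ H}, cj a.1 U = ⊥) : ∃ v w, Reg V A v w := by
  classical
  set R := ⨆ a : {a : G // a ∈ A ∧ a ∉ H}, cj a.1 U with hR
  have HA : H ≤ A := hH.le
  have RV : R ≤ V := iSup_le fun a => cj_le_of_mem_N hU (hm.norm a.2.1)
  have leR : ∀ a ∈ A, a ∉ H → cj a U ≤ R := fun a h1 h2 =>
    le_iSup (fun a : {a : G // a ∈ A ∧ a ∉ H} => cj a.1 U) ⟨a, h1, h2⟩
  have mU : MinNorm U H := ⟨h0, hn, fun X h1 h2 h3 => by
    have : V ≤ X ⊔ R := by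
      rw [← span_cj hm (h1.trans hU) h2]
      refine iSup_le fun a => ?_
      by_cases e : (a : G) ∈ H
      · rw [cj_eq_self (h3 e)]; exact le_sup_left
      · exact ((cj_mono h1).trans (leR a a.2 e)).trans le_sup_right
    have n2 : Nrm2 X R := Or.inl ((h1.trans hU).trans (hV.norm RV))
    have e := n2.modular h1
    rw [inf_eq_right.2 (hU.trans this), inf_comm, hd, sup_bot_eq] at e
    exact e.symm⟩
  have lt : U < V := lt_of_le_of_ne hU fun e => by
    obtain ⟨a, ha, aH⟩ := SetLike.exists_of_lt hH.lt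
    have := leR a ha aH
    rw [e, cj_eq_self (hm.norm ha)] at this
    exact h0 (eq_bot_iff.2 (hd ▸ le_inf le_rfl (hU.trans this)))
  have oH : Odd (Nat.card H) := ho.of_dvd_nat (card_dvd HA)
  obtain ⟨v, w, r⟩ := ih G U H (card_lt lt) (hV.mono hU) hn oH (CR.of_min mU)
  obtain ⟨v, w, v', w', r, r', nc⟩ := two oH h0 r
  let ι := A ⧸ H.subgroupOf A
  haveI : Fintype ι := Fintype.ofFinite _
  let o : ι → G := fun ω => ((Quotient.out ω : A) : G)
  have oA : ∀ ω, o ω ∈ A := fun ω => (Quotient.out ω : A).2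
  let f : ι → Subgroup G := fun ω => cj (o ω) U
  have fV : ∀ ω, f ω ≤ V := fun ω => cj_le_of_mem_N hU (hm.norm (oA ω))
  have ind : ∀ i (s : Finset ι), i ∉ s → f i ⊓ s.sup f = ⊥ := fun i s hi => by
    rw [← cj_eq_bot (g := (o i)⁻¹), cj_inf, eq_bot_iff, ← hd]
    refine inf_le_inf (by simp [f]) ?_
    rw [cj_le_iff]
    refine Finset.sup_le fun j hj => ?_
    rw [← cj_le_iff, cj_cj]
    refine leR _ (mul_mem (inv_mem (oA i)) (oA j)) fun e => hi ?_
    have : i = j := by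
      rw [← i.out_eq', ← j.out_eq']
      exact QuotientGroup.eq.2 e
    exact this ▸ hj
  have idx : (H.subgroupOf A).index < Nat.card V := by
    have h1 := card_sup hV fV ind Finset.univ
    simp only [f, card_cj, Finset.prod_const, Finset.card_univ] at h1
    have h2 : Nat.card ↥(Finset.univ.sup f) ≤ Nat.card V := card_le (Finset.sup_le fun i _ => fV i)
    rw [h1, ← Nat.card_eq_fintype_card] at h2
    exact (Nat.lt_pow_self (one_lt_card h0)).trans_le h2
  obtain ⟨D, hD⟩ := gluck ih idx ho (coatom_iff_covBy.2 (by rwa [subgroupOf_map_subtype, inf_eq_left.2 HA]))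
  have hh : ∀ (t : A) (ω : ι), (o (t • ω))⁻¹ * t * o ω ∈ H := fun t ω => by
    have : ((t • ω).out : A)⁻¹ * (t * ω.out) ∈ H.subgroupOf A :=
      QuotientGroup.eq.1 ((QuotientGroup.out_eq' _).trans (MulAction.Quotient.mk_smul_out _ t ω).symm)
    rw [mul_assoc]; exact this
  letI : CommGroup V := { (inferInstance : Group V) with mul_comm := fun a b => Subtype.ext (comm_of_cent hV a.2 b.2) }
  let P : (y : ι → G) → (∀ ω, y ω ∈ U) → V := fun y hy =>
    ∏ ω, (⟨o ω * y ω * (o ω)⁻¹, fV ω (conj_mem_cj (hy ω))⟩ : V)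
  have key : ∀ (y : ι → G) (hy : ∀ ω, y ω ∈ U) (t : A), (t : G) * (P y hy : G) * (t : G)⁻¹ = P y hy → ∀ ω,
      ((o (t • ω))⁻¹ * t * o ω) * y ω * ((o (t • ω))⁻¹ * t * o ω)⁻¹ = y (t • ω) := by
    intro y hy t e ω
    let φ : V ≃* V := actf V ⟨t, hm.norm t.2⟩
    have hφ : ∀ x : V, (φ x : G) = t * x * (t : G)⁻¹ := fun x => rfl
    let x : ι → V := fun ω => ⟨o ω * y ω * (o ω)⁻¹, fV ω (conj_mem_cj (hy ω))⟩
    have e1 : φ (∏ ω, x ω) = ∏ ω, x ω := Subtype.ext e
    have := uniq hV ind (fun ω => φ (x (t⁻¹ • ω)) * (x ω)⁻¹) (fun ω => by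
      refine mul_mem ?_ (inv_mem (conj_mem_cj (hy ω)))
      have h1 := conj_mem hn (hh t (t⁻¹ • ω)) (hy (t⁻¹ • ω))
      rw [smul_inv_smul] at h1
      rw [mem_cj, hφ]
      convert h1 using 1
      simp only [x]; group) (by
      rw [Finset.prod_mul_distrib, Finset.prod_inv_distrib, ← map_prod,
        show ∏ ω, x (t⁻¹ • ω) = ∏ ω, x ω from Equiv.prod_comp (MulAction.toPerm t⁻¹) x, e1, mul_inv_cancel])
      (t • ω)
    rw [inv_smul_smul, mul_inv_eq_one] at this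
    have h2 := congrArg Subtype.val this
    rw [hφ] at h2
    simp only [x] at h2
    calc _ = (o (t • ω))⁻¹ * (t * (o ω * y ω * (o ω)⁻¹) * (t : G)⁻¹) * o (t • ω) := by group
      _ = _ := by rw [h2]; group
  let y : ι → G := fun ω => if ω ∈ D then v else v'
  let z : ι → G := fun ω => if ω ∈ D then w else w'
  have hy : ∀ ω, y ω ∈ U := fun ω => by simp only [y]; split_ifs; exacts [r.1, r'.1]
  have hz : ∀ ω, z ω ∈ U := fun ω => by simp only [z]; split_ifs; exacts [r.2.1, r'.2.1]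
  refine ⟨P y hy, P z hz, (P y hy).2, (P z hz).2, fun a ha e1 e2 => ?_⟩
  have k1 := key y hy ⟨a, ha⟩ e1
  have k2 := key z hz ⟨a, ha⟩ e2
  have fx := hD ⟨a, ha⟩ fun ω hω => by
    by_contra e
    refine nc _ (hh ⟨a, ha⟩ ω) ?_ ?_
    · simpa only [y, if_pos hω, if_neg e] using k1 ω
    · simpa only [z, if_pos hω, if_neg e] using k2 ω
  have cf : ∀ ω, a ∈ C(f ω) := fun ω => by
    have h1 := hh ⟨a, ha⟩ ω
    have h2 := k1 ω
    have h3 := k2 ω
    rw [fx] at h1 h2 h3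
    have : (o ω)⁻¹ * a * o ω ∈ C(U) := by
      by_cases e : ω ∈ D
      · simp only [y, z, if_pos e] at h2 h3; exact r.2.2 _ h1 h2 h3
      · simp only [y, z, if_neg e] at h2 h3; exact r'.2.2 _ h1 h2 h3
    simp only [f]
    rwa [← cj_C, mem_cj]
  rw [← span_cj hm hU h0]
  refine zpowers_le.1 (cent_iSup fun g => zpowers_le.2 ?_)
  obtain ⟨h, e⟩ := QuotientGroup.mk_out_eq_mul (H.subgroupOf A) g
  have := cf (QuotientGroup.mk g)
  simp only [f, o] at this
  rwa [e, coe_mul, cj_mul, cj_eq_self (g := ((h : A) : G)) (hn h.2)] at this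

theorem noncyc (ih : IH.{u} (Nat.card V)) (hV : Abel V) (hm : MinNorm V A) (ho : Odd (Nat.card A))
    (hf : A ⊓ C(V) = ⊥) (hM : M ⊴ A) (aM : Abel M) (hc : ¬ Cyc M) : ∃ v w, Reg V A v w := by
  classical
  obtain ⟨B, BM, h1, h2, g, hg, h3⟩ := exists_hyp hV hm.ne_bot aM (hM.le.trans hm.norm)
  have nB : ¬ A ≤ A ⊓ N(B) := fun e => by
    have := hm.min _ inf_le_left h1 (norm_inf hm.norm (norm_C (e.trans inf_le_right)))
    have b0 : B = ⊥ := eq_bot_iff.2 (hf ▸ le_inf (BM.trans hM.le) (cent_symm (this ▸ inf_le_right)))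
    rw [b0, sup_bot_eq] at h3
    exact hc (cyc_zpowers.of_le h3)
  obtain ⟨H, SH, hH⟩ := exists_le_covBy_of_lt (lt_of_le_not_ge inf_le_left nB)
  let ι := {X : Subgroup G // ∃ a ∈ A, X = cj a B}
  haveI : Fintype ι := Fintype.ofFinite _
  let f : ι → Subgroup G := fun X => V ⊓ C(X.1)
  have ιM : ∀ X : ι, X.1 ≤ M := by
    rintro ⟨_, a, ha, rfl⟩
    exact cj_le_of_mem_N BM (hM.norm ha)
  have ind := indep (f := f) (M := M) hV (fun _ => inf_le_left)
    (fun X => norm_inf (hM.le.trans hm.norm) (norm_C (aM.norm (ιM X)))) (by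
      rintro ⟨_, a, ha, rfl⟩ ⟨_, b, hb, rfl⟩ ne
      have : ¬ cj b B ≤ cj a B := fun e => ne (Subtype.ext (eq_of_card_eq e (by simp)).symm)
      obtain ⟨u, hu, un⟩ := SetLike.not_le_iff_exists.1 this
      have uM := ιM ⟨_, b, hb, rfl⟩ hu
      refine ⟨u, uM, cent_symm inf_le_right hu, ?_⟩
      have := h2 _ (conj_mem' hM.norm ha uM) (mem_cj.not.1 un)
      rw [← cj_eq_bot (g := a), cj_inf, cj_inf, cj_C, cj_C1, cj_eq_self (hm.norm ha)] at this
      simpa [mul_assoc] using this)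
  let s : Finset ι := Finset.univ.filter fun X => ∃ h ∈ H, X.1 = cj h B
  have cjf : ∀ a (ha : a ∈ A) (X : ι), ∃ Y : ι, Y.1 = cj a X.1 ∧ cj a (f X) = f Y := by
    rintro a ha ⟨_, b, hb, rfl⟩
    exact ⟨⟨cj a (cj b B), a * b, mul_mem ha hb, cj_cj⟩, rfl, by
      simp only [f]; rw [cj_inf, cj_C, cj_eq_self (hm.norm ha)]⟩
  refine imprim ih hV hm ho hH (U := s.sup f) (Finset.sup_le fun _ _ => inf_le_left) (fun e => h1 ?_)
    (fun h hh => mem_N_of_cj_le ?_) ?_
  · have := Finset.le_sup (f := f) (s := s) (b := ⟨B, 1, one_mem _, by simp⟩) (by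
      simp only [s, Finset.mem_filter, Finset.mem_univ, true_and]; exact ⟨1, one_mem _, by simp⟩)
    exact eq_bot_iff.2 (e ▸ this)
  · rw [cj_le_iff]
    refine Finset.sup_le fun X hX => ?_
    rw [← cj_le_iff]
    obtain ⟨Y, e1, e2⟩ := cjf h (hH.le hh) X
    rw [e2]
    refine Finset.le_sup ?_
    simp only [s, Finset.mem_filter, Finset.mem_univ, true_and] at hX ⊢
    obtain ⟨k, hk, e⟩ := hX
    exact ⟨h * k, mul_mem hh hk, by rw [e1, e, cj_cj]⟩
  · rw [eq_bot_iff, ← indep2 hV (fun _ => inf_le_left) ind s sᶜ disjoint_compl_right]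
    refine inf_le_inf_left _ (iSup_le fun a => ?_)
    rw [cj_le_iff]
    refine Finset.sup_le fun X hX => ?_
    rw [← cj_le_iff]
    obtain ⟨Y, e1, e2⟩ := cjf a a.2.1 X
    rw [e2]
    refine Finset.le_sup ?_
    simp only [s, Finset.mem_compl, Finset.mem_filter, Finset.mem_univ, true_and] at hX ⊢
    obtain ⟨k, hk, e⟩ := hX
    rintro ⟨h, hh, e'⟩
    have : h⁻¹ * (a * k) ∈ H := SH (mem_inf.2 ⟨mul_mem (inv_mem (hH.le hh)) (mul_mem a.2.1 (hH.le hk)),
      mem_N_iff_cj.2 (by rw [cj_mul, cj_mul, ← e, ← e1, e', cj_inv_cj])⟩)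
    exact a.2.2 (by simpa using mul_mem (mul_mem hh this) (inv_mem hk))

end

end H21.Rb
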