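import Cfsg.Agent.H21.Rb1
import Cfsg.Agent.H21.Extra

/-! Regular pairs, primitive case: the structure `St V A Z E` (`Z` maximal abelian normal and cyclic, `E / Z` the
socle of `C_A(Z) / Z`), blocks (`St.blocks`) and bounds for fixed points (`vander`, `St.fix1`, `St.fix2`,
`St.fix3`). -/

set_option autoImplicit false

namespace H21.Rb
open Subgroup Cfsg H18
open scoped commutatorElement

variable {G : Type*} [Group G] [Finite G] {V A U W H K M B Z E X : Subgroup G} {v w a b x y z u : G}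

theorem soc_abel {S : Set (Subgroup G)} (hs : Solv A) (h : ∀ X ∈ S, MinNorm X A ∧ X ≤ A) : Abel (sSup S) :=
  sSup_le fun X hX => cent_sSup fun Y hY => by
    by_cases e : X = Y
    · exact e ▸ (h X hX).1.abel (hs.of_le (h X hX).2)
    · refine cent_of_inf_eq_bot ((h X hX).2.trans (h Y hY).1.norm) ((h Y hY).2.trans (h X hX).1.norm) ?_
      refine ((h X hX).1.le_or_disj (h Y hY).1.norm).resolve_left fun l => e ?_
      exact (h Y hY).1.min X l (h X hX).1.ne_bot (h X hX).1.norm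

theorem soc_cr {S : Set (Subgroup G)} (ha : Abel (sSup S)) (h : ∀ X ∈ S, MinNorm X A) : CR (sSup S) A := by
  intro U hU hn
  obtain ⟨W, -, ⟨h1, h2, h3⟩, hW⟩ := exists_maximal_sub (A := ⊥)
    (fun W => W ≤ sSup S ∧ A ≤ N(W) ∧ U ⊓ W = ⊥) ⟨bot_le, by simp, inf_bot_eq _⟩
  refine ⟨W, h1, h2, h3, le_antisymm (sup_le hU h1) (sSup_le fun X hX => ?_)⟩
  refine ((h X hX).le_or_disj (norm_sup hn h2)).resolve_right fun e => (h X hX).ne_bot ?_
  have := hW (W ⊔ X) ⟨sup_le h1 (le_sSup hX), norm_sup h2 (h X hX).norm, eq_bot_iff.2 fun u hu => ?_⟩ le_sup_left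
  · exact eq_bot_iff.2 (e ▸ le_inf le_rfl ((le_sup_right.trans this.le).trans le_sup_right))
  obtain ⟨w, hw, x, hx, e1⟩ := (mem_sup_of_cent (cent_mono ha h1 (le_sSup hX))).1 hu.2
  have : x = 1 := eq_one_of_eq_bot e (mem_inf.2 ⟨hx, by
    rw [show x = w⁻¹ * u by rw [e1]; group]
    exact mul_mem (inv_mem (mem_sup_right hw)) (mem_sup_left hu.1)⟩)
  rw [this, mul_one] at e1
  exact h3 ▸ mem_inf.2 ⟨hu.1, e1 ▸ hw⟩

structure St (V A Z E : Subgroup G) : Prop where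
  abV : Abel V
  min : MinNorm V A
  odd : Odd (Nat.card A)
  faith : A ⊓ C(V) = ⊥
  nZ : Z ⊴ A
  cyc : Cyc Z
  mx : ∀ X, X ⊴ A → Abel X → Z ≤ X → X = Z
  nE : E ⊴ A
  ZE : Z ≤ E
  EC : E ≤ C(Z)
  der : ⁅E, E⁆ ≤ Z
  soc : ∀ X, X ⊴ A → X ≤ C(Z) → X ⊓ E ≤ Z → X ≤ Z
  cr : CR (E ⫽ Z) (A ⫽ Z)

theorem exists_st (hV : Abel V) (hm : MinNorm V A) (ho : Odd (Nat.card A)) (hs : Solv A) (hf : A ⊓ C(V) = ⊥)
    (hc : ∀ M, M ⊴ A → Abel M → Cyc M) : ∃ Z E, St V A Z E := by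
  obtain ⟨Z, -, ⟨nZ, aZ⟩, hZ⟩ := exists_maximal_sub (A := ⊥) (fun X => X ⊴ A ∧ Abel X) ⟨Nml.bot, abel_bot⟩
  have nC : Z ⊴ A ⊓ C(Z) := nZ.of_le (le_inf nZ.le aZ) inf_le_left
  let S : Set (Subgroup (Coset Z)) := {X | MinNorm X (A ⫽ Z) ∧ X ≤ (A ⊓ C(Z)) ⫽ Z}
  have ab : Abel (sSup S) := soc_abel hs.mim fun X hX => ⟨hX.1, hX.2.trans (mim_mono inf_le_left)⟩
  have SC : sSup S ≤ (A ⊓ C(Z)) ⫽ Z := sSup_le fun X hX => hX.2
  have nE : qpre Z (sSup S) ⊴ A :=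
    nml_qpre nZ ⟨SC.trans (mim_mono inf_le_left), norm_sSup fun X hX => hX.1.norm⟩
  refine ⟨Z, qpre Z (sSup S), hV, hm, ho, hf, nZ, hc Z nZ aZ, fun X h1 h2 h3 => hZ X ⟨h1, h2⟩ h3, nE, le_qpre,
    (qpre_le_of_le nC SC).trans inf_le_right, (abel_quo_iff qpre_le).1 (by rwa [quo_qpre]), fun X h1 h2 h3 => ?_,
    by rw [quo_qpre]; exact soc_cr ab fun X hX => hX.1⟩
  rw [← quo_eq_bot_iff (h1.le.trans nZ.norm)]
  by_contra e
  obtain ⟨Y, YX, hY⟩ := exists_minNorm e (mim_norm h1.norm)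
  refine hY.ne_bot (eq_bot_iff.2 ?_)
  rw [← quo_eq_bot h3, quo_inf nml_qpre_self, quo_qpre]
  exact le_inf YX (le_sSup ⟨hY, YX.trans (mim_mono (le_inf h1.le h2))⟩)

theorem vdm {W : Type*} [CommGroup W] (a b c : W →* W) (ab : ∀ t, a (b t) = b (a t)) (ac : ∀ t, a (c t) = c (a t))
    (i1 : ∀ t, a t = b t → t = 1) (i2 : ∀ t, a t = c t → t = 1) (i3 : ∀ t, b t = c t → t = 1) {x y z : W}
    (h1 : x * a y * a (a z) = 1) (h2 : x * b y * b (b z) = 1) (h3 : x * c y * c (c z) = 1) : y = 1 ∧ z = 1 := by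
  have k : ∀ d : W →* W, (∀ t, a (d t) = d (a t)) → (∀ t, a t = d t → t = 1) → x * d y * d (d z) = 1 →
      y * a z * d z = 1 := fun d ad i h => i _ (by
    rw [map_mul, map_mul, map_mul, map_mul, ad]
    have e1 : a y * a (a z) = x⁻¹ := (inv_eq_of_mul_eq_one_right ((mul_assoc x _ _).symm.trans h1)).symm
    have e2 : d y * d (d z) = x⁻¹ := (inv_eq_of_mul_eq_one_right ((mul_assoc x _ _).symm.trans h)).symm
    rw [e1, mul_right_comm, e2])
  have z1 : z = 1 := i3 z (mul_left_cancel ((k b ab i1 h2).trans (k c ac i2 h3).symm))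
  have := k b ab i1 h2
  rw [z1] at this
  exact ⟨by simpa using this, z1⟩

theorem vander (hV : Abel V) (hn : A ≤ N(V)) (ho : Odd (Nat.card A)) (nZ : Z ⊴ A) (aZ : Abel Z)
    (sr : Semireg V Z) (hx : x ∈ A) (hy : y ∈ A) (yC : y ∈ C(Z)) (h1 : ⁅x, y⁆ ∈ Z) (h2 : ⁅x, y⁆ ≠ 1) :
    Nat.card ↥(V ⊓ C1(x)) ^ 3 ≤ Nat.card V := by
  letI : CommGroup V := { (inferInstance : Group V) with mul_comm := fun a b => Subtype.ext (comm_of_cent hV a.2 b.2) }
  set X := V ⊓ C1(x) with hX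
  let φ : (z : G) → z ∈ Z → V →* V := fun z hz => (actf V ⟨z * y, hn (mul_mem (nZ.le hz) hy)⟩ : V ≃* V)
  have hφ : ∀ z hz (t : V), (φ z hz t : G) = z * y * t * (z * y)⁻¹ := fun _ _ _ => rfl
  have cm : ∀ z hz z' hz' t, φ z hz (φ z' hz' t) = φ z' hz' (φ z hz t) := fun z hz z' hz' t => Subtype.ext (by
    have e : z * y * (z' * y) = z' * y * (z * y) := by
      rw [mul_assoc z, ← mul_assoc y, ← mem_C.1 yC z' hz', mul_assoc z' y (z * y), ← mul_assoc y z,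
        ← mem_C.1 yC z hz, ← mul_assoc, ← mul_assoc, ← mul_assoc, ← mul_assoc, comm_of_cent aZ hz hz']
    simp only [hφ]
    calc _ = z * y * (z' * y) * t * (z * y * (z' * y))⁻¹ := by group
      _ = _ := by rw [e]; group)
  have inj : ∀ z hz z' hz', z ≠ z' → ∀ t, φ z hz t = φ z' hz' t → t = 1 := fun z hz z' hz' ne t e => by
    have e1 : z * y * t * (z * y)⁻¹ = z' * y * t * (z' * y)⁻¹ := congrArg Subtype.val e
    have := eq_one_of_eq_bot (sr (z'⁻¹ * z) (mul_mem (inv_mem hz') hz) fun e => ne (inv_mul_eq_one.1 e).symm)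
      (x := y * t * y⁻¹) (mem_inf.2 ⟨conj_mem hn hy t.2, C1_iff.2 (by
        calc _ = z'⁻¹ * (z * y * t * (z * y)⁻¹) * z' := by group
          _ = _ := by rw [e1]; group)⟩)
    exact Subtype.ext (conj_eq_one_iff'.1 this)
  set z := ⁅x, y⁆ with hz
  have z2 : x * z * x⁻¹ * z ∈ Z := mul_mem (conj_mem nZ.norm hx h1) h1
  have y1 : z * y = x * y * x⁻¹ := by rw [hz, commutatorElement_def]; group
  have y2 : x * z * x⁻¹ * z * y = x * (x * y * x⁻¹) * x⁻¹ := by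
    calc _ = x * z * x⁻¹ * (x * y * x⁻¹) := by rw [mul_assoc _ z y, y1]
      _ = x * (z * y) * x⁻¹ := by group
      _ = _ := by rw [y1]
  have n1 : 1 ≠ x * z * x⁻¹ * z := fun e => h2 (by
    rw [← e, one_mul] at y2
    have : x ∈ C1(y) := mem_of_pow ho hx 1 (mem_C1_comm.1 (C1_iff.2 (by
      conv_rhs => rw [y2]
      simp [sq, mul_assoc])))
    exact commutatorElement_eq_one_iff_mul_comm.2 (mem_C1.1 this))
  have n2 : z ≠ x * z * x⁻¹ * z := fun e => h2 (conj_eq_one_iff'.1 (right_eq_mul.1 e))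
  have core : ∀ a ∈ X, ∀ b ∈ X, ∀ c ∈ X, a * (y * b * y⁻¹) * (y * (y * c * y⁻¹) * y⁻¹) = 1 → b = 1 ∧ c = 1 := by
    intro a ha b hb c hc e
    have fa := C1_iff.1 ha.2
    have fb := C1_iff.1 hb.2
    have fc := C1_iff.1 hc.2
    have step : ∀ s : G, a * (s * b * s⁻¹) * (s * (s * c * s⁻¹) * s⁻¹) = 1 →
        a * (x * s * x⁻¹ * b * (x * s * x⁻¹)⁻¹) *
          (x * s * x⁻¹ * (x * s * x⁻¹ * c * (x * s * x⁻¹)⁻¹) * (x * s * x⁻¹)⁻¹) = 1 := fun s e => by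
      conv_lhs => rw [← fa, ← fb, ← fc]
      calc _ = x * (a * (s * b * s⁻¹) * (s * (s * c * s⁻¹) * s⁻¹)) * x⁻¹ := by group
        _ = 1 := by rw [e]; group
    have := vdm (φ 1 (one_mem _)) (φ z h1) (φ _ z2) (cm _ (one_mem _) _ h1) (cm _ (one_mem _) _ z2)
      (inj _ (one_mem _) _ h1 h2.symm) (inj _ (one_mem _) _ z2 n1) (inj _ h1 _ z2 n2) (x := ⟨a, ha.1⟩) (y := ⟨b, hb.1⟩) (z := ⟨c, hc.1⟩)
      (Subtype.ext (by simp only [coe_mul, hφ, one_mul]; exact e))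
      (Subtype.ext (by simp only [coe_mul, hφ, y1]; exact step y e))
      (Subtype.ext (by simp only [coe_mul, hφ, y2]; exact step _ (step y e)))
    exact ⟨congrArg Subtype.val this.1, congrArg Subtype.val this.2⟩
  have XV : X ≤ V := inf_le_left
  have X1 : cj y X ≤ V := cj_le_of_mem_N XV (hn hy)
  have X2 : cj y (cj y X) ≤ V := cj_le_of_mem_N X1 (hn hy)
  have d1 : X ⊓ cj y X = ⊥ := eq_bot_iff.2 fun t ht => by
    obtain ⟨b, hb, e⟩ := mem_cj'.1 ht.2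
    have := (core t⁻¹ (inv_mem (mem_inf.1 ht).1) b hb 1 (one_mem _) (by rw [← e]; group)).1
    rw [mem_bot, e, this]; group
  have d2 : (X ⊔ cj y X) ⊓ cj y (cj y X) = ⊥ := eq_bot_iff.2 fun t ht => by
    obtain ⟨a, ha, b', hb', e⟩ := (mem_sup_of_cent (cent_mono hV XV X1)).1 ht.1
    obtain ⟨b, hb, rfl⟩ := mem_cj'.1 hb'
    obtain ⟨c', hc', e'⟩ := mem_cj'.1 ht.2
    obtain ⟨c, hc, rfl⟩ := mem_cj'.1 hc'
    have := (core a ha b hb c⁻¹ (inv_mem hc) (by rw [← e, e']; group)).2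
    rw [mem_bot, e', inv_eq_one.1 this]; group
  have := card_le (sup_le (sup_le XV X1) X2)
  rw [card_sup_of_cent (cent_mono hV (sup_le XV X1) X2) d2, card_sup_of_cent (cent_mono hV XV X1) d1,
    card_cj (H := cj y X), card_cj] at this
  calc _ = Nat.card X * Nat.card X * Nat.card X := by ring
    _ ≤ _ := this

namespace St
variable (c : St V A Z E)
include c

omit [Finite G] in
theorem abZ : Abel Z := c.cyc.abel

theorem semireg : Semireg V Z := fun z hz z1 => by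
  have nz : A ≤ N(zpowers z) := c.cyc.norm_sub (zpowers_le.2 hz) c.nZ.norm
  refine (c.min.eq_bot_or inf_le_left (norm_inf c.min.norm (C_zpowers (x := z) ▸ norm_C nz))).resolve_right
    fun e => z1 (eq_one_of_eq_bot c.faith ⟨c.nZ.le hz, le_C1_iff.1 (e ▸ inf_le_right)⟩)

omit [Finite G] in
theorem ZE_eq : E ⊓ C(E) = Z :=
  c.mx _ (c.nE.Z) (abel_Z (H := E)) (le_inf c.ZE (cent_symm c.EC))

omit [Finite G] in
theorem CE_le : A ⊓ C(E) ≤ Z :=
  c.soc _ c.nE.cent (inf_le_right.trans (C_anti c.ZE))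
    (c.ZE_eq ▸ le_inf inf_le_right (inf_le_left.trans inf_le_right))

omit [Finite G] in
theorem cm (hx : x ∈ E) (hy : y ∈ E) : ⁅x, y⁆ ∈ Z := c.der (commutator_mem_commutator hx hy)

omit [Finite G] in
theorem cmm (hx : x ∈ E) (hy : y ∈ E) (hu : u ∈ E) : Commute u ⁅x, y⁆ :=
  (mem_C.1 (c.EC hu) _ (c.cm hx hy)).symm

omit [Finite G] in
theorem cpair (hM : M ≤ E) (hB : B ≤ E) : CPair M B Z :=
  ⟨c.cyc, fun _ ha _ hb => c.cm (hM ha) (hB hb), cent_symm (hM.trans c.EC), cent_symm (hB.trans c.EC)⟩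

theorem cent_quo : (A ⊓ C(Z)) ⫽ Z ⊓ C(E ⫽ Z) = E ⫽ Z := by
  set D := A ⊓ C(Z) ⊓ qpre Z C(E ⫽ Z) with hD
  have EN : E ≤ N(Z) := c.nE.le.trans c.nZ.norm
  have DA : D ≤ A := inf_le_left.trans inf_le_left
  have DC : D ≤ C(Z) := inf_le_left.trans inf_le_right
  have ED : E ≤ D := le_inf (le_inf c.nE.le c.EC) ((mim_le_iff EN).1 ((abel_quo_iff EN).2 c.der))
  have cD : ⁅D, E⁆ ≤ Z := (comm_le_iff_quo (DA.trans c.nZ.norm) EN).2
    ((mim_le_iff (DA.trans c.nZ.norm)).2 inf_le_right)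
  have cp : CPair D E Z := ⟨c.cyc, fun a ha b hb => cD (commutator_mem_commutator ha hb), cent_symm DC,
    cent_symm c.EC⟩
  have e1 := cp.relIndex_eq
  have e2 : D ⊓ C(E) = Z := le_antisymm ((inf_le_inf_right _ DA).trans c.CE_le)
    (le_inf (c.ZE.trans ED) (cent_symm c.EC))
  rw [← relIndex_inf_left, e2] at e1
  have e3 : C(D).relIndex E ≤ Z.relIndex E := Nat.le_of_dvd relIndex_pos (relIndex_dvd_left (cent_symm DC))
  have : E = D := eq_of_card_ge ED (by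
    rw [← card_mul_relIndex (c.ZE.trans ED), ← card_mul_relIndex c.ZE, e1]
    exact Nat.mul_le_mul_left _ e3)
  rw [← mim_inf_mpre, ← hD, ← this]

theorem exists_comm (hx : x ∈ A) (xC : x ∈ C(Z)) (xE : x ∉ E) : ∃ y ∈ E, ⁅x, y⁆ ∉ Z := by
  by_contra h
  push Not at h
  have EN : E ≤ N(Z) := c.nE.le.trans c.nZ.norm
  refine xE (mem_of_cs_mem (c.nZ.norm hx) (c.nZ.of_le c.ZE c.nE.le) ?_)
  rw [← c.cent_quo]
  refine mem_inf.2 ⟨mfun_mem_mim (mem_inf.2 ⟨hx, xC⟩), mem_C.2 fun t ht => ?_⟩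
  obtain ⟨y, hy, rfl⟩ := (mem_quo EN).1 ht
  have := cs_eq_one (h y hy)
  rw [mfun_comm (c.nZ.norm hx) (EN hy)] at this
  exact (commutatorElement_eq_one_iff_mul_comm.1 this).symm

theorem index_le : Z.relIndex (A ⊓ C(Z)) ≤ Z.relIndex E * C(E ⫽ Z).relIndex (A ⫽ Z) := by
  have EC : E ≤ A ⊓ C(Z) := le_inf c.nE.le c.EC
  rw [← relIndex_tower c.ZE EC, ← relIndex_quo EC (inf_le_left.trans c.nZ.norm) c.ZE]
  refine Nat.mul_le_mul_left _ (Nat.le_of_dvd relIndex_pos ?_)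
  have n1 : A ⫽ Z ⊓ C(E ⫽ Z) ⊴ A ⫽ Z := nml_cent (mim_norm c.nE.norm)
  have := n1.relIndex_dvd (H := (A ⊓ C(Z)) ⫽ Z) (mim_mono inf_le_left)
  rwa [relIndex_inf_left, ← relIndex_inf_left, ← inf_assoc, inf_eq_left.2 (mim_mono inf_le_left),
    c.cent_quo] at this

theorem pow_card (hu : u ∈ E) : u ^ Nat.card Z = 1 := by
  set n := Nat.card Z with hn
  have on : Odd n := c.odd.of_dvd_nat (card_dvd c.nZ.le)
  have EN : E ≤ N(Z) := c.nE.le.trans c.nZ.norm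
  have hm : ∀ x ∈ E, ∀ y ∈ E, (x * y) ^ n = x ^ n * y ^ n := fun x hx y hy => by
    obtain ⟨k, hk⟩ := on
    have : n.choose 2 = n * k := by
      rw [Nat.choose_two_right, show n * (n - 1) = 2 * (n * k) by rw [hk, Nat.add_sub_cancel]; ring]; simp
    rw [mul_pow_class_two (c.cmm hy hx hx) (c.cmm hy hx hy), this, pow_mul, pow_card_eq_one_of_mem (c.cm hy hx),
      one_pow, mul_one]
  have pz : ∀ x ∈ E, x ^ n ∈ Z := fun x hx => c.ZE_eq ▸ mem_inf.2 ⟨pow_mem hx _, mem_C.2 fun y hy => by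
    rw [eq_comm, ← commutatorElement_eq_one_iff_mul_comm, comm_pow_left (c.cmm hx hy hx),
      pow_card_eq_one_of_mem (c.cm hx hy)]⟩
  let F : Subgroup G :=
    { carrier := {x | x ∈ E ∧ x ^ n = 1}
      mul_mem' := fun {x y} hx hy => ⟨mul_mem hx.1 hy.1, by rw [hm x hx.1 y hy.1, hx.2, hy.2, mul_one]⟩
      one_mem' := ⟨one_mem _, one_pow _⟩
      inv_mem' := fun {x} hx => ⟨inv_mem hx.1, by rw [inv_pow, hx.2, inv_one]⟩ }
  have FE : F ≤ E := fun x hx => hx.1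
  have ZF : Z ≤ F := fun x hx => ⟨c.ZE hx, pow_card_eq_one_of_mem hx⟩
  have nF : A ≤ N(F) := norm_iff.2 fun a ha x hx => ⟨conj_mem c.nE.norm ha hx.1, by
    rw [conj_pow, hx.2]; group⟩
  obtain ⟨W, h1, h2, h3, h4⟩ := c.cr (F ⫽ Z) (mim_mono FE) (mim_norm nF)
  have YE : qpre Z W ≤ E := qpre_le_of_le (c.nZ.of_le c.ZE c.nE.le) h1
  have YF : ∀ x ∈ qpre Z W, x ∈ F → x ∈ Z := fun x hx hf => (cs_eq_one_iff (qpre_le hx)).1
    (eq_one_of_eq_bot h3 (mem_inf.2 ⟨mfun_mem_mim hf, (mem_mpre.1 hx).2⟩))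
  have aY : Abel (qpre Z W) := by
    haveI := c.cyc
    let f : qpre Z W →* Z := MonoidHom.mk' (fun x => ⟨(x : G) ^ n, pz _ (YE x.2)⟩) fun x y =>
      Subtype.ext (hm _ (YE x.2) _ (YE y.2))
    have := commutative_of_cyclic_center_quotient f fun x hx => mem_center_iff.2 fun y => Subtype.ext
      (mem_C.1 (c.EC (YE y.2)) _ (YF _ x.2 ⟨YE x.2, congrArg Subtype.val hx⟩)).symm
    exact cent_iff.2 fun a ha b hb => congrArg Subtype.val (this ⟨a, ha⟩ ⟨b, hb⟩)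
  have := c.mx _ (nml_qpre c.nZ ⟨h1.trans (mim_mono c.nE.le), h2⟩) aY le_qpre
  rw [← quo_qpre (U := W), this, quo_self, sup_bot_eq] at h4
  exact (le_of_quo_le EN (c.nZ.of_le ZF (FE.trans c.nE.le)) h4.ge hu).2

theorem prime_dvd {r : ℕ} (hr : r.Prime) (h : r ∣ Z.relIndex E) : r ∣ Nat.card Z := by
  have EN : E ≤ N(Z) := c.nE.le.trans c.nZ.norm
  rw [← card_quo EN] at h
  obtain ⟨t, ht, e⟩ := cauchy hr h
  obtain ⟨y, hy, rfl⟩ := (mem_quo EN).1 ht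
  rw [← e, orderOf_dvd_iff_pow_eq_one, ← mfun_pow (EN hy), c.pow_card hy, mfun_one]

theorem blocks : ∃ k Q : ℕ, Z.relIndex E = k ^ 2 ∧ Q ^ k ≤ Nat.card V ∧ Nat.card Z ∣ Q - 1 ∧ 1 < Q ∧
    ∃ p j : ℕ, p.Prime ∧ Q = p ^ j := by
  classical
  obtain ⟨M, ZM, hM⟩ := exists_max_abel c.abZ c.ZE
  have ME : M ≤ E := hM.ge.trans inf_le_left
  have aM : Abel M := hM.ge.trans inf_le_right
  have EV : E ≤ N(V) := c.nE.le.trans c.min.norm
  have EM : E ≤ N(M) := norm_of_der_le (c.der.trans ZM) ME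
  have CM : ∀ X, X ≤ E → X ⊓ C(E) = X ⊓ Z := fun X hX => le_antisymm
    (le_inf inf_le_left (c.ZE_eq ▸ inf_le_inf_right _ hX)) (inf_le_inf_left _ (cent_symm c.EC))
  have e1 := (c.cpair le_rfl ME).relIndex_eq
  rw [← relIndex_inf_left, hM, ← relIndex_inf_left (A := C(E)), CM M ME, relIndex_inf_left] at e1
  obtain ⟨B, BM, h1, h2, g, hg, h3⟩ := exists_hyp c.abV c.min.ne_bot aM (ME.trans EV)
  have BZ : B ⊓ Z = ⊥ := by
    by_contra e
    exact h1 (eq_bot_iff.2 (c.semireg.cent inf_le_right e ▸ inf_le_inf_left _ (C_anti inf_le_left)))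
  have cB : Nat.card B = Z.relIndex M := by
    have k1 : Nat.card M ≤ Nat.card Z * Nat.card B := by
      have n2 : Nrm2 (zpowers g) B := Or.inl ((zpowers_le.2 hg).trans (aM.norm BM))
      refine (card_le h3).trans ((Nat.le_of_dvd (Nat.mul_pos card_pos' card_pos') n2.card_sup_dvd).trans ?_)
      refine Nat.mul_le_mul_right _ ?_
      rw [card_zpowers']
      exact Nat.le_of_dvd card_pos' (orderOf_dvd_of_pow_eq_one (c.pow_card (ME hg)))
    have k2 := card_le (sup_le ZM BM)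
    rw [card_sup_of_cent (cent_mono aM ZM BM) (inf_comm B Z ▸ BZ)] at k2
    have k3 := card_mul_relIndex ZM
    exact Nat.eq_of_mul_eq_mul_left (card_pos' (H := Z)) ((le_antisymm k2 k1).trans k3.symm)
  have e2 := (c.cpair (BM.trans ME) le_rfl).relIndex_eq
  rw [← relIndex_inf_left, CM B (BM.trans ME), BZ, relIndex_bot_left, cB] at e2
  let ι := E ⧸ C(B).subgroupOf E
  haveI : Fintype ι := Fintype.ofFinite _
  let o : ι → G := fun ω => ((Quotient.out ω : E) : G)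
  have oE : ∀ ω, o ω ∈ E := fun ω => (Quotient.out ω : E).2
  let f : ι → Subgroup G := fun ω => V ⊓ C(cj (o ω) B)
  have ind := indep (f := f) (M := M) c.abV (fun _ => inf_le_left)
    (fun ω => norm_inf (ME.trans EV) (norm_C (aM.norm (cj_le_of_mem_N BM (EM (oE ω)))))) (by
      intro i j ne
      have : ¬ cj (o j) B ≤ cj (o i) B := fun e => ne (by
        rw [← i.out_eq', ← j.out_eq']
        refine QuotientGroup.eq.2 (mem_subgroupOf.2 (mem_C.2 fun b hb => ?_))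
        have m1 : (o i)⁻¹ * o j ∈ E := mul_mem (inv_mem (oE i)) (oE j)
        have m2 : (o i)⁻¹ * o j * b * ((o i)⁻¹ * o j)⁻¹ ∈ B := by
          have := mem_cj.1 (e (conj_mem_cj hb))
          convert this using 1
          group
        exact (commutatorElement_eq_one_iff_mul_comm.1 (eq_one_of_eq_bot BZ
          (mem_inf.2 ⟨mul_mem m2 (inv_mem hb), c.cm m1 (ME (BM hb))⟩))).symm)
      obtain ⟨u, hu, un⟩ := SetLike.not_le_iff_exists.1 this
      have uM := cj_le_of_mem_N BM (EM (oE j)) hu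
      refine ⟨u, uM, cent_symm inf_le_right hu, ?_⟩
      have := h2 _ (conj_mem' EM (oE i) uM) (mem_cj.not.1 un)
      rw [← cj_eq_bot (g := o i), cj_inf, cj_inf, cj_C, cj_C1, cj_eq_self (EV (oE i))] at this
      simpa [mul_assoc] using this)
  have k1 := card_sup c.abV (f := f) (fun _ => inf_le_left) ind Finset.univ
  have k2 : ∀ ω, Nat.card (f ω) = Nat.card ↥(V ⊓ C(B)) := fun ω => by
    rw [← card_cj (g := o ω) (H := V ⊓ C(B)), cj_inf, cj_C, cj_eq_self (EV (oE ω))]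
  simp only [k2, Finset.prod_const, Finset.card_univ] at k1
  obtain ⟨p, hp, -, eV⟩ := c.min.exists_elem c.abV.solv
  obtain ⟨j, hj⟩ := ((eV.pi hp).of_le (inf_le_left : V ⊓ C(B) ≤ V)).card_eq_pow
  refine ⟨Z.relIndex M, Nat.card ↥(V ⊓ C(B)), by rw [← relIndex_tower ZM ME, e1, sq], ?_,
    (c.semireg.mono inf_le_left le_rfl).dvd_pred (norm_inf (c.ZE.trans EV) (norm_C ((ZM.trans (aM.norm BM))))),
    one_lt_card h1, p, j, hp, hj⟩
  rw [e2, relIndex, index_eq_card, Nat.card_eq_fintype_card (α := ι), ← k1]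
  exact card_le (Finset.sup_le fun _ _ => inf_le_left)

theorem fix1 (hx : x ∈ E) (xZ : x ∉ Z) : Nat.card ↥(V ⊓ C1(x)) ^ 3 ≤ Nat.card V := by
  have : x ∉ C(E) := fun e => xZ (c.ZE_eq ▸ mem_inf.2 ⟨hx, e⟩)
  rw [mem_C] at this
  push Not at this
  obtain ⟨y, hy, e⟩ := this
  exact vander c.abV c.min.norm c.odd c.nZ c.abZ c.semireg (c.nE.le hx) (c.nE.le hy) (c.EC hy) (c.cm hx hy)
    fun h => e (commutatorElement_eq_one_iff_mul_comm.1 h).symm

theorem fix2 (hx : x ∈ A) (xC : x ∉ C(Z)) : Nat.card ↥(V ⊓ C1(x)) ^ 3 ≤ Nat.card V := by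
  rw [mem_C] at xC
  push Not at xC
  obtain ⟨y, hy, e⟩ := xC
  exact vander c.abV c.min.norm c.odd c.nZ c.abZ c.semireg hx (c.nZ.le hy) (c.abZ hy)
    (mul_mem (conj_mem c.nZ.norm hx hy) (inv_mem hy))
    fun h => e (commutatorElement_eq_one_iff_mul_comm.1 h).symm

theorem fix3 (hx : x ∈ A) (xC : x ∈ C(Z)) (xZ : x ∉ Z) : Nat.card ↥(V ⊓ C1(x)) ^ 3 ≤ Nat.card V ^ 2 := by
  by_cases xE : x ∈ E
  · exact (c.fix1 xE xZ).trans (Nat.le_self_pow two_ne_zero _)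
  obtain ⟨y, hy, e⟩ := c.exists_comm hx xC xE
  have uE : ⁅x, y⁆ ∈ E := mul_mem (conj_mem c.nE.norm hx hy) (inv_mem hy)
  have h1 := c.fix1 uE e
  have yV : y ∈ N(V) := c.min.norm (c.nE.le hy)
  have h2 := card_mul_le (A := V ⊓ C1(x)) (B := cj y (V ⊓ C1(x))) (H := V) inf_le_left
    (cj_le_of_mem_N inf_le_left yV)
  have h3 : V ⊓ C1(x) ⊓ cj y (V ⊓ C1(x)) ≤ V ⊓ C1(⁅x, y⁆) := fun t ht => by
    refine mem_inf.2 ⟨ht.1.1, mem_C1_comm.1 ?_⟩
    have := ht.2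
    rw [cj_inf, cj_C1] at this
    rw [show ⁅x, y⁆ = x * (y * x * y⁻¹)⁻¹ by rw [commutatorElement_def]; group]
    exact mul_mem (mem_C1_comm.1 ht.1.2) (inv_mem (mem_C1_comm.1 (mem_inf.1 this).2))
  rw [card_cj] at h2
  have h4 := h2.trans (Nat.mul_le_mul_right _ (card_le h3))
  refine (Nat.pow_le_pow_iff_left two_ne_zero).1 ?_
  calc _ = (Nat.card ↥(V ⊓ C1(x)) * Nat.card ↥(V ⊓ C1(x))) ^ 3 := by ring
    _ ≤ _ := Nat.pow_le_pow_left h4 3
    _ ≤ Nat.card V * Nat.card V ^ 3 := by rw [mul_pow]; exact Nat.mul_le_mul_right _ h1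
    _ = _ := by ring

end St

end H21.Rb
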