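import Cfsg.Agent.H21.Rb3
import Cfsg.Agent.H21.Blk

/-! Regular pairs, primitive case: counting the pairs with nontrivial stabilizer (`St.count`), completely reducible
groups of odd order on groups of order `9` and `81` (`small9`, `small81`), the numerical estimates (`arith`). -/

set_option autoImplicit false

namespace H21.Rb
open Subgroup Cfsg H18
open scoped commutatorElement

variable {G : Type*} [Group G] [Finite G] {V A U W H K M B Z E X : Subgroup G} {v w a b x y z u : G}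

theorem half {L : Type*} [Group L] [Fintype L] (r : L → ℕ) (T : Subgroup L) (s : Finset L)
    (hs : ∀ x ∈ s, x ∈ T ∧ r x < r x⁻¹) : 2 * s.card ≤ Nat.card T := by
  classical
  have d : Disjoint s (s.image fun x => x⁻¹) := Finset.disjoint_left.2 fun x hx hx' => by
    obtain ⟨y, hy, rfl⟩ := Finset.mem_image.1 hx'
    have h1 := (hs _ hx).2
    have h2 := (hs _ hy).2
    rw [inv_inv] at h1
    omega
  have h1 := Finset.card_union_of_disjoint d
  rw [Finset.card_image_of_injective _ inv_injective] at h1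
  have h2 : (s ∪ s.image fun x => x⁻¹).card ≤ (Finset.univ.filter fun x => x ∈ T).card :=
    Finset.card_le_card fun x hx => by
      rw [Finset.mem_filter]
      rcases Finset.mem_union.1 hx with h | h
      · exact ⟨Finset.mem_univ _, (hs x h).1⟩
      · obtain ⟨y, hy, rfl⟩ := Finset.mem_image.1 h
        exact ⟨Finset.mem_univ _, inv_mem (hs y hy).1⟩
  rw [← Fintype.card_subtype, ← Nat.card_eq_fintype_card] at h2
  omega

theorem St.count (c : St V A Z E) (hne : ¬ A ≤ Z) {a b : ℕ}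
    (ha : ∀ x ∈ A, x ∈ C(Z) → x ∉ Z → Nat.card ↥(V ⊓ C1(x)) ≤ a)
    (hb : ∀ x ∈ A, x ∉ C(Z) → Nat.card ↥(V ⊓ C1(x)) ≤ b) (no : ¬ ∃ v w, Reg V A v w) :
    2 * Nat.card V ^ 2 ≤ Z.relIndex (A ⊓ C(Z)) * (a ^ 2 + Nat.card Z * Nat.card V) +
      Z.relIndex A * (Nat.card Z * b ^ 2) := by
  classical
  haveI : Fintype (Coset Z) := Fintype.ofFinite _
  haveI : Fintype V := Fintype.ofFinite _
  haveI : Fintype Z := Fintype.ofFinite _
  have AN : A ≤ N(Z) := c.nZ.norm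
  have nC : Z ⊴ A ⊓ C(Z) := c.nZ.of_le (le_inf c.nZ.le c.abZ) inf_le_left
  let r : Coset Z → ℕ := fun x => Fintype.equivFin _ x
  have hr : Function.Injective r := fun x y e => (Fintype.equivFin _).injective (Fin.ext e)
  have : ∀ ω : Coset Z, ∃ x, ω ∈ A ⫽ Z → x ∈ A ∧ cs Z x = ω := fun ω => by
    by_cases h : ω ∈ A ⫽ Z
    · obtain ⟨x, hx⟩ := (mem_quo AN).1 h
      exact ⟨x, fun _ => hx⟩
    · exact ⟨1, fun e => absurd e h⟩
  choose ρ hρ using this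
  let d : G → ℕ := fun x => Nat.card ↥(V ⊓ C1(x))
  let F : G → Finset V := fun x => Finset.univ.filter fun t => (t : G) ∈ C1(x)
  have cF : ∀ x, (F x).card = d x := fun x => by
    simp only [F, d]
    rw [← Fintype.card_subtype, ← Nat.card_eq_fintype_card, ← card_subgroupOf (inf_le_left : V ⊓ C1(x) ≤ V),
      inf_subgroupOf_left]
    rfl
  let S : Coset Z → Finset (V × V) := fun ω => Finset.univ.biUnion fun z : Z => F (ρ ω * z) ×ˢ F (ρ ω * z)
  have cS : ∀ ω, (S ω).card ≤ ∑ z : Z, d (ρ ω * z) ^ 2 := fun ω =>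
    Finset.card_biUnion_le.trans (Finset.sum_le_sum fun z _ => by rw [Finset.card_product, cF, sq])
  let P := Finset.univ.filter fun ω : Coset Z => ω ∈ (A ⊓ C(Z)) ⫽ Z ∧ r ω < r ω⁻¹
  let Q := Finset.univ.filter fun ω : Coset Z => (ω ∈ A ⫽ Z ∧ r ω < r ω⁻¹) ∧ ω ∉ (A ⊓ C(Z)) ⫽ Z
  have cP := half r ((A ⊓ C(Z)) ⫽ Z) P fun x hx => (Finset.mem_filter.1 hx).2
  have cQ := half r (A ⫽ Z) Q fun x hx => (Finset.mem_filter.1 hx).2.1
  rw [card_quo (inf_le_left.trans AN)] at cP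
  rw [card_quo AN] at cQ
  have csz : ∀ ω ∈ A ⫽ Z, ∀ z : Z, ρ ω * z ∈ A ∧ cs Z (ρ ω * z) = ω := fun ω h z =>
    ⟨mul_mem (hρ ω h).1 (c.nZ.le z.2), by
      rw [mfun_mul (AN (hρ ω h).1) (le_N z.2), cs_eq_one z.2, mul_one, (hρ ω h).2]⟩
  have cov : (Finset.univ : Finset (V × V)) ⊆ P.biUnion S ∪ Q.biUnion S := by
    rintro ⟨v, w⟩ -
    have k1 : ∃ x ∈ A, x ∉ Z ∧ (v : G) ∈ C1(x) ∧ (w : G) ∈ C1(x) := by
      by_contra h
      push Not at h
      refine no ⟨v, w, v.2, w.2, fun a ha h1 h2 => ?_⟩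
      by_contra aC
      have aZ : a ∈ Z := by
        by_contra e
        exact h a ha e (C1_iff.2 h1) (C1_iff.2 h2)
      have a1 : a ≠ 1 := fun e => aC (e ▸ one_mem _)
      have v1 := eq_one_of_eq_bot (c.semireg a aZ a1) (mem_inf.2 ⟨v.2, C1_iff.2 h1⟩)
      have w1 := eq_one_of_eq_bot (c.semireg a aZ a1) (mem_inf.2 ⟨w.2, C1_iff.2 h2⟩)
      obtain ⟨x, hx, xZ⟩ := SetLike.not_le_iff_exists.1 hne
      exact h x hx xZ (v1 ▸ one_mem _) (w1 ▸ one_mem _)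
    have k2 : ∃ x ∈ A, r (cs Z x) < r (cs Z x)⁻¹ ∧ (v : G) ∈ C1(x) ∧ (w : G) ∈ C1(x) := by
      obtain ⟨x, hx, xZ, h1, h2⟩ := k1
      have ne : (cs Z x)⁻¹ ≠ cs Z x := fun e => xZ ((cs_eq_one_iff (AN hx)).1
        (eq_one_of_inv (c.odd.of_dvd_nat card_mim_dvd) (mfun_mem_mim hx) e))
      rcases lt_or_gt_of_ne (hr.ne ne) with h | h
      · exact ⟨x⁻¹, inv_mem hx, by rwa [mfun_inv (AN hx), inv_inv], by rwa [C1_inv], by rwa [C1_inv]⟩
      · exact ⟨x, hx, h, h1, h2⟩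
    obtain ⟨x, hx, h, h1, h2⟩ := k2
    have hω := hρ _ (mfun_mem_mim (f := coset Z) hx)
    have hz : (ρ (cs Z x))⁻¹ * x ∈ Z := (cs_eq_iff (AN hω.1) (AN hx)).1 hω.2
    have m : (v, w) ∈ S (cs Z x) := Finset.mem_biUnion.2 ⟨⟨_, hz⟩, Finset.mem_univ _, by
      simp only [F, mul_inv_cancel_left, Finset.mem_product, Finset.mem_filter, Finset.mem_univ, true_and]
      exact ⟨h1, h2⟩⟩
    by_cases e : cs Z x ∈ (A ⊓ C(Z)) ⫽ Z
    · exact Finset.mem_union_left _ (Finset.mem_biUnion.2 ⟨_, Finset.mem_filter.2 ⟨Finset.mem_univ _, e, h⟩, m⟩)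
    · exact Finset.mem_union_right _ (Finset.mem_biUnion.2
        ⟨_, Finset.mem_filter.2 ⟨Finset.mem_univ _, ⟨mfun_mem_mim hx, h⟩, e⟩, m⟩)
  have bP : ∀ ω ∈ P, (S ω).card ≤ a ^ 2 + Nat.card Z * Nat.card V := fun ω hω => by
    obtain ⟨-, h1, h2⟩ := Finset.mem_filter.1 hω
    have h3 := csz ω (mim_mono inf_le_left h1)
    obtain ⟨z0, -, h0⟩ := Finset.exists_max_image Finset.univ (fun z : Z => d (ρ ω * z)) ⟨1, Finset.mem_univ _⟩
    refine (cS ω).trans ?_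
    rw [← Finset.add_sum_erase _ _ (Finset.mem_univ z0)]
    refine Nat.add_le_add (Nat.pow_le_pow_left (ha _ (h3 z0).1
      (mem_of_cs_mem (AN (h3 z0).1) nC ((h3 z0).2.symm ▸ h1)).2 fun e => ?_) 2) ?_
    · rw [← (h3 z0).2, cs_eq_one e, inv_one] at h2
      exact lt_irrefl _ h2
    refine (Finset.sum_le_card_nsmul _ _ (Nat.card V) fun z hz => ?_).trans ?_
    · have k := card_mul_le (A := V ⊓ C1(ρ ω * z)) (B := V ⊓ C1(ρ ω * z0)) (H := V) inf_le_left inf_le_left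
      have e : V ⊓ C1(ρ ω * z) ⊓ (V ⊓ C1(ρ ω * z0)) = ⊥ := by
        rw [eq_bot_iff, ← c.semireg ((z : G)⁻¹ * z0) (mul_mem (inv_mem z.2) z0.2)
          fun e => Finset.ne_of_mem_erase hz (Subtype.ext (inv_mul_eq_one.1 e))]
        intro t ht
        refine mem_inf.2 ⟨ht.1.1, mem_C1_comm.1 ?_⟩
        rw [show (z : G)⁻¹ * z0 = (ρ ω * z)⁻¹ * (ρ ω * z0) by group]
        exact mul_mem (inv_mem (mem_C1_comm.1 ht.1.2)) (mem_C1_comm.1 ht.2.2)
      rw [e, card_bot, one_mul] at k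
      exact (sq (d _)).le.trans ((Nat.mul_le_mul_left _ (h0 z (Finset.mem_univ _))).trans k)
    · rw [smul_eq_mul, Nat.card_eq_fintype_card (α := Z)]
      exact Nat.mul_le_mul_right _ (Finset.card_le_univ _)
  have bQ : ∀ ω ∈ Q, (S ω).card ≤ Nat.card Z * b ^ 2 := fun ω hω => by
    obtain ⟨-, ⟨h1, -⟩, h2⟩ := Finset.mem_filter.1 hω
    have h3 := csz ω h1
    refine (cS ω).trans ((Finset.sum_le_card_nsmul _ _ (b ^ 2) fun z _ => Nat.pow_le_pow_left
      (hb _ (h3 z).1 fun e => h2 ((h3 z).2 ▸ mfun_mem_mim (mem_inf.2 ⟨(h3 z).1, e⟩))) 2).trans ?_)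
    rw [smul_eq_mul, Nat.card_eq_fintype_card (α := Z), Finset.card_univ]
  have h1 := (Finset.card_le_card cov).trans (Finset.card_union_le _ _)
  rw [Finset.card_univ, Fintype.card_prod, ← Nat.card_eq_fintype_card, ← sq] at h1
  have h2 := Finset.card_biUnion_le_card_mul _ _ _ bP
  have h3 := Finset.card_biUnion_le_card_mul _ _ _ bQ
  calc _ ≤ 2 * P.card * (a ^ 2 + Nat.card Z * Nat.card V) + 2 * Q.card * (Nat.card Z * b ^ 2) := by
        nlinarith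
    _ ≤ _ := Nat.add_le_add (Nat.mul_le_mul_right _ cP) (Nat.mul_le_mul_right _ cQ)

theorem St.reg_of_cent (c : St V A Z E) (h : A ⊓ C(Z) ≤ Z) : ∃ v w, Reg V A v w := by
  obtain ⟨v, hv, v1⟩ := exists_mem_ne_one' c.min.ne_bot
  obtain ⟨z, hz⟩ := c.cyc.gen
  have zZ : z ∈ Z := hz ▸ mem_zpowers z
  have k : ∀ y ∈ Z, y * v * y⁻¹ = v → y = 1 := fun y hy e => by
    by_contra y1
    exact v1 (eq_one_of_eq_bot (c.semireg y hy y1) (mem_inf.2 ⟨hv, C1_iff.2 e⟩))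
  refine ⟨v, z * v * z⁻¹, hv, conj_mem c.min.norm (c.nZ.le zZ) hv, fun a ha h1 h2 => ?_⟩
  have := k (z⁻¹ * (a * z * a⁻¹)) (mul_mem (inv_mem zZ) (conj_mem c.nZ.norm ha zZ)) (by
    conv_lhs => rw [← h1]
    calc _ = z⁻¹ * (a * (z * v * z⁻¹) * a⁻¹) * z := by group
      _ = _ := by rw [h2]; group)
  have aC : a ∈ C(Z) := by
    rw [← hz, C_zpowers, mem_C1_comm, C1_iff]
    exact (inv_mul_eq_one.1 this).symm
  rw [k a (h ⟨ha, aC⟩) h1]
  exact one_mem _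

theorem core_lift {r : ℕ} (hr : r.Prime) (hn : A ≤ N(W)) :
    ∃ R ≤ A, PiGrp {r} R ∧ A ≤ N(W ⊓ C(R)) ∧ (W ≤ C(R) → O[{r}](mim (actf W) A) = ⊥) := by
  haveI : Finite (MulAut W) := Finite.of_injective _ (DFunLike.coe_injective (F := MulAut W))
  obtain ⟨R, RX, hR, eR⟩ := exists_pGrp_lift hr hn (pcore_le (π := {r}) (H := mim (actf W) A)) pcore_pi
  set N := A ⊓ mpre (actf W) O[{r}](mim (actf W) A) with hN
  have nN : N ⊴ A := nml_inf_mpre hn pcore_nml.norm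
  have NR : N ≤ R ⊔ C(W) := by
    rw [← mker_actf, ← mim_le_mim_iff (nN.le.trans hn) (RX.trans hn), eR]
    exact (mim_mono inf_le_right).trans mim_mpre_le
  have e0 : W ⊓ C(R) = W ⊓ C(N) := le_antisymm (le_inf inf_le_left
    ((cent_sup inf_le_right (cent_symm (C_anti inf_le_left))).trans (C_anti NR)))
    (inf_le_inf_left _ (C_anti hR.le))
  exact ⟨R, RX, hR.pi, e0 ▸ norm_inf hn (norm_C nN.norm), fun e => by
    rw [← eR, mim_eq_bot_iff (RX.trans hn), mker_actf]; exact cent_symm e⟩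

theorem CR.pcore {p : ℕ} (h : CR W A) (hp : p.Prime) (hn : A ≤ N(W)) (hW : PiGrp {p} W) :
    O[{p}](mim (actf W) A) = ⊥ := by
  obtain ⟨R, RA, hR, h1, h2⟩ := core_lift hp hn
  obtain ⟨U, k1, k2, k3, k4⟩ := h _ inf_le_left h1
  have : U = ⊥ := by
    by_contra e
    exact hR.meet_cent (hW.of_le k1) (RA.trans k2) e
      (eq_bot_iff.2 (k3 ▸ le_inf (inf_le_inf_right _ k1) inf_le_left))
  rw [this, sup_bot_eq] at k4
  exact h2 (k4 ▸ inf_le_right)

theorem fix_lt {r p n : ℕ} {R : Subgroup G} (hr : r.Prime) (hp : p.Prime) (hR : PiGrp {r} R) (hn : R ≤ N(W))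
    (hc : Nat.card W = p ^ n) (h : ¬ W ≤ C(R)) :
    ∃ k < n, Nat.card ↥(W ⊓ C(R)) = p ^ k ∧ p ^ n ≡ p ^ k [MOD r] := by
  have m0 := Blk.fix hr hR hn
  have l0 := card_lt (lt_of_le_of_ne (inf_le_left : W ⊓ C(R) ≤ W) fun e => h (e ▸ inf_le_right))
  obtain ⟨k, -, ek⟩ := (Nat.dvd_prime_pow hp).1 (hc ▸ card_dvd (inf_le_left : W ⊓ C(R) ≤ W))
  rw [hc, ek] at m0 l0
  exact ⟨k, (Nat.pow_lt_pow_iff_right hp.one_lt).1 l0, ek, m0⟩

theorem small9 (h : CR W A) (hn : A ≤ N(W)) (ho : Odd (Nat.card A)) (hs : Solv A) (hc : Nat.card W = 3 ^ 2) :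
    C(W).relIndex A = 1 := by
  haveI : Finite (MulAut W) := Finite.of_injective _ (DFunLike.coe_injective (F := MulAut W))
  rw [← card_mim_actf hn, card_eq_one]
  by_contra e
  obtain ⟨r, hr, e⟩ := (hs.mim (f := actf W)).exists_pcore_ne_bot e
  have r2 : r ≠ 2 := by
    rintro rfl
    exact (Nat.not_even_iff_odd.2 ho) (even_iff_two_dvd.2
      (((pcore_pi.dvd_card e).trans (card_dvd pcore_le)).trans card_mim_dvd))
  have r3 : r ≠ 3 := by
    rintro rfl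
    exact e (h.pcore hr hn (piGrp_of_card_pow hr hc))
  obtain ⟨R, RA, hR, -, h2⟩ := core_lift hr hn
  obtain ⟨k, hk, -, m⟩ := fix_lt hr Nat.prime_three hR (RA.trans hn) hc fun e' => e (h2 e')
  have := (Nat.modEq_iff_dvd' (Nat.pow_le_pow_right (by norm_num) hk.le)).1 m.symm
  have hl := Nat.le_of_dvd (by interval_cases k <;> norm_num) this
  have := hr.two_le
  interval_cases k <;> norm_num at hl this <;> interval_cases r <;> simp_all (config := {decide := true})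

theorem small81 (h : CR W A) (hn : A ≤ N(W)) (ho : Odd (Nat.card A)) (hs : Solv A) (hW : Elem 3 W)
    (hc : Nat.card W = 3 ^ 4) : C(W).relIndex A ≤ 39 := by
  haveI : Finite (MulAut W) := Finite.of_injective _ (DFunLike.coe_injective (F := MulAut W))
  haveI : Fact (Nat.Prime 3) := ⟨Nat.prime_three⟩
  rw [← card_mim_actf hn]
  set Y := mim (actf W) A with hY
  have oY : Odd (Nat.card Y) := ho.of_dvd_nat card_mim_dvd
  have dY : Nat.card Y ∣ 65 * (2 ^ 9 * 3 ^ 6) := by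
    obtain ⟨ψ, hψ⟩ := H117.exists_aut_GL (fun x y : W => Subtype.ext (comm_of_cent hW.abel x.2 y.2))
      (fun x : W => Subtype.ext (hW.pow x x.2)) hc
    have := card_dvd_of_injective ψ hψ
    rw [Matrix.card_GL_field, ZMod.card] at this
    exact (card_subgroup_dvd_card Y).trans (this.trans (by decide))
  have n3 : ¬ 3 ∣ Nat.card F(Y) := fun e =>
    pcore_hall_fit.ne_bot_p Nat.prime_three e (h.pcore Nat.prime_three hn (hW.pi Nat.prime_three))
  have dF : Nat.card F(Y) ∣ 65 := Nat.Coprime.dvd_of_dvd_mul_right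
    (Nat.Coprime.mul_right (Nat.Coprime.pow_right _ (Nat.coprime_two_right.2 (oY.of_dvd_nat (card_dvd fit_le))))
      (Nat.Coprime.pow_right _ ((Nat.Prime.coprime_iff_not_dvd Nat.prime_three).2 n3).symm))
    ((card_dvd fit_le).trans dY)
  have n65 : Nat.card F(Y) ≠ 65 := fun e => by
    have p5 : Nat.Prime 5 := by norm_num
    have p13 : Nat.Prime 13 := by norm_num
    obtain ⟨R, RA, hR, -, h2⟩ := core_lift p5 hn
    obtain ⟨S, SA, hS, h3, h4⟩ := core_lift p13 hn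
    obtain ⟨k, hk, c1, m1⟩ := fix_lt p5 Nat.prime_three hR (RA.trans hn) hc fun e' =>
      pcore_hall_fit.ne_bot_p p5 (by rw [e]; norm_num) (h2 e')
    obtain ⟨j, hj, c2, m2⟩ := fix_lt p13 Nat.prime_three hS (SA.trans hn) hc fun e' =>
      pcore_hall_fit.ne_bot_p p13 (by rw [e]; norm_num) (h4 e')
    have k0 : k = 0 := by interval_cases k <;> first | rfl | (exact absurd m1 (by decide))
    have j1 : j = 1 := by interval_cases j <;> first | rfl | (exact absurd m2 (by decide))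
    subst k0 j1
    obtain ⟨i, hi, -, m3⟩ := fix_lt p5 Nat.prime_three hR (RA.trans h3) c2 fun e' => by
      have := card_le (le_inf inf_le_left e')
      omega
    interval_cases i
    exact absurd m3 (by decide)
  have hF : Nat.card F(Y) = 1 ∨ Nat.card F(Y) = 5 ∨ Nat.card F(Y) = 13 := by
    have := Nat.le_of_dvd (by norm_num) dF
    generalize Nat.card F(Y) = m at *
    interval_cases m <;> simp_all (config := {decide := true})
  have cF : Cyc F(Y) := by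
    rcases hF with e | e | e
    · exact card_eq_one.1 e ▸ cyc_bot
    · exact cyc_of_prime (by rw [e]; norm_num)
    · exact cyc_of_prime (by rw [e]; norm_num)
  have d1 := cF.relIndex_C_dvd fit_nml.norm
  have o1 : Odd (C(F(Y)).relIndex Y) := oY.of_dvd_nat relIndex_dvd
  have l1 := card_le (cent_sub_Fitting (hs.mim (f := actf W)))
  rw [← card_mul_relIndex' (A := C(F(Y))), inf_comm]
  have l2 : C(F(Y)).relIndex Y ≤ 3 := by
    have : C(F(Y)).relIndex Y ∣ 12 := by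
      rcases hF with e | e | e <;> rw [e] at d1 <;> exact d1.trans (by decide)
    have := Nat.le_of_dvd (by norm_num) this
    generalize C(F(Y)).relIndex Y = m at *
    interval_cases m <;> simp_all (config := {decide := true})
  have l3 : Nat.card F(Y) ≤ 13 := by omega
  exact (Nat.mul_le_mul (l1.trans l3) l2).trans (by norm_num)

theorem arith0 {t Q m z f l : ℝ} (hl : 0 < l) (hz : 0 ≤ z) (hf : 0 ≤ f) (hm : 0 ≤ m) (zQ : z ≤ Q) (fQ : f ≤ Q)
    (hQ : l * Q ≤ t) (h : m * (l ^ 2 + l + 1) < 2 * l ^ 2 * t ^ 2) (ht : 0 < t) :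
    m * ((t ^ 2) ^ 2 + z * t ^ 3) + m * f * (z * t ^ 2) < 2 * (t ^ 3) ^ 2 := by
  have h1 : l * z ≤ t := (mul_le_mul_of_nonneg_left zQ hl.le).trans hQ
  have h2 : l * f ≤ t := (mul_le_mul_of_nonneg_left fQ hl.le).trans hQ
  have h3 : (l * f) * (l * z) ≤ t * t := mul_le_mul h2 h1 (by positivity) ht.le
  have h4 : l ^ 2 * (t ^ 2 + z * t + f * z) ≤ (l ^ 2 + l + 1) * t ^ 2 := by
    nlinarith [mul_le_mul_of_nonneg_right h1 (mul_pos hl ht).le]
  have h5 : l ^ 2 * (m * (t ^ 2 + z * t + f * z)) < l ^ 2 * (2 * t ^ 4) := by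
    calc _ = m * (l ^ 2 * (t ^ 2 + z * t + f * z)) := by ring
      _ ≤ m * ((l ^ 2 + l + 1) * t ^ 2) := mul_le_mul_of_nonneg_left h4 hm
      _ = m * (l ^ 2 + l + 1) * t ^ 2 := by ring
      _ < 2 * l ^ 2 * t ^ 2 * t ^ 2 := mul_lt_mul_of_pos_right h (by positivity)
      _ = _ := by ring
  have h6 := lt_of_mul_lt_mul_left h5 (by positivity)
  calc _ = m * (t ^ 2 + z * t + f * z) * t ^ 2 := by ring
    _ < 2 * t ^ 4 * t ^ 2 := mul_lt_mul_of_pos_right h6 (by positivity)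
    _ = _ := by ring

/-- the final estimate -/
theorem arith {n Q k m z f a b l : ℕ} (hl : 0 < l) (zQ : z ≤ Q) (fQ : f ≤ Q) (hn : Q ^ k ≤ n) (ha : a ^ 3 ≤ n ^ 2)
    (hb : b ^ 3 ≤ n) (h1 : (l * Q) ^ 3 ≤ Q ^ k) (h2 : (m * (l ^ 2 + l + 1)) ^ 3 < (2 * l ^ 2) ^ 3 * (Q ^ k) ^ 2) :
    m * (a ^ 2 + z * n) + m * f * (z * b ^ 2) < 2 * n ^ 2 := by
  have n0 : 0 < n := by
    rcases Nat.eq_zero_or_pos n with rfl | h
    · rw [Nat.le_zero.1 hn] at h2; simp at h2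
    · exact h
  obtain ⟨t, ht, e⟩ : ∃ t : ℝ, 0 < t ∧ t ^ 3 = n :=
    ⟨(n : ℝ) ^ ((3 : ℕ)⁻¹ : ℝ), by positivity, Real.rpow_inv_natCast_pow (by positivity) (by norm_num)⟩
  have k1 : (a : ℝ) ≤ t ^ 2 := le_of_pow_le_pow_left₀ three_ne_zero (by positivity) (by
    rw [← pow_mul, mul_comm, pow_mul, e]; exact_mod_cast ha)
  have k2 : (b : ℝ) ≤ t := le_of_pow_le_pow_left₀ three_ne_zero ht.le (by rw [e]; exact_mod_cast hb)
  have k3 : (l : ℝ) * Q ≤ t := le_of_pow_le_pow_left₀ three_ne_zero ht.le (by rw [e]; exact_mod_cast h1.trans hn)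
  have k4 : (m : ℝ) * (l ^ 2 + l + 1) < 2 * l ^ 2 * t ^ 2 := lt_of_pow_lt_pow_left₀ 3 (by positivity) (by
    rw [mul_pow _ (t ^ 2), ← pow_mul t, mul_comm 2 3, pow_mul, e]
    exact_mod_cast h2.trans_le (Nat.mul_le_mul_left _ (Nat.pow_le_pow_left hn 2)))
  have := arith0 (z := z) (f := f) (by exact_mod_cast hl) (by positivity) (by positivity) (by positivity)
    (by exact_mod_cast zQ) (by exact_mod_cast fQ) k3 k4 ht
  rw [e] at this
  have k5 : (m : ℝ) * (a ^ 2 + z * n) + m * f * (z * b ^ 2) ≤ m * ((t ^ 2) ^ 2 + z * n) + m * f * (z * t ^ 2) := by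
    gcongr
  exact_mod_cast k5.trans_lt this

theorem pow18 {k : ℕ} (hk : 17 ≤ k) : k ^ 18 ≤ 200 * 16 ^ k := by
  induction k, hk using Nat.le_induction with
  | base => norm_num
  | succ k hk ih =>
    have h1 : (17 * (k + 1)) ^ 18 ≤ (18 * k) ^ 18 := Nat.pow_le_pow_left (by omega) _
    rw [mul_pow, mul_pow] at h1
    rw [pow_succ 16]
    generalize (k + 1) ^ 18 = x at *
    generalize k ^ 18 = y at *
    generalize 16 ^ k = w at *
    norm_num at h1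
    omega

theorem arith2 {Q k m : ℕ} (hm : 4 * m ≤ k ^ 6) (h : (k = 5 ∧ 11 ≤ Q) ∨ (k = 7 ∧ 8 ≤ Q) ∨ (k = 9 ∧ 7 ≤ Q) ∨
    ((k = 11 ∨ k = 13 ∨ k = 15) ∧ 6 ≤ Q) ∨ (17 ≤ k ∧ 4 ≤ Q)) :
    ∃ l, 0 < l ∧ (l * Q) ^ 3 ≤ Q ^ k ∧ (m * (l ^ 2 + l + 1)) ^ 3 < (2 * l ^ 2) ^ 3 * (Q ^ k) ^ 2 := by
  have key : ∀ l q : ℕ, 3 ≤ k → q ≤ Q → l ^ 3 ≤ q ^ (k - 3) →
      (k ^ 6 * (l ^ 2 + l + 1)) ^ 3 < 4 ^ 3 * ((2 * l ^ 2) ^ 3 * (q ^ k) ^ 2) →
      (l * Q) ^ 3 ≤ Q ^ k ∧ (m * (l ^ 2 + l + 1)) ^ 3 < (2 * l ^ 2) ^ 3 * (Q ^ k) ^ 2 := fun l q h3 hq h1 h2 => by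
    constructor
    · rw [mul_pow, ← Nat.sub_add_cancel h3, pow_add]
      exact Nat.mul_le_mul_right _ (h1.trans (Nat.pow_le_pow_left hq _))
    · refine lt_of_mul_lt_mul_left (a := 4 ^ 3) ?_ (Nat.zero_le _)
      calc _ = (4 * m * (l ^ 2 + l + 1)) ^ 3 := by ring
        _ ≤ _ := Nat.pow_le_pow_left (Nat.mul_le_mul_right _ hm) 3
        _ < _ := h2
        _ ≤ _ := by gcongr
  rcases h with ⟨rfl, h⟩ | ⟨rfl, h⟩ | ⟨rfl, h⟩ | ⟨rfl | rfl | rfl, h⟩ | ⟨hk, h⟩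
  · exact ⟨4, by norm_num, key 4 11 (by norm_num) h (by norm_num) (by norm_num)⟩
  · exact ⟨16, by norm_num, key 16 8 (by norm_num) h (by norm_num) (by norm_num)⟩
  · exact ⟨4, by norm_num, key 4 7 (by norm_num) h (by norm_num) (by norm_num)⟩
  · exact ⟨4, by norm_num, key 4 6 (by norm_num) h (by norm_num) (by norm_num)⟩
  · exact ⟨4, by norm_num, key 4 6 (by norm_num) h (by norm_num) (by norm_num)⟩
  · exact ⟨4, by norm_num, key 4 6 (by norm_num) h (by norm_num) (by norm_num)⟩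
  · refine ⟨4, by norm_num, key 4 4 (by omega) h (Nat.pow_le_pow_right (by norm_num) (by omega)) ?_⟩
    have h1 := pow18 hk
    have h2 : (4 ^ k) ^ 2 = 16 ^ k := by rw [← pow_mul, mul_comm, pow_mul]; norm_num
    have h3 : 0 < 16 ^ k := by positivity
    rw [h2, mul_pow, ← pow_mul]
    generalize k ^ 18 = y at *
    generalize 16 ^ k = w at *
    norm_num
    omega

end H21.Rb
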