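import Cfsg.Agent.H21.Rb2
import Cfsg.Agent.H21.Rb4
import Cfsg.Agent.H1.Hol

/-! Regular pairs: a group of odd order acting completely reducibly on a finite abelian group has two elements whose
common stabilizer acts trivially (`main`, ambient form; `mod`, for an action `φ : A →* MulAut V`). -/

set_option autoImplicit false

namespace H21.Rb
open Subgroup Cfsg H18 H1
open scoped commutatorElement

universe u

section
variable {G : Type u} [Group G] [Finite G] {V A Z E : Subgroup G}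

theorem St.reg (c : St V A Z E) (ih : IH.{u} (Nat.card V)) : ∃ v w, Reg V A v w := by
  by_cases h0 : A ⊓ C(Z) ≤ Z
  · exact c.reg_of_cent h0
  by_contra no
  have EN : E ≤ N(Z) := c.nE.le.trans c.nZ.norm
  have EZ : ¬ E ≤ Z := fun e => h0 (c.soc _ c.nZ.cent inf_le_right (inf_le_right.trans e))
  obtain ⟨k, Q, hk, hQ, dQ, Q1, p, j, hp, eQ⟩ := c.blocks
  have oE : Odd (Z.relIndex E) := c.odd.of_dvd_nat (relIndex_dvd.trans (card_dvd c.nE.le))
  have ok : Odd k := by rw [hk] at oE; exact (Nat.odd_pow_iff two_ne_zero).1 oE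
  have k1 : k ≠ 1 := fun e => EZ (relIndex_eq_one_iff.1 (by rw [hk, e]; rfl))
  have pd : ∀ r : ℕ, r.Prime → r ∣ k → r ∣ Nat.card Z := fun r hr h =>
    c.prime_dvd hr (hk ▸ dvd_pow h two_ne_zero)
  have zQ : Nat.card Z ≤ Q - 1 := Nat.le_of_dvd (by omega) dQ
  have pQ : ∀ r : ℕ, r.Prime → r ∣ k → r < Q := fun r hr h => by
    have := Nat.le_of_dvd card_pos' (pd r hr h)
    omega
  have Q4 : 4 ≤ Q := by
    obtain ⟨r, hr, h⟩ := Nat.exists_prime_and_dvd k1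
    have h1 := pQ r hr h
    have h2 := hr.two_le
    have h3 : r ≠ 2 := fun e => (Nat.not_even_iff_odd.2 ok) (even_iff_two_dvd.2 (e ▸ h))
    omega
  have cW : Nat.card (E ⫽ Z) = k ^ 2 := by rw [card_quo EN, hk]
  have lt : k ^ 2 < Nat.card V := by
    have h1 : k < 2 ^ k := Nat.lt_two_pow_self
    calc k ^ 2 < (2 ^ k) ^ 2 := Nat.pow_lt_pow_left h1 two_ne_zero
      _ = 4 ^ k := by rw [← pow_mul, mul_comm, pow_mul]; norm_num
      _ ≤ _ := (Nat.pow_le_pow_left Q4 k).trans hQ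
  have aW : Abel (E ⫽ Z) := (abel_quo_iff EN).2 c.der
  have nW : A ⫽ Z ≤ N(E ⫽ Z) := mim_norm c.nE.norm
  have oA : Odd (Nat.card (A ⫽ Z)) := c.odd.of_dvd_nat card_mim_dvd
  obtain ⟨v, w, r⟩ := ih (Coset Z) (E ⫽ Z) (A ⫽ Z) (cW ▸ lt) aW nW oA c.cr
  have h4 := four nW oA (cW ▸ ok.pow) (fun e => EZ ((quo_eq_bot_iff EN).1 e)) r
  have hm := c.index_le
  rw [cW] at h4
  rw [hk] at hm
  classical
  haveI : Fintype G := Fintype.ofFinite _
  have mx : ∀ (P : G → Prop) (n : ℕ), (∀ x, P x → Nat.card ↥(V ⊓ C1(x)) ^ 3 ≤ n) →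
      ∃ a, a ^ 3 ≤ n ∧ ∀ x, P x → Nat.card ↥(V ⊓ C1(x)) ≤ a := fun P n h => by
    by_cases e : (Finset.univ.filter P).Nonempty
    · obtain ⟨x, hx, h1⟩ := Finset.exists_max_image _ (fun x => Nat.card ↥(V ⊓ C1(x))) e
      exact ⟨_, h x (Finset.mem_filter.1 hx).2, fun y hy => h1 y (Finset.mem_filter.2 ⟨Finset.mem_univ _, hy⟩)⟩
    · exact ⟨0, by simp, fun x hx => absurd ⟨x, Finset.mem_filter.2 ⟨Finset.mem_univ _, hx⟩⟩ e⟩
  obtain ⟨a, ha, ha'⟩ := mx (fun x => x ∈ A ∧ x ∈ C(Z) ∧ x ∉ Z) _ fun x hx => c.fix3 hx.1 hx.2.1 hx.2.2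
  obtain ⟨b, hb, hb'⟩ := mx (fun x => x ∈ A ∧ x ∉ C(Z)) _ fun x hx => c.fix2 hx.1 hx.2
  have cnt := c.count (fun e => h0 (inf_le_left.trans e)) (fun x h1 h2 h3 => ha' x ⟨h1, h2, h3⟩)
    (fun x h1 h2 => hb' x ⟨h1, h2⟩) no
  rw [← relIndex_tower (le_inf c.nZ.le c.abZ) (inf_le_left : A ⊓ C(Z) ≤ A), relIndex_inf_left] at cnt
  have hf : C(Z).relIndex A ≤ Q :=
    ((Nat.le_of_dvd (Nat.totient_pos.2 card_pos') (c.cyc.relIndex_C_dvd c.nZ.norm)).trans (Nat.totient_le _)).trans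
      (by omega)
  set m := Z.relIndex (A ⊓ C(Z))
  suffices ∃ l, 0 < l ∧ (l * Q) ^ 3 ≤ Q ^ k ∧ (m * (l ^ 2 + l + 1)) ^ 3 < (2 * l ^ 2) ^ 3 * (Q ^ k) ^ 2 by
    obtain ⟨l, h1, h2, h3⟩ := this
    exact absurd cnt (not_le.2 (arith h1 (by omega) hf hQ ha hb h2 h3))
  by_cases k3 : k = 3
  · subst k3
    rw [small9 c.cr nW oA (sol oA) cW] at hm
    refine ⟨1, one_pos, by simp, ?_⟩
    calc _ ≤ (9 * (1 ^ 2 + 1 + 1)) ^ 3 := by gcongr; omega
      _ < (2 * 1 ^ 2) ^ 3 * (4 ^ 3) ^ 2 := by norm_num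
      _ ≤ _ := by gcongr
  by_cases k9 : k = 9 ∧ Q = 4
  · obtain ⟨rfl, rfl⟩ := k9
    have z3 : Nat.card Z = 3 := Nat.dvd_antisymm dQ (pd 3 Nat.prime_three (by norm_num))
    have := small81 c.cr nW oA (sol oA) ⟨aW, fun t ht => by
      obtain ⟨y, hy, rfl⟩ := (mem_quo EN).1 ht
      rw [← mfun_pow (EN hy), ← z3, c.pow_card hy, mfun_one]⟩ cW
    refine ⟨16, by norm_num, by norm_num, ?_⟩
    calc _ ≤ (3159 * (16 ^ 2 + 16 + 1)) ^ 3 := by gcongr; omega
      _ < _ := by norm_num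
  refine arith2 (by nlinarith) ?_
  have d5 : 5 ∣ k → 5 ∣ Q - 1 := fun h => (pd 5 (by norm_num) h).trans dQ
  have d3 : 3 ∣ k → 3 ∣ Q - 1 := fun h => (pd 3 (by norm_num) h).trans dQ
  have l7 := pQ 7 (by norm_num)
  have l11 := pQ 11 (by norm_num)
  have l13 := pQ 13 (by norm_num)
  have Q6 : Q ≠ 6 := fun e => by
    have h2 : 2 ∣ p ^ j := by rw [← eQ, e]; norm_num
    have h3 : 3 ∣ p ^ j := by rw [← eQ, e]; norm_num
    have e2 := (Nat.prime_dvd_prime_iff_eq Nat.prime_two hp).1 (Nat.prime_two.dvd_of_dvd_pow h2)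
    have e3 := (Nat.prime_dvd_prime_iff_eq Nat.prime_three hp).1 (Nat.prime_three.dvd_of_dvd_pow h3)
    omega
  rw [Nat.odd_iff] at ok
  clear * - ok d5 d3 l7 l11 l13 Q6 Q4 k1 k3 k9
  by_cases h : 17 ≤ k
  · omega
  push Not at h
  interval_cases k <;> norm_num at * <;> omega

theorem faithful (ih : IH.{u} (Nat.card V)) (hf : A ⊓ C(V) = ⊥) : T V A := by
  by_cases hm : MinNorm V A
  · intro hV _ ho _
    by_cases h : ∀ M, M ⊴ A → Abel M → Cyc M
    · obtain ⟨Z, E, c⟩ := exists_st hV hm ho (sol ho) hf h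
      exact c.reg ih
    · push Not at h
      obtain ⟨M, h1, h2, h3⟩ := h
      exact noncyc ih hV hm ho hf h1 h2 h3
  · exact red ih hm

end

theorem mod_of_amb {V A : Type*} [Group V] [Group A] {φ : A →* MulAut V} (h : T (hl φ ⊤) (hr φ ⊤))
    (hV : ∀ x y : V, x * y = y * x) (ho : Odd (Nat.card A))
    (hc : ∀ U : Subgroup V, (∀ a, ∀ x ∈ U, φ a x ∈ U) → ∃ W : Subgroup V, (∀ a, ∀ x ∈ W, φ a x ∈ W) ∧
      U ⊓ W = ⊥ ∧ U ⊔ W = ⊤) : ∃ v w, ∀ a, φ a v = v → φ a w = w → ∀ x, φ a x = x := by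
  obtain ⟨v, w, hv, hw, r⟩ := h (abel_hl.2 (cent_iff.2 fun a _ b _ => hV a b)) hr_norm_top (by simpa using ho)
    fun U hU hn => by
      obtain ⟨U, -, rfl⟩ := exists_hl hU
      obtain ⟨W, h1, h2, h3⟩ := hc U fun a => hr_norm_iff.1 hn a (mem_top a)
      exact ⟨hl φ W, hl_le_hl.2 le_top, hr_norm_iff.2 fun a _ => h1 a, by rw [← hl_inf, h2, hl_bot],
        by rw [← hl_sup, h3]⟩
  obtain ⟨v, -, rfl⟩ := mem_hl.1 hv
  obtain ⟨w, -, rfl⟩ := mem_hl.1 hw
  refine ⟨v, w, fun a h1 h2 x => ?_⟩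
  have := r _ (inr_mem_hr.2 (mem_top a)) (by rw [inr_conj_inl, h1]) (by rw [inr_conj_inl, h2])
  have := conj_of_C this (inl_mem_hl.2 (mem_top x))
  rw [inr_conj_inl] at this
  exact SemidirectProduct.inl_injective this

theorem ih_all (n : ℕ) : IH.{u} n := by
  induction n with
  | zero => intro G _ _ V A h; omega
  | succ n ih =>
    intro G _ _ V A hlt hV hn ho hc
    haveI : Finite (MulAut V) := Finite.of_injective _ (DFunLike.coe_injective (F := MulAut V))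
    let φ := (mim (actf V) A).subtype
    have cV : Nat.card (hl φ ⊤) = Nat.card V := by simp
    obtain ⟨v, w, r⟩ := mod_of_amb (φ := φ) (faithful (fun G _ _ V A h => ih G V A (by omega)) (by
        refine eq_bot_iff.2 fun t ht => ?_
        obtain ⟨a, -, rfl⟩ := mem_hr.1 ht.1
        have : a = 1 := Subtype.ext (MulEquiv.ext fun x => by
          have := conj_of_C ht.2 (inl_mem_hl.2 (mem_top x))
          rw [inr_conj_inl] at this
          exact SemidirectProduct.inl_injective this)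
        rw [this, map_one]; exact one_mem _))
      (fun x y => Subtype.ext (comm_of_cent hV x.2 y.2)) (ho.of_dvd_nat card_mim_dvd) fun U hU => by
        obtain ⟨W, h1, h2, h3, h4⟩ := hc (U.map V.subtype) (map_subtype_le _)
          (norm_map_subtype_of_actf hn fun a ha => hU ⟨_, mfun_mem_mim ha⟩)
        refine ⟨W.subgroupOf V, ?_, ?_, ?_⟩
        · rintro ⟨_, ht⟩ x hx
          obtain ⟨a, ha, -, rfl⟩ := mem_mim.1 ht
          exact mem_subgroupOf.2 (actf_apply (hn ha) x ▸ conj_mem h2 ha hx)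
        · refine eq_bot_iff.2 fun x hx => Subtype.ext (eq_one_of_eq_bot h3 ⟨mem_map_of_mem _ hx.1, hx.2⟩)
        · apply map_injective V.subtype_injective
          rw [Subgroup.map_sup, subgroupOf_map_subtype, inf_eq_left.2 h1, h4, ← MonoidHom.range_eq_map,
            range_subtype]
    refine ⟨v, w, v.2, w.2, fun a ha h1 h2 => C_of_conj fun x hx => ?_⟩
    have := r ⟨_, mfun_mem_mim ha⟩ (Subtype.ext ((actf_apply (hn ha) v).trans h1))
      (Subtype.ext ((actf_apply (hn ha) w).trans h2)) ⟨x, hx⟩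
    exact (actf_apply (hn ha) ⟨x, hx⟩).symm.trans (congrArg Subtype.val this)

theorem main {G : Type*} [Group G] [Finite G] (V A : Subgroup G) : T V A := ih_all _ G V A (Nat.lt_succ_self _)

theorem mod {V A : Type*} [Group V] [Group A] [Finite V] [Finite A] (φ : A →* MulAut V)
    (hV : ∀ x y : V, x * y = y * x) (ho : Odd (Nat.card A))
    (hc : ∀ U : Subgroup V, (∀ a, ∀ x ∈ U, φ a x ∈ U) → ∃ W : Subgroup V, (∀ a, ∀ x ∈ W, φ a x ∈ W) ∧
      U ⊓ W = ⊥ ∧ U ⊔ W = ⊤) : ∃ v w, ∀ a, φ a v = v → φ a w = w → ∀ x, φ a x = x :=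
  mod_of_amb (main _ _) hV ho hc

end H21.Rb
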