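import Cfsg.Agent.H21.Rb2
import Cfsg.Agent.H23.QS

/-! Regular triples for solvable groups: `Reg3`, five orbits (`five`), a colouring of a group with four colours
that only the trivial automorphism preserves (`colour`), products over independent blocks (`exists_prod`). -/

set_option autoImplicit false

namespace H21.Rb
open Subgroup Cfsg H18
open scoped commutatorElement

variable {G : Type*} [Group G] {V A U W H K M B : Subgroup G} {v w a b x y : G} {p : Fin 3 → G}

/-- the elements of `A` fixing the triple `p` centralize `V` -/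
def Reg3 (V A : Subgroup G) (p : Fin 3 → G) : Prop :=
  (∀ i, p i ∈ V) ∧ ∀ a ∈ A, (∀ i, a * p i * a⁻¹ = p i) → a ∈ C(V)

theorem third (i j : Fin 3) : ∃ k, k ≠ i ∧ k ≠ j := by revert i j; decide

theorem Reg3.upd (h : Reg3 V A p) {i j : Fin 3} (ne : i ≠ j) (n : ℤ) :
    Reg3 V A (Function.update p i (p i * p j ^ n)) := by
  refine ⟨fun k => ?_, fun a ha e => h.2 a ha fun k => ?_⟩
  · by_cases e : k = i
    · subst e; rw [Function.update_self]; exact mul_mem (h.1 _) (zpow_mem (h.1 _) _)
    · rw [Function.update_of_ne e]; exact h.1 k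
  · have h1 := e j
    rw [Function.update_of_ne ne.symm] at h1
    by_cases e' : k = i
    · subst e'
      have h2 := e k
      rw [Function.update_self] at h2
      calc _ = a * (p k * p j ^ n) * a⁻¹ * ((a * p j * a⁻¹) ^ n)⁻¹ := by rw [conj_zpow]; group
        _ = _ := by rw [h1, h2]; group
    · have h2 := e k
      rwa [Function.update_of_ne e'] at h2

/-- the elementary transformations of regular triples -/
def tv (V A : Subgroup G) (i j : Fin 3) (ne : i ≠ j) : Equiv.Perm {p // Reg3 V A p} where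
  toFun p := ⟨_, p.2.upd ne 1⟩
  invFun p := ⟨_, p.2.upd ne (-1)⟩
  left_inv p := Subtype.ext (by simp [Function.update_of_ne ne.symm])
  right_inv p := Subtype.ext (by simp [Function.update_of_ne ne.symm])

theorem tv_comm {i j k : Fin 3} (h1 : i ≠ j) (h2 : i ≠ k) (h3 : k ≠ j) (p : {p // Reg3 V A p}) :
    tv V A i k h2 (tv V A k j h3 ((tv V A i k h2).symm ((tv V A k j h3).symm p))) = tv V A i j h1 p :=
  Subtype.ext (by
    simp only [tv, Equiv.coe_fn_mk, Equiv.coe_fn_symm_mk]
    ext l
    by_cases e1 : l = i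
    · subst e1; simp [Function.update_of_ne, h1, h2, h3, h1.symm, h2.symm, h3.symm, mul_assoc]
    by_cases e2 : l = k
    · subst e2; simp [Function.update_of_ne, h1, h2, h3, h1.symm, h2.symm, h3.symm]
    · simp [Function.update_of_ne, e1, e2])

theorem five [Finite G] (hn : A ≤ N(V)) (hs : Solv A) (h0 : V ≠ ⊥) (h : Reg3 V A p) :
    ∃ q : Fin 5 → Fin 3 → G, (∀ k, Reg3 V A (q k)) ∧
      ∀ k l, ∀ a ∈ A, (∀ i, a * q k i * a⁻¹ = q l i) → k = l := by
  classical
  let X := {p // Reg3 V A p}
  letI : MulAction A X :=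
    { smul := fun a p => ⟨fun i => a * p.1 i * (a : G)⁻¹, fun i => conj_mem hn a.2 (p.2.1 i), fun b hb e => by
        have : (a : G)⁻¹ * b * a ∈ C(V) := p.2.2 _ (mul_mem (mul_mem (inv_mem a.2) hb) a.2) fun i => by
          calc _ = (a : G)⁻¹ * (b * (a * p.1 i * (a : G)⁻¹) * b⁻¹) * a := by group
            _ = _ := by rw [e i]; group
        have := conj_mem (norm_C hn) a.2 this
        simpa [mul_assoc] using this⟩
      one_smul := fun p => Subtype.ext (funext fun i => by
        show ((1 : A) : G) * p.1 i * ((1 : A) : G)⁻¹ = p.1 i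
        simp)
      mul_smul := fun a b p => Subtype.ext (funext fun i => by
        show ((a * b : A) : G) * p.1 i * ((a * b : A) : G)⁻¹ = a * (b * p.1 i * (b : G)⁻¹) * (a : G)⁻¹
        simp [mul_assoc]) }
  have sm : ∀ (a : A) (p : X) i, (a • p).1 i = a * p.1 i * (a : G)⁻¹ := fun _ _ _ => rfl
  have cm : ∀ i j ne (a : A) (p : X), tv V A i j ne (a • p) = a • tv V A i j ne p := fun i j ne a p =>
    Subtype.ext (funext fun l => by
      rw [sm]
      simp only [tv, Equiv.coe_fn_mk]
      by_cases e : l = i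
      · subst e; simp [sm, mul_assoc]
      · simp [sm, Function.update_of_ne e])
  have cm' : ∀ i j ne (a : A) (p : X), (tv V A i j ne).symm (a • p) = a • (tv V A i j ne).symm p :=
    fun i j ne a p => by rw [Equiv.symm_apply_eq, cm, Equiv.apply_symm_apply]
  let Q := MulAction.orbitRel.Quotient A X
  haveI : Fintype Q := Fintype.ofFinite _
  by_cases hQ : 5 ≤ Fintype.card Q
  · obtain ⟨f⟩ := Function.Embedding.nonempty_of_card_le (α := Fin 5) (β := Q) (by simpa using hQ)
    refine ⟨fun k => (f k).out.1, fun k => (f k).out.2, fun k l a ha e => f.injective ?_⟩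
    rw [← (f k).out_eq, ← (f l).out_eq]
    exact (Quotient.sound' (MulAction.orbitRel_apply.2 ⟨⟨a, ha⟩, Subtype.ext (funext e)⟩)).symm
  exfalso
  haveI := H23.solv_perm (Ω := Q) (by omega)
  let y : ∀ i j : Fin 3, i ≠ j → Equiv.Perm Q := fun i j ne => Quotient.congr (tv V A i j ne) fun p q =>
    ⟨fun ⟨a, e⟩ => ⟨a, by rw [← e]; exact (cm i j ne a q).symm⟩, fun ⟨a, e⟩ =>
      ⟨a, (tv V A i j ne).injective ((cm i j ne a q).trans e)⟩⟩
  have y1 : ∀ n i j ne, y i j ne ∈ derivedSeries (Equiv.Perm Q) n := fun n => by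
    induction n with
    | zero => exact fun _ _ _ => mem_top _
    | succ n ih =>
      intro i j ne
      obtain ⟨k, k1, k2⟩ := third i j
      have : y i j ne = ⁅y i k k1.symm, y k j k2⁆ := Equiv.ext fun q => Quotient.inductionOn' q fun p =>
        congrArg Quotient.mk'' (tv_comm ne k1.symm k2 p).symm
      rw [this]
      exact commutator_mem_commutator (ih _ _ _) (ih _ _ _)
  have fx : ∀ (p : X) i j, i ≠ j → p.1 j = 1 := fun p => by
    have y2 : ∀ n i j ne, ∃ a ∈ derivedSeries A n, a • p = tv V A i j ne p := fun n => by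
      induction n with
      | zero =>
        intro i j ne
        obtain ⟨m, hm⟩ := Group.IsSolvable.solvable (G := Equiv.Perm Q)
        have := y1 m i j ne
        rw [hm, mem_bot] at this
        obtain ⟨a, e⟩ := Quotient.exact' (Equiv.congr_fun this (Quotient.mk'' p))
        exact ⟨a, mem_top _, e⟩
      | succ n ih =>
        intro i j ne
        obtain ⟨k, k1, k2⟩ := third i j
        obtain ⟨a, ha, e1⟩ := ih i k k1.symm
        obtain ⟨b, hb, e2⟩ := ih k j k2
        have e3 : (tv V A i k k1.symm).symm p = a⁻¹ • p := by rw [Equiv.symm_apply_eq, cm, ← e1, inv_smul_smul]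
        have e4 : (tv V A k j k2).symm p = b⁻¹ • p := by rw [Equiv.symm_apply_eq, cm, ← e2, inv_smul_smul]
        refine ⟨⁅b⁻¹, a⁻¹⁆, commutator_mem_commutator (inv_mem hb) (inv_mem ha), ?_⟩
        rw [← tv_comm ne k1.symm k2, e4, cm', e3]
        simp only [cm]
        rw [← e2, cm, ← e1, commutatorElement_def, inv_inv, inv_inv, mul_smul, mul_smul, mul_smul]
    intro i j ne
    obtain ⟨m, hm⟩ := Group.IsSolvable.solvable (G := A)
    obtain ⟨a, ha, e⟩ := y2 m i j ne
    rw [hm, mem_bot] at ha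
    rw [ha, one_smul] at e
    simpa [tv] using congrFun (congrArg Subtype.val e) i
  have p1 : ∀ i, p i = 1 := fun i => by
    obtain ⟨k, k1, -⟩ := third i i
    exact fx ⟨p, h⟩ k i k1
  obtain ⟨u, hu, u1⟩ := exists_mem_ne_one' h0
  exact u1 (fx ⟨fun _ => u, fun _ => hu, fun a ha _ => h.2 a ha fun i => by simp [p1]⟩ 0 1 (by decide))

theorem colour [Finite G] (hW : Abel W) : ∃ c : G → Fin 4, ∀ t ∈ N(W),
    (∀ x ∈ W, x ≠ 1 → c (t * x * t⁻¹) = c x) → t ∈ C(W) := by
  classical
  have ex : ∃ n, ∃ e : Fin n → G, closure (Set.range e) = W := by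
    haveI : Fintype W := Fintype.ofFinite _
    refine ⟨_, fun i => ((Fintype.equivFin W).symm i : G), ?_⟩
    have : (Set.range fun i => ((Fintype.equivFin W).symm i : G)) = W := by
      ext x
      exact ⟨fun ⟨i, e⟩ => e ▸ SetLike.coe_mem _, fun h => ⟨Fintype.equivFin W ⟨x, h⟩, by simp⟩⟩
    rw [this, closure_eq]
  obtain ⟨e, he⟩ := Nat.find_spec ex
  have hmin := fun m => Nat.find_min ex (m := m)
  generalize Nat.find ex = n at e he hmin
  have eW : ∀ i, e i ∈ W := fun i => he ▸ subset_closure ⟨i, rfl⟩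
  have irr : ∀ i, e i ∉ closure (e '' {j | j ≠ i}) := fun i hi => by
    obtain ⟨m, rfl⟩ : ∃ m, n = m + 1 := ⟨n - 1, by have := i.2; omega⟩
    refine hmin m (by omega) ⟨fun j => e (i.succAbove j), le_antisymm ((closure_le _).2 ?_) ?_⟩
    · rintro _ ⟨j, rfl⟩; exact eW _
    have : e '' {j | j ≠ i} ⊆ Set.range fun j => e (i.succAbove j) := by
      rintro _ ⟨j, hj, rfl⟩
      obtain ⟨k, rfl⟩ := Fin.exists_succAbove_eq hj
      exact ⟨k, rfl⟩
    rw [← he, closure_le]
    rintro _ ⟨j, rfl⟩
    by_cases h : j = i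
    · rw [h]; exact Subgroup.closure_mono this hi
    · exact subset_closure (this ⟨j, h, rfl⟩)
  have sub : ∀ i j, j ≠ i → e j ∈ closure (e '' {j | j ≠ i}) := fun i j h => subset_closure ⟨j, h, rfl⟩
  have e1 : ∀ i, e i ≠ 1 := fun i h => irr i (h ▸ one_mem _)
  have inj : ∀ i j, e i = e j → i = j := fun i j h => by
    by_contra ne
    exact irr i (h ▸ sub i j (Ne.symm ne))
  have e2 : ∀ i j k, i ≠ j → e i * e j ≠ e k := fun i j k ne h => by
    by_cases h1 : k = i
    · subst h1; exact e1 j (by simpa using h)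
    · exact irr i (by rw [eq_mul_inv_of_mul_eq h]; exact mul_mem (sub i k h1) (inv_mem (sub i j ne.symm)))
  have e3 : ∀ i j k l, i ≠ j → e i * e j = e k * e l → i = k ∨ i = l := fun i j k l ne h => by
    by_contra h1
    push Not at h1
    exact irr i (by
      rw [eq_mul_inv_of_mul_eq h]
      exact mul_mem (mul_mem (sub i k h1.1.symm) (sub i l h1.2.symm)) (inv_mem (sub i j ne.symm)))
  let c : G → Fin 4 := fun x => if ∃ i : Fin n, i.1 = 0 ∧ x = e i then 0 else if ∃ i, x = e i then 1 else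
    if ∃ i j : Fin n, i.1 + 1 = j.1 ∧ x = e i * e j then 2 else 3
  have c0 : ∀ x, c x = 0 ↔ ∃ i : Fin n, i.1 = 0 ∧ x = e i := fun x => by
    simp only [c]; split_ifs <;> simp_all
  have c1 : ∀ x, (c x = 0 ∨ c x = 1) ↔ ∃ i, x = e i := fun x => by
    simp only [c]; split_ifs with h1 h2 h3
    · obtain ⟨i, -, h⟩ := h1; simpa using ⟨i, h⟩
    all_goals simp_all
  have c2 : ∀ x, c x = 2 ↔ ∃ i j : Fin n, i.1 + 1 = j.1 ∧ x = e i * e j := fun x => by
    simp only [c]; split_ifs with h1 h2 h3
    · obtain ⟨k, -, rfl⟩ := h1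
      simpa using fun i j h h' => e2 i j k (fun e => by omega) h'.symm
    · obtain ⟨k, rfl⟩ := h2
      simpa using fun i j h h' => e2 i j k (fun e => by omega) h'.symm
    all_goals simp_all
  refine ⟨c, fun t ht hc => ?_⟩
  have key : ∀ m, ∀ i : Fin n, i.1 = m → t * e i * t⁻¹ = e i := fun m => by
    induction m using Nat.strong_induction_on with
    | _ m ih =>
      intro i hi
      rcases Nat.eq_zero_or_pos m with rfl | hm
      · obtain ⟨j, h1, h2⟩ := (c0 _).1 ((hc _ (eW i) (e1 i)).trans ((c0 _).2 ⟨i, hi, rfl⟩))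
        rw [h2, Fin.ext (h1.trans hi.symm)]
      obtain ⟨j, hj⟩ := (c1 (t * e i * t⁻¹)).1 (by rw [hc _ (eW i) (e1 i)]; exact (c1 _).2 ⟨i, rfl⟩)
      have jm : m ≤ j.1 := by
        by_contra h
        have := ih j.1 (by omega) j rfl
        rw [← hj] at this
        have := inj j i (by rw [← hj]; simpa using this)
        omega
      let k : Fin n := ⟨m - 1, by omega⟩
      have kv : k.1 = m - 1 := rfl
      have ki : k ≠ i := fun e => by have := congrArg Fin.val e; omega
      have kj : k ≠ j := fun e => by have := congrArg Fin.val e; omega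
      obtain ⟨a, b, h1, h2⟩ := (c2 _).1 ((hc _ (mul_mem (eW k) (eW i)) fun h => irr k (by
        rw [eq_inv_of_mul_eq_one_left h]; exact inv_mem (sub k i ki.symm))).trans ((c2 _).2 ⟨k, i, by omega, rfl⟩))
      have h3 : e k * e j = e a * e b := by
        rw [← h2, ← hj]
        conv_lhs => rw [← ih k.1 (by omega) k rfl]
        group
      have h4 := e3 _ _ _ _ kj h3
      have h5 := e3 _ _ _ _ kj.symm ((comm_of_cent hW (eW j) (eW k)).trans h3)
      rw [hj]
      exact congrArg e (Fin.ext (by omega))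
  rw [← he]
  refine zpowers_le.1 (cent_symm ((closure_le _).2 ?_))
  rintro _ ⟨i, rfl⟩
  exact C_zpowers (x := t) ▸ C1_iff.2 (key _ i rfl)

theorem exists_prod {G : Type*} [Group G] [Finite G] {V : Subgroup G} {ι : Type*} [DecidableEq ι] [Fintype ι]
    {f : ι → Subgroup G} (hV : Abel V) (hf : ∀ i, f i ≤ V) (ind : ∀ i (s : Finset ι), i ∉ s → f i ⊓ s.sup f = ⊥)
    (x : ι → G) (hx : ∀ i, x i ∈ f i) : ∃ y ∈ V, ∀ t ∈ N(V), ∀ σ : Equiv.Perm ι, (∀ i, cj t (f i) ≤ f (σ i)) →
      t * y * t⁻¹ = y → ∀ i, t * x i * t⁻¹ = x (σ i) := by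
  letI : CommGroup V := { (inferInstance : Group V) with mul_comm := fun a b => Subtype.ext (comm_of_cent hV a.2 b.2) }
  let z : ι → V := fun i => ⟨x i, hf i (hx i)⟩
  refine ⟨(∏ i, z i : V), SetLike.coe_mem _, fun t ht σ hσ e i => ?_⟩
  let φ : V ≃* V := actf V ⟨t, ht⟩
  have e1 : φ (∏ i, z i) = ∏ i, z i := Subtype.ext e
  have := uniq hV ind (fun i => φ (z (σ.symm i)) * (z i)⁻¹) (fun i => mul_mem (by
    have := hσ (σ.symm i) (conj_mem_cj (hx _))
    rwa [Equiv.apply_symm_apply] at this) (inv_mem (hx i))) (by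
    rw [Finset.prod_mul_distrib, Finset.prod_inv_distrib, ← map_prod, Equiv.prod_comp σ.symm z, e1, mul_inv_cancel])
    (σ i)
  rw [Equiv.symm_apply_apply, mul_inv_eq_one] at this
  exact congrArg Subtype.val this

end H21.Rb
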