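import Cfsg.Agent.H21.Rb6
import Cfsg.Agent.H21.Extra
import Cfsg.Agent.H1.Hol

/-! Regular triples: a solvable group acting completely reducibly on a finite abelian group has three elements whose
common stabilizer acts trivially (`main3`, `mod3`); `gluck5` (five colours for a primitive solvable group),
`imprim3`, `prim3`. -/

set_option autoImplicit false

namespace H21.Rb
open Subgroup Cfsg H18 H1
open scoped commutatorElement

universe u

theorem gluck50 {L : Type*} [Group L] [Finite L] {H : Subgroup L} (hs : Group.IsSolvable L) (hH : IsCoatom H)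
    (hc : H.normalCore = ⊥) :
    ∃ c : L → Fin 5, (∀ g, ∀ h ∈ H, c (g * h) = c g) ∧ ∀ t, (∀ g, c (t * g) = c g) → t = 1 := by
  classical
  have core : ∀ X : Subgroup L, X ≤ H → ⊤ ≤ N(X) → X = ⊥ := fun X h1 h2 => by
    haveI := norm_top_iff.1 h2
    exact eq_bot_iff.2 (hc ▸ normal_le_normalCore.2 h1)
  obtain ⟨W, -, hW⟩ := exists_minNorm (K := ⊤) (A := (⊤ : Subgroup L))
    (fun e => hH.1 (top_unique (e ▸ bot_le))) (by simp)
  have aW : Abel W := hW.abel solv_of_solv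
  have nW : H ≤ N(W) := le_top.trans hW.norm
  have hs : H ⊔ W = ⊤ := hH.2 _ (left_lt_sup.2 fun e => hW.ne_bot (core W e hW.norm))
  have hi : W ⊓ H = ⊥ := core _ inf_le_right (hs ▸ sup_le (norm_inf nW le_N) (aW.norm inf_le_left))
  have fa : H ⊓ C(W) = ⊥ := core _ inf_le_left
    (hs ▸ sup_le (norm_inf le_N (norm_C nW)) (cent_norm (cent_symm inf_le_right)))
  have : ∀ g : L, ∃ w ∈ W, w⁻¹ * g ∈ H := fun g => by
    obtain ⟨τ, hτ, h, hh, rfl⟩ := (mem_sup_of_norm' nW).1 (show g ∈ W ⊔ H by rw [sup_comm, hs]; trivial)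
    exact ⟨τ, hτ, by simpa using hh⟩
  choose w hw hw' using this
  have un : ∀ g, ∀ x ∈ W, x⁻¹ * g ∈ H → w g = x := fun g x hx h => by
    have : x⁻¹ * w g = 1 := eq_one_of_eq_bot hi (mem_inf.2 ⟨mul_mem (inv_mem hx) (hw g), by
      have := mul_mem h (inv_mem (hw' g))
      convert this using 1
      group⟩)
    exact (inv_mul_eq_one.1 this).symm
  obtain ⟨c, hc⟩ := colour aW
  refine ⟨fun g => if w g = 1 then Fin.last 4 else (c (w g)).castSucc, fun g h hh => ?_, fun t ht => ?_⟩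
  · simp only [un (g * h) (w g) (hw g) (by rw [← mul_assoc]; exact mul_mem (hw' g) hh)]
  have wx : ∀ x ∈ W, w x = x := fun x hx => un x x hx (by simp)
  have tH : t ∈ H := by
    have := ht 1
    simp only [mul_one, wx 1 (one_mem _), if_true] at this
    split_ifs at this with e
    · simpa [e] using hw' t
    · exact absurd this (Fin.castSucc_ne_last _)
  refine eq_one_of_eq_bot fa ⟨tH, hc t (nW tH) fun x hx x1 => ?_⟩
  have := ht x
  simp only [wx x hx, un (t * x) _ (conj_mem nW tH hx) (by simpa [mul_assoc] using tH), if_neg x1,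
    if_neg (conj_eq_one_iff'.not.2 x1)] at this
  exact Fin.castSucc_injective _ this

theorem gluck5 {L : Type*} [Group L] [Finite L] {H : Subgroup L} (hs : Group.IsSolvable L) (hH : IsCoatom H) :
    ∃ c : L ⧸ H → Fin 5, ∀ t : L, (∀ ω, c (t • ω) = c ω) → ∀ ω : L ⧸ H, t • ω = ω := by
  let π := QuotientGroup.mk' H.normalCore
  have hπ : Function.Surjective π := QuotientGroup.mk'_surjective _
  have kπ : π.ker ≤ H := by rw [QuotientGroup.ker_mk']; exact H.normalCore_le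
  have cm : (H.map π).comap π = H := comap_map_eq_self kπ
  obtain ⟨c, h1, h2⟩ := gluck50 (H := H.map π) inferInstance
    ⟨fun e => hH.1 (by rw [← cm, e, comap_top]), fun X hX => by
      have := hH.2 (X.comap π) (cm.ge.trans_lt ((comap_lt_comap_of_surjective hπ).2 hX))
      rw [← map_comap_eq_self_of_surjective hπ X, this, map_top_of_surjective _ hπ]⟩
    (by
      have : ((H.map π).normalCore).comap π ≤ H.normalCore :=
        normal_le_normalCore.2 ((comap_mono (normalCore_le _)).trans cm.le)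
      rw [← map_comap_eq_self_of_surjective hπ (H.map π).normalCore, Subgroup.map_eq_bot_iff, QuotientGroup.ker_mk']
      exact this)
  have key : ∀ g : L, c (π (g : L ⧸ H).out) = c (π g) := fun g => by
    obtain ⟨h, e⟩ := QuotientGroup.mk_out_eq_mul H g
    rw [e, map_mul, h1 _ _ (mem_map_of_mem π h.2)]
  refine ⟨fun ω => c (π ω.out), fun t ht ω => ?_⟩
  have t1 : π t = 1 := h2 _ fun g => by
    obtain ⟨g, rfl⟩ := hπ g
    rw [← map_mul, ← key, ← key g]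
    exact ht g
  have t2 : t ∈ H.normalCore := by rwa [← QuotientGroup.ker_mk' H.normalCore]
  rw [normalCore_eq_ker] at t2
  exact Equiv.congr_fun t2 ω

def T3 {G : Type*} [Group G] (V A : Subgroup G) : Prop :=
  Abel V → A ≤ N(V) → Solv A → CR V A → ∃ p, Reg3 V A p

def IH3 (n : ℕ) : Prop :=
  ∀ (G : Type u) [Group G] [Finite G] (V A : Subgroup G), Nat.card V < n → T3 V A

section
variable {G : Type u} [Group G] [Finite G] {V A U W H K M B Z E : Subgroup G}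

theorem red3 (ih : IH3.{u} (Nat.card V)) (h : ¬ MinNorm V A) : T3 V A := fun hV hn ho hc => by
  by_cases h0 : V = ⊥
  · exact ⟨fun _ => 1, fun _ => one_mem _, fun a _ _ => by simp [h0]⟩
  obtain ⟨U, UV, hU⟩ := exists_minNorm h0 hn
  obtain ⟨W, h1, h2, h3, h4⟩ := hc U UV hU.norm
  have l1 : U < V := lt_of_le_of_ne UV fun e => h (e ▸ hU)
  have l2 : W < V := lt_of_le_of_ne h1 fun e => hU.ne_bot (by rw [← h3, e, inf_eq_left.2 UV])
  obtain ⟨p, r1⟩ := ih G U A (card_lt l1) (hV.mono UV) hU.norm ho (hc.sub hV UV hU.norm)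
  obtain ⟨q, r2⟩ := ih G W A (card_lt l2) (hV.mono h1) h2 ho (hc.sub hV h1 h2)
  have key : ∀ a ∈ A, ∀ x ∈ U, ∀ y ∈ W, a * (x * y) * a⁻¹ = x * y → a * x * a⁻¹ = x ∧ a * y * a⁻¹ = y := by
    intro a ha x hx y hy e
    have e1 : x⁻¹ * (a * x * a⁻¹) = y * (a * y * a⁻¹)⁻¹ := by
      rw [inv_mul_eq_iff_eq_mul, ← mul_assoc, ← e]; group
    have m : x⁻¹ * (a * x * a⁻¹) ∈ U ⊓ W :=
      mem_inf.2 ⟨mul_mem (inv_mem hx) (conj_mem hU.norm ha hx), e1 ▸ mul_mem hy (inv_mem (conj_mem h2 ha hy))⟩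
    rw [h3, mem_bot] at m
    exact ⟨(inv_mul_eq_one.1 m).symm, (mul_inv_eq_one.1 (e1 ▸ m)).symm⟩
  refine ⟨fun i => p i * q i, fun i => mul_mem (UV (r1.1 i)) (h1 (r2.1 i)), fun a ha e => ?_⟩
  rw [← h4, C_sup]
  exact ⟨r1.2 a ha fun i => (key a ha _ (r1.1 i) _ (r2.1 i) (e i)).1,
    r2.2 a ha fun i => (key a ha _ (r1.1 i) _ (r2.1 i) (e i)).2⟩

theorem imprim3 (ih : IH3.{u} (Nat.card V)) (hV : Abel V) (hm : MinNorm V A) (ho : Solv A)
    (hH : H ⋖ A) (hU : U ≤ V) (h0 : U ≠ ⊥) (hn : H ≤ N(U))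
    (hd : U ⊓ ⨆ a : {a : G // a ∈ A ∧ a ∉ H}, cj a.1 U = ⊥) : ∃ p, Reg3 V A p := by
  classical
  set R := ⨆ a : {a : G // a ∈ A ∧ a ∉ H}, cj a.1 U with hR
  have HA : H ≤ A := hH.le
  have RV : R ≤ V := iSup_le fun a => cj_le_of_mem_N hU (hm.norm a.2.1)
  have leR : ∀ a ∈ A, a ∉ H → cj a U ≤ R := fun a h1 h2 =>
    le_iSup (fun a : {a : G // a ∈ A ∧ a ∉ H} => cj a.1 U) ⟨a, h1, h2⟩
  have mU : MinNorm U H := ⟨h0, hn, fun X h1 h2 h3 => by
    have : V ≤ X ⊔ R := by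
      rw [← span_cj hm (h1.trans hU) h2]
      refine iSup_le fun a => ?_
      by_cases e : (a : G) ∈ H
      · rw [cj_eq_self (h3 e)]; exact le_sup_left
      · exact ((cj_mono h1).trans (leR a a.2 e)).trans le_sup_right
    have n2 : Nrm2 X R := Or.inl ((h1.trans hU).trans (hV.norm RV))
    have e := n2.modular h1
    rw [inf_eq_right.2 (hU.trans this), inf_comm, hd, sup_bot_eq] at e
    exact e.symm⟩
  have lt : U < V := lt_of_le_of_ne hU fun e => by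
    obtain ⟨a, ha, aH⟩ := SetLike.exists_of_lt hH.lt
    have := leR a ha aH
    rw [e, cj_eq_self (hm.norm ha)] at this
    exact h0 (eq_bot_iff.2 (hd ▸ le_inf le_rfl (hU.trans this)))
  obtain ⟨p, r⟩ := ih G U H (card_lt lt) (hV.mono hU) hn (ho.of_le HA) (CR.of_min mU)
  obtain ⟨q, r, nc⟩ := five hn (ho.of_le HA) h0 r
  let ι := A ⧸ H.subgroupOf A
  haveI : Fintype ι := Fintype.ofFinite _
  let o : ι → G := fun ω => ((Quotient.out ω : A) : G)
  have oA : ∀ ω, o ω ∈ A := fun ω => (Quotient.out ω : A).2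
  let f : ι → Subgroup G := fun ω => cj (o ω) U
  have fV : ∀ ω, f ω ≤ V := fun ω => cj_le_of_mem_N hU (hm.norm (oA ω))
  have ind : ∀ i (s : Finset ι), i ∉ s → f i ⊓ s.sup f = ⊥ := fun i s hi => by
    rw [← cj_eq_bot (g := (o i)⁻¹), cj_inf, eq_bot_iff, ← hd]
    refine inf_le_inf (by simp [f]) ?_
    rw [cj_le_iff]
    refine Finset.sup_le fun j hj => ?_
    rw [← cj_le_iff, cj_cj]
    refine leR _ (mul_mem (inv_mem (oA i)) (oA j)) fun e => hi ?_
    have : i = j := by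
      rw [← i.out_eq', ← j.out_eq']
      exact QuotientGroup.eq.2 e
    exact this ▸ hj
  obtain ⟨c, hD⟩ := gluck5 ho (coatom_iff_covBy.2 (by rwa [subgroupOf_map_subtype, inf_eq_left.2 HA]))
  have hh : ∀ (t : A) (ω : ι), (o (t • ω))⁻¹ * t * o ω ∈ H := fun t ω => by
    have : ((t • ω).out : A)⁻¹ * (t * ω.out) ∈ H.subgroupOf A :=
      QuotientGroup.eq.1 ((QuotientGroup.out_eq' _).trans (MulAction.Quotient.mk_smul_out _ t ω).symm)
    rw [mul_assoc]; exact this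
  choose y yV hy using fun i => exists_prod hV fV ind (fun ω => o ω * q (c ω) i * (o ω)⁻¹)
    fun ω => conj_mem_cj ((r _).1 i)
  refine ⟨y, yV, fun a ha e => ?_⟩
  have k : ∀ ω i, ((o ((⟨a, ha⟩ : A) • ω))⁻¹ * a * o ω) * q (c ω) i * ((o ((⟨a, ha⟩ : A) • ω))⁻¹ * a * o ω)⁻¹ =
      q (c ((⟨a, ha⟩ : A) • ω)) i := fun ω i => by
    have := hy i a (hm.norm ha) (MulAction.toPerm (⟨a, ha⟩ : A)) (fun ω => by
      simp only [f, MulAction.toPerm_apply]
      rw [cj_cj, le_cj_iff, cj_cj, ← mul_assoc, cj_eq_self (hn (hh ⟨a, ha⟩ ω))]) (e i) ω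
    simp only [MulAction.toPerm_apply] at this
    calc _ = (o ((⟨a, ha⟩ : A) • ω))⁻¹ * (a * (o ω * q (c ω) i * (o ω)⁻¹) * a⁻¹) * o ((⟨a, ha⟩ : A) • ω) := by group
      _ = _ := by rw [this]; group
  have fx := hD ⟨a, ha⟩ fun ω => (nc _ _ _ (hh ⟨a, ha⟩ ω) (k ω)).symm
  have cf : ∀ ω, a ∈ C(f ω) := fun ω => by
    have h1 := hh ⟨a, ha⟩ ω
    have h2 := k ω
    rw [fx] at h1 h2
    simp only [f]
    rw [← cj_C, mem_cj]
    exact (r _).2 _ h1 h2
  rw [← span_cj hm hU h0]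
  refine zpowers_le.1 (cent_iSup fun g => zpowers_le.2 ?_)
  obtain ⟨h, e⟩ := QuotientGroup.mk_out_eq_mul (H.subgroupOf A) g
  have := cf (QuotientGroup.mk g)
  simp only [f, o] at this
  rwa [e, coe_mul, cj_mul, cj_eq_self (g := ((h : A) : G)) (hn h.2)] at this

theorem blocks_of_noncyc (hV : Abel V) (hm : MinNorm V A) (hf : A ⊓ C(V) = ⊥) (hM : M ⊴ A) (aM : Abel M)
    (hc : ¬ Cyc M) : ∃ H U, H ⋖ A ∧ U ≤ V ∧ U ≠ ⊥ ∧ H ≤ N(U) ∧
      U ⊓ ⨆ a : {a : G // a ∈ A ∧ a ∉ H}, cj a.1 U = ⊥ := by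
  classical
  obtain ⟨B, BM, h1, h2, g, hg, h3⟩ := exists_hyp hV hm.ne_bot aM (hM.le.trans hm.norm)
  have nB : ¬ A ≤ A ⊓ N(B) := fun e => by
    have := hm.min _ inf_le_left h1 (norm_inf hm.norm (norm_C (e.trans inf_le_right)))
    have b0 : B = ⊥ := eq_bot_iff.2 (hf ▸ le_inf (BM.trans hM.le) (cent_symm (this ▸ inf_le_right)))
    rw [b0, sup_bot_eq] at h3
    exact hc (cyc_zpowers.of_le h3)
  obtain ⟨H, SH, hH⟩ := exists_le_covBy_of_lt (lt_of_le_not_ge inf_le_left nB)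
  let ι := {X : Subgroup G // ∃ a ∈ A, X = cj a B}
  haveI : Fintype ι := Fintype.ofFinite _
  let f : ι → Subgroup G := fun X => V ⊓ C(X.1)
  have ιM : ∀ X : ι, X.1 ≤ M := by
    rintro ⟨_, a, ha, rfl⟩
    exact cj_le_of_mem_N BM (hM.norm ha)
  have ind := indep (f := f) (M := M) hV (fun _ => inf_le_left)
    (fun X => norm_inf (hM.le.trans hm.norm) (norm_C (aM.norm (ιM X)))) (by
      rintro ⟨_, a, ha, rfl⟩ ⟨_, b, hb, rfl⟩ ne
      have : ¬ cj b B ≤ cj a B := fun e => ne (Subtype.ext (eq_of_card_eq e (by simp)).symm)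
      obtain ⟨u, hu, un⟩ := SetLike.not_le_iff_exists.1 this
      have uM := ιM ⟨_, b, hb, rfl⟩ hu
      refine ⟨u, uM, cent_symm inf_le_right hu, ?_⟩
      have := h2 _ (conj_mem' hM.norm ha uM) (mem_cj.not.1 un)
      rw [← cj_eq_bot (g := a), cj_inf, cj_inf, cj_C, cj_C1, cj_eq_self (hm.norm ha)] at this
      simpa [mul_assoc] using this)
  let s : Finset ι := Finset.univ.filter fun X => ∃ h ∈ H, X.1 = cj h B
  have cjf : ∀ a (ha : a ∈ A) (X : ι), ∃ Y : ι, Y.1 = cj a X.1 ∧ cj a (f X) = f Y := by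
    rintro a ha ⟨_, b, hb, rfl⟩
    exact ⟨⟨cj a (cj b B), a * b, mul_mem ha hb, cj_cj⟩, rfl, by
      simp only [f]; rw [cj_inf, cj_C, cj_eq_self (hm.norm ha)]⟩
  refine ⟨H, s.sup f, hH, Finset.sup_le fun _ _ => inf_le_left, fun e => h1 ?_, fun h hh => mem_N_of_cj_le ?_, ?_⟩
  · have := Finset.le_sup (f := f) (s := s) (b := ⟨B, 1, one_mem _, by simp⟩) (by
      simp only [s, Finset.mem_filter, Finset.mem_univ, true_and]; exact ⟨1, one_mem _, by simp⟩)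
    exact eq_bot_iff.2 (e ▸ this)
  · rw [cj_le_iff]
    refine Finset.sup_le fun X hX => ?_
    rw [← cj_le_iff]
    obtain ⟨Y, e1, e2⟩ := cjf h (hH.le hh) X
    rw [e2]
    refine Finset.le_sup ?_
    simp only [s, Finset.mem_filter, Finset.mem_univ, true_and] at hX ⊢
    obtain ⟨k, hk, e⟩ := hX
    exact ⟨h * k, mul_mem hh hk, by rw [e1, e, cj_cj]⟩
  · rw [eq_bot_iff, ← indep2 hV (fun _ => inf_le_left) ind s sᶜ disjoint_compl_right]
    refine inf_le_inf_left _ (iSup_le fun a => ?_)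
    rw [cj_le_iff]
    refine Finset.sup_le fun X hX => ?_
    rw [← cj_le_iff]
    obtain ⟨Y, e1, e2⟩ := cjf a a.2.1 X
    rw [e2]
    refine Finset.le_sup ?_
    simp only [s, Finset.mem_compl, Finset.mem_filter, Finset.mem_univ, true_and] at hX ⊢
    obtain ⟨k, hk, e⟩ := hX
    rintro ⟨h, hh, e'⟩
    have : h⁻¹ * (a * k) ∈ H := SH (mem_inf.2 ⟨mul_mem (inv_mem (hH.le hh)) (mul_mem a.2.1 (hH.le hk)),
      mem_N_iff_cj.2 (by rw [cj_mul, cj_mul, ← e, ← e1, e', cj_inv_cj])⟩)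
    exact a.2.2 (by simpa using mul_mem (mul_mem hh this) (inv_mem hk))

theorem exists_ZE (hs : Solv A) : ∃ Z E, Z ⊴ A ∧ Abel Z ∧ E ⊴ A ∧ Z ≤ E ∧ E ≤ C(Z) ∧ ⁅E, E⁆ ≤ Z ∧
    A ⊓ C(E) ≤ Z := by
  obtain ⟨Z, -, ⟨nZ, aZ⟩, hZ⟩ := exists_maximal_sub (A := ⊥) (fun X => X ⊴ A ∧ Abel X) ⟨Nml.bot, abel_bot⟩
  obtain ⟨E, -, ⟨nE, ZE, EC, der⟩, hE⟩ := exists_maximal_sub (A := Z)
    (fun X => X ⊴ A ∧ Z ≤ X ∧ X ≤ C(Z) ∧ ⁅X, X⁆ ≤ Z) ⟨nZ, le_rfl, aZ, der_le⟩
  refine ⟨Z, E, nZ, aZ, nE, ZE, EC, der, ?_⟩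
  by_contra h
  have ZC : Z ≤ A ⊓ C(E) := le_inf nZ.le (cent_symm EC)
  obtain ⟨X, hX, XC⟩ := exists_chief_above nZ nE.cent (lt_of_le_not_ge ZC h)
  have dX : ⁅X, X⁆ ≤ Z := (abel_quo_iff (hX.nmlU.le.trans nZ.norm)).1
    (hX.minNorm.abel (hs.of_le hX.nmlU.le).mim)
  have XE : X ≤ C(E) := XC.trans inf_le_right
  have := hE (E ⊔ X) ⟨nE.sup hX.nmlU, ZE.trans le_sup_left, sup_le EC (XE.trans (C_anti ZE)), by
    rw [der_sup, comm_eq_bot_iff.2 (cent_symm XE), sup_bot_eq]; exact sup_le der dX⟩ le_sup_left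
  have aX : Abel X := XE.trans (C_anti (le_sup_right.trans this.le))
  exact hX.lt.ne' (hZ X ⟨hX.nmlU, aX⟩ hX.le)

theorem prim3 (hV : Abel V) (hm : MinNorm V A) (hs : Solv A) (hf : A ⊓ C(V) = ⊥)
    (hc : ∀ M, M ⊴ A → Abel M → Cyc M) : ∃ p, Reg3 V A p := by
  classical
  obtain ⟨Z, E, nZ, aZ, nE, ZE, EC, der, CE⟩ := exists_ZE hs
  have sr : Semireg V Z := fun z hz z1 => by
    have nz : A ≤ N(zpowers z) := (hc Z nZ aZ).norm_sub (zpowers_le.2 hz) nZ.norm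
    refine (hm.eq_bot_or inf_le_left (norm_inf hm.norm (C_zpowers (x := z) ▸ norm_C nz))).resolve_right
      fun e => z1 (eq_one_of_eq_bot hf ⟨nZ.le hz, le_C1_iff.1 (e ▸ inf_le_right)⟩)
  by_cases z0 : Z = ⊥
  · have e0 : E ≤ ⊥ := z0 ▸ (le_inf nE.le (comm_eq_bot_iff.1 (eq_bot_iff.2 (z0 ▸ der)))).trans CE
    rw [eq_bot_iff.2 e0, z0, C_bot, inf_top_eq] at CE
    exact ⟨fun _ => 1, fun _ => one_mem _, fun a ha _ => by rw [mem_bot.1 (CE ha)]; exact one_mem _⟩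
  obtain ⟨z, hz, z1⟩ := exists_mem_ne_one' z0
  have cm : ∀ {x y}, x ∈ E → y ∈ E → ⁅x, y⁆ ∈ Z := fun hx hy => der (commutator_mem_commutator hx hy)
  have EV : E ≤ N(V) := nE.le.trans hm.norm
  obtain ⟨B, -, ⟨BE, h1⟩, hB⟩ := exists_maximal_sub (A := ⊥) (fun B => B ≤ E ∧ V ⊓ C(B) ≠ ⊥)
    ⟨bot_le, by simpa using hm.ne_bot⟩
  have BZ : B ⊓ Z = ⊥ := by
    by_contra e
    exact h1 (eq_bot_iff.2 (sr.cent inf_le_right e ▸ inf_le_inf_left _ (C_anti inf_le_left)))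
  have cB : ∀ x ∈ E, (∀ b ∈ B, x * b * x⁻¹ ∈ B) → x ∈ C(B) := fun x hx h => mem_C.2 fun b hb =>
    (commutatorElement_eq_one_iff_mul_comm.1 (eq_one_of_eq_bot BZ
      (mem_inf.2 ⟨mul_mem (h b hb) (inv_mem hb), cm hx (BE hb)⟩))).symm
  have aB : Abel B := fun x hx => cB x (BE hx) fun b hb => conj_mem le_N hx hb
  set N := E ⊓ C(B) with hN
  set U := V ⊓ C(B) with hU
  have ZN : Z ≤ N := le_inf ZE (cent_symm (BE.trans EC))
  have BN : B ≤ N := le_inf BE aB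
  have EN : E ≤ N(N) := norm_of_der_le (der.trans ZN) inf_le_left
  have NU : N ≤ N(U) := norm_inf (inf_le_left.trans EV) (norm_C (cent_norm inf_le_right))
  have fp : ∀ u ∈ E, ∀ x ∈ U, x ≠ 1 → u * x * u⁻¹ = x → u ∈ B := fun u hu x hx x1 e => by
    have := hB (B ⊔ zpowers u) ⟨sup_le BE (zpowers_le.2 hu), ne_bot_of_mem (x := x) (by
      rw [C_sup, C_zpowers, ← inf_assoc]; exact mem_inf.2 ⟨hx, C1_iff.2 e⟩) x1⟩ le_sup_left
    exact this.le (le_sup_right (a := B) (mem_zpowers u))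
  obtain ⟨v, hv, v1⟩ := exists_mem_ne_one' h1
  -- two generators of `N / B`
  obtain ⟨g, gN, h, hN', gen⟩ : ∃ g ∈ N, ∃ h ∈ N, ∀ K : Subgroup G, B ≤ K → g ∈ K → h ∈ K → N ≤ K := by
    obtain ⟨M, BM, hM⟩ := exists_max_abel aB BN
    have MN : M ≤ N := hM.ge.trans inf_le_left
    have aM : Abel M := hM.ge.trans inf_le_right
    obtain ⟨X, XU, hX⟩ := exists_minNorm h1 (MN.trans NU)
    obtain ⟨g, hg, e⟩ := hX.exists_gen (hV.mono (XU.trans inf_le_left)) (by rw [aM.der]; exact bot_le)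
    obtain ⟨x, hx, x1⟩ := exists_mem_ne_one' hX.ne_bot
    have e1 : M ≤ zpowers g ⊔ B := by
      have n2 : Nrm2 (zpowers g) C(X) := Or.inl ((zpowers_le.2 hg).trans (norm_C hX.norm))
      refine (le_inf le_rfl e).trans ?_
      rw [n2.modular_left (zpowers_le.2 hg)]
      exact sup_le_sup_left (fun u hu => fp u (MN hu.1).1 x (XU hx) x1 (conj_of_C hu.2 hx)) _
    have gE : g ∈ E := (MN hg).1
    let φ : N →* Z := MonoidHom.mk' (fun n => ⟨⁅g, (n : G)⁆, cm gE n.2.1⟩) fun a b =>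
      Subtype.ext (comm_mul_right (mem_C.1 (EC a.2.1) _ (cm gE b.2.1)).symm)
    haveI := hc Z nZ aZ
    obtain ⟨⟨_, h, rfl⟩, hh⟩ := IsCyclic.exists_generator (α := φ.range)
    refine ⟨g, MN hg, h, h.2, fun K k1 k2 k3 n hn => ?_⟩
    obtain ⟨i, hi⟩ := hh ⟨φ ⟨n, hn⟩, _, rfl⟩
    have e2 : φ ((h ^ i)⁻¹ * ⟨n, hn⟩) = 1 := by
      rw [map_mul, map_inv, map_zpow, inv_mul_eq_one]; exact congrArg Subtype.val hi
    have e3 : ((h : G) ^ i)⁻¹ * n ∈ M := by
      have m : ((h : G) ^ i)⁻¹ * n ∈ N := mul_mem (inv_mem (zpow_mem h.2 _)) hn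
      rw [← hM]
      refine mem_inf.2 ⟨m, C_anti e1 ?_⟩
      rw [C_sup, C_zpowers]
      exact mem_inf.2 ⟨mem_C1.2 (commutatorElement_eq_one_iff_mul_comm.1 (congrArg Subtype.val e2)).symm, m.2⟩
    have := mul_mem (zpow_mem k3 i) (sup_le (zpowers_le.2 k2) k1 (e1 e3))
    simpa using this
  let ι := ↥(E ⫽ N)
  haveI : Fintype ι := Fintype.ofFinite _
  choose o oE ho using fun ω : ι => (mem_quo EN).1 ω.2
  let f : ι → Subgroup G := fun ω => cj (o ω) U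
  have fe : ∀ ω, f ω = V ⊓ C(cj (o ω) B) := fun ω => by
    simp only [f, hU]; rw [cj_inf, cj_C, cj_eq_self (EV (oE ω))]
  have fV : ∀ ω, f ω ≤ V := fun ω => fe ω ▸ inf_le_left
  have ZB : Abel (Z ⊔ B) := aZ.sup aB (cent_symm (BE.trans EC))
  have cZB : ∀ x ∈ E, cj x B ≤ Z ⊔ B := fun x hx => cj_le_of_mem_N le_sup_right
    (norm_of_der_le (der.trans le_sup_left) (sup_le ZE BE) hx)
  have ind := indep (f := f) (M := Z ⊔ B) hV fV
    (fun ω => fe ω ▸ norm_inf ((sup_le ZE BE).trans EV) (norm_C (ZB.norm (cZB _ (oE ω))))) (by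
      intro i j ne
      have : ¬ cj (o j) B ≤ cj (o i) B := fun e => ne (Subtype.ext (by
        rw [← ho i, ← ho j, cs_eq_iff (EN (oE i)) (EN (oE j))]
        have m1 : (o i)⁻¹ * o j ∈ E := mul_mem (inv_mem (oE i)) (oE j)
        refine mem_inf.2 ⟨m1, cB _ m1 fun b hb => ?_⟩
        have := mem_cj.1 (e (conj_mem_cj hb))
        convert this using 1
        group))
      obtain ⟨u, hu, un⟩ := SetLike.not_le_iff_exists.1 this
      have uM := cZB _ (oE j) hu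
      refine ⟨u, uM, cent_symm (fe j ▸ inf_le_right) hu, eq_bot_iff.2 fun x hx => ?_⟩
      by_contra x1
      refine un (mem_cj.2 (fp _ (conj_mem' le_N (oE i) (sup_le ZE BE uM)) _ (mem_cj.1 hx.1) (fun e => x1 ?_) ?_))
      · simpa using conj_eq_one_iff'.1 (show (o i)⁻¹ * x * (o i)⁻¹⁻¹ = 1 by rwa [inv_inv])
      · conv_rhs => rw [← C1_iff.1 hx.2]
        group)
  obtain ⟨c, hcol⟩ := colour (W := E ⫽ N) ((abel_quo_iff EN).2 (der.trans ZN))
  let a : Fin 4 → G := ![v, 1, v, v]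
  let b : Fin 4 → G := ![1, v, v, z * v * z⁻¹]
  have aU : ∀ i, a i ∈ U := fun i => by fin_cases i <;> simp [a, hv]
  have bU : ∀ i, b i ∈ U := fun i => by fin_cases i <;> simp [b, hv, conj_mem NU (ZN hz) hv]
  have f1 : f 1 = U := cj_eq_self (NU ((cs_eq_one_iff (EN (oE 1))).1 (ho 1)))
  obtain ⟨y₁, y1V, hy1⟩ := exists_prod hV fV ind (fun ω => if ω = 1 then g * v * g⁻¹ else o ω * a (c ω) * (o ω)⁻¹)
    fun ω => by
      split_ifs with e
      · rw [e, f1]; exact conj_mem NU gN hv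
      · exact conj_mem_cj (aU _)
  obtain ⟨y₂, y2V, hy2⟩ := exists_prod hV fV ind (fun ω => if ω = 1 then h * v * h⁻¹ else o ω * b (c ω) * (o ω)⁻¹)
    fun ω => by
      split_ifs with e
      · rw [e, f1]; exact conj_mem NU hN' hv
      · exact conj_mem_cj (bU _)
  refine ⟨![v, y₁, y₂], fun i => by fin_cases i <;> simp [(mem_inf.1 hv).1, y1V, y2V], fun t ht e => ?_⟩
  have e0 : t * v * t⁻¹ = v := e 0
  have tB : t ∈ N(B) := mem_N_of_finite fun x hx => fp _ (conj_mem nE.norm ht (BE hx)) v hv v1 (by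
    conv_lhs => rw [← e0]
    calc _ = t * (x * v * x⁻¹) * t⁻¹ := by group
      _ = _ := by rw [conj_of_C (cent_symm inf_le_right hx) hv, e0])
  have tN : t ∈ N(N) := zpowers_le.1 (norm_inf (zpowers_le.2 (nE.norm ht)) (norm_C (zpowers_le.2 tB)))
  have tU : t ∈ N(U) := zpowers_le.1 (norm_inf (zpowers_le.2 (hm.norm ht)) (norm_C (zpowers_le.2 tB)))
  have tq : cs N t ∈ N(E ⫽ N) := mim_norm (zpowers_le.2 (nE.norm ht)) (mfun_mem_mim (mem_zpowers t))
  let σ : MulAut ι := actf (E ⫽ N) ⟨_, tq⟩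
  have hσ : ∀ ω, (σ ω : Coset N) = cs N t * ω * (cs N t)⁻¹ := fun _ => rfl
  have nn : ∀ ω, (o (σ ω))⁻¹ * (t * o ω * t⁻¹) ∈ N := fun ω =>
    (cs_eq_iff (EN (oE _)) (EN (conj_mem nE.norm ht (oE _)))).1 (by rw [mfun_conj tN (EN (oE _)), ho, ho, hσ])
  have hf' : ∀ ω, cj t (f ω) ≤ f (σ.toEquiv ω) := fun ω => by
    simp only [f]
    rw [cj_cj, le_cj_iff, cj_cj, show (o (σ.toEquiv ω))⁻¹ * (t * o ω) = (o (σ ω))⁻¹ * (t * o ω * t⁻¹) * t by
      simp [mul_assoc], cj_mul, cj_eq_self tU, cj_eq_self (NU (nn ω))]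
  have k1 := hy1 t (hm.norm ht) σ.toEquiv hf' (e 1)
  have k2 := hy2 t (hm.norm ht) σ.toEquiv hf' (e 2)
  have key : ∀ ω, ω ≠ 1 → c (σ ω) = c ω ∧ (o (σ ω))⁻¹ * (t * o ω * t⁻¹) ∈ B := fun ω ω1 => by
    have s1 : σ ω ≠ 1 := fun e => ω1 (σ.map_eq_one_iff.1 e)
    have l1 := k1 ω
    have l2 := k2 ω
    simp only [MulEquiv.toEquiv_eq_coe, EquivLike.coe_coe, if_neg ω1, if_neg s1] at l1 l2
    have m := nn ω
    generalize hn : (o (σ ω))⁻¹ * (t * o ω * t⁻¹) = n at m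
    have m1 : n * (t * a (c ω) * t⁻¹) * n⁻¹ = a (c (σ ω)) := by
      rw [← hn]
      calc _ = (o (σ ω))⁻¹ * (t * (o ω * a (c ω) * (o ω)⁻¹) * t⁻¹) * o (σ ω) := by group
        _ = _ := by rw [l1]; group
    have m2 : n * (t * b (c ω) * t⁻¹) * n⁻¹ = b (c (σ ω)) := by
      rw [← hn]
      calc _ = (o (σ ω))⁻¹ * (t * (o ω * b (c ω) * (o ω)⁻¹) * t⁻¹) * o (σ ω) := by group
        _ = _ := by rw [l2]; group
    have q1 : n * v * n⁻¹ = v → n ∈ B := fp n m.1 v hv v1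
    have q2 : n * v * n⁻¹ ≠ 1 := conj_eq_one_iff'.not.2 v1
    have q3 : z * v * z⁻¹ ≠ 1 := conj_eq_one_iff'.not.2 v1
    have q4 : z * v * z⁻¹ ≠ v := fun e => v1 (eq_one_of_eq_bot (sr z hz z1) (mem_inf.2 ⟨hv.1, C1_iff.2 e⟩))
    have q5 : n * (t * (z * v * z⁻¹) * t⁻¹) * n⁻¹ ≠ 1 := conj_eq_one_iff'.not.2 (conj_eq_one_iff'.not.2 q3)
    have q6 : n * (t * (z * v * z⁻¹) * t⁻¹) * n⁻¹ ≠ n * v * n⁻¹ := fun e => q4 (by
      conv_rhs at e => rw [← e0]
      simpa using e)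
    have q7 : n * (t * 1 * t⁻¹) * n⁻¹ = 1 := by group
    generalize c ω = i at m1 m2
    generalize c (σ ω) = j at m1 m2
    fin_cases i <;> fin_cases j <;>
      simp only [a, b, Fin.zero_eta, Fin.mk_one, Fin.reduceFinMk, Matrix.cons_val, e0, q7] at m1 m2 ⊢ <;> grind
  have tC := hcol _ tq fun x hx x1 => (key ⟨x, hx⟩ fun e => x1 (congrArg Subtype.val e)).1
  have σ1 : ∀ ω, σ ω = ω := fun ω => Subtype.ext ((hσ ω).trans (conj_of_C tC ω.2))
  have βN : ∀ n ∈ N, n⁻¹ * (t * n * t⁻¹) ∈ B := by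
    let K : Subgroup G :=
      { carrier := {n | n ∈ N ∧ n⁻¹ * (t * n * t⁻¹) ∈ B}
        mul_mem' := fun {x y} hx hy => ⟨mul_mem hx.1 hy.1, by
          have := mul_mem (conj_mem' (cent_norm inf_le_right) hy.1 hx.2) hy.2
          convert this using 1
          group⟩
        one_mem' := ⟨one_mem _, by simp⟩
        inv_mem' := fun {x} hx => ⟨inv_mem hx.1, by
          have := inv_mem (conj_mem (cent_norm inf_le_right) hx.1 hx.2)
          convert this using 1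
          group⟩ }
    have kk : ∀ n ∈ N, t * (n * v * n⁻¹) * t⁻¹ = n * v * n⁻¹ → n ∈ K := fun n hn e =>
      ⟨hn, fp _ (mul_mem (inv_mem hn.1) (conj_mem nE.norm ht hn.1)) v hv v1 (by
        conv_lhs => rw [← e0]
        calc _ = n⁻¹ * (t * (n * v * n⁻¹) * t⁻¹) * n := by group
          _ = _ := by rw [e]; group)⟩
    exact fun n hn => (gen K (fun x hx => ⟨BN hx, mul_mem (inv_mem hx) (conj_mem_N tB hx)⟩)
      (kk g gN (by simpa using k1 1)) (kk h hN' (by simpa using k2 1)) hn).2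
  have βE : ∀ x ∈ E, x⁻¹ * (t * x * t⁻¹) ∈ B := fun x hx => by
    by_cases e : x ∈ N
    · exact βN x e
    let ω : ι := ⟨cs N x, mfun_mem_mim hx⟩
    have m : (o ω)⁻¹ * x ∈ N := (cs_eq_iff (EN (oE _)) (EN hx)).1 (ho ω)
    have l := (key ω fun e' => e ((cs_eq_one_iff (EN hx)).1 (congrArg Subtype.val e'))).2
    rw [σ1] at l
    have := mul_mem (conj_mem' (cent_norm inf_le_right) m l) (βN _ m)
    convert this using 1
    group
  have tE : t ∈ C(E) := C_of_conj fun x hx => by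
    have m : x⁻¹ * (t * x * t⁻¹) ∈ C(E) := mem_C.2 fun y hy => by
      have l : y⁻¹ * (x⁻¹ * (t * x * t⁻¹)) * y ∈ B := by
        have := mul_mem (βE _ (mul_mem hx hy)) (inv_mem (βE y hy))
        convert this using 1
        group
      have := eq_one_of_eq_bot BZ (mem_inf.2 ⟨mul_mem l (inv_mem (βE x hx)), by
        have := cm (inv_mem hy) (BE (βE x hx))
        rwa [commutatorElement_def, inv_inv] at this⟩)
      rw [mul_inv_eq_one] at this
      conv_lhs => rw [← this]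
      group
    exact (inv_mul_eq_one.1 (eq_one_of_eq_bot BZ (mem_inf.2 ⟨βE x hx, CE ⟨nE.le (BE (βE x hx)), m⟩⟩))).symm
  have : t = 1 := by
    by_contra t1
    exact v1 (eq_one_of_eq_bot (sr t (CE ⟨ht, tE⟩) t1) (mem_inf.2 ⟨hv.1, C1_iff.2 e0⟩))
  rw [this]; exact one_mem _

theorem faithful3 (ih : IH3.{u} (Nat.card V)) (hf : A ⊓ C(V) = ⊥) : T3 V A := by
  by_cases hm : MinNorm V A
  · intro hV _ ho _
    by_cases h : ∀ M, M ⊴ A → Abel M → Cyc M
    · exact prim3 hV hm ho hf h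
    · push Not at h
      obtain ⟨M, h1, h2, h3⟩ := h
      obtain ⟨H, U, k1, k2, k3, k4, k5⟩ := blocks_of_noncyc hV hm hf h1 h2 h3
      exact imprim3 ih hV hm ho k1 k2 k3 k4 k5
  · exact red3 ih hm

end

theorem mod_of_amb3 {V A : Type*} [Group V] [Group A] {φ : A →* MulAut V} (h : T3 (hl φ ⊤) (hr φ ⊤))
    (hV : ∀ x y : V, x * y = y * x) (ho : Group.IsSolvable A)
    (hc : ∀ U : Subgroup V, (∀ a, ∀ x ∈ U, φ a x ∈ U) → ∃ W : Subgroup V, (∀ a, ∀ x ∈ W, φ a x ∈ W) ∧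
      U ⊓ W = ⊥ ∧ U ⊔ W = ⊤) : ∃ p : Fin 3 → V, ∀ a, (∀ i, φ a (p i) = p i) → ∀ x, φ a x = x := by
  obtain ⟨p, hp, r⟩ := h (abel_hl.2 (cent_iff.2 fun a _ b _ => hV a b)) hr_norm_top (solv_hr.2 solv_of_solv)
    fun U hU hn => by
      obtain ⟨U, -, rfl⟩ := exists_hl hU
      obtain ⟨W, h1, h2, h3⟩ := hc U fun a => hr_norm_iff.1 hn a (mem_top a)
      exact ⟨hl φ W, hl_le_hl.2 le_top, hr_norm_iff.2 fun a _ => h1 a, by rw [← hl_inf, h2, hl_bot],
        by rw [← hl_sup, h3]⟩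
  choose q _ hq using fun i => mem_hl.1 (hp i)
  refine ⟨q, fun a h1 x => ?_⟩
  have := r _ (inr_mem_hr.2 (mem_top a)) fun i => by rw [← hq, inr_conj_inl, h1]
  have := conj_of_C this (inl_mem_hl.2 (mem_top x))
  rw [inr_conj_inl] at this
  exact SemidirectProduct.inl_injective this

theorem ih3_all (n : ℕ) : IH3.{u} n := by
  induction n with
  | zero => intro G _ _ V A h; omega
  | succ n ih =>
    intro G _ _ V A hlt hV hn ho hc
    haveI : Finite (MulAut V) := Finite.of_injective _ (DFunLike.coe_injective (F := MulAut V))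
    let φ := (mim (actf V) A).subtype
    have cV : Nat.card (hl φ ⊤) = Nat.card V := by simp
    obtain ⟨p, r⟩ := mod_of_amb3 (φ := φ) (faithful3 (fun G _ _ V A h => ih G V A (by omega)) (by
        refine eq_bot_iff.2 fun t ht => ?_
        obtain ⟨a, -, rfl⟩ := mem_hr.1 ht.1
        have : a = 1 := Subtype.ext (MulEquiv.ext fun x => by
          have := conj_of_C ht.2 (inl_mem_hl.2 (mem_top x))
          rw [inr_conj_inl] at this
          exact SemidirectProduct.inl_injective this)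
        rw [this, map_one]; exact one_mem _))
      (fun x y => Subtype.ext (comm_of_cent hV x.2 y.2)) ho.mim fun U hU => by
        obtain ⟨W, h1, h2, h3, h4⟩ := hc (U.map V.subtype) (map_subtype_le _)
          (norm_map_subtype_of_actf hn fun a ha => hU ⟨_, mfun_mem_mim ha⟩)
        refine ⟨W.subgroupOf V, ?_, ?_, ?_⟩
        · rintro ⟨_, ht⟩ x hx
          obtain ⟨a, ha, -, rfl⟩ := mem_mim.1 ht
          exact mem_subgroupOf.2 (actf_apply (hn ha) x ▸ conj_mem h2 ha hx)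
        · refine eq_bot_iff.2 fun x hx => Subtype.ext (eq_one_of_eq_bot h3 ⟨mem_map_of_mem _ hx.1, hx.2⟩)
        · apply map_injective V.subtype_injective
          rw [Subgroup.map_sup, subgroupOf_map_subtype, inf_eq_left.2 h1, h4, ← MonoidHom.range_eq_map,
            range_subtype]
    refine ⟨fun i => p i, fun i => (p i).2, fun a ha h1 => C_of_conj fun x hx => ?_⟩
    have := r ⟨_, mfun_mem_mim ha⟩ (fun i => Subtype.ext ((actf_apply (hn ha) (p i)).trans (h1 i))) ⟨x, hx⟩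
    exact (actf_apply (hn ha) ⟨x, hx⟩).symm.trans (congrArg Subtype.val this)

theorem main3 {G : Type*} [Group G] [Finite G] (V A : Subgroup G) : T3 V A :=
  ih3_all _ G V A (Nat.lt_succ_self _)

theorem mod3 {V A : Type*} [Group V] [Group A] [Finite V] [Finite A] (φ : A →* MulAut V)
    (hV : ∀ x y : V, x * y = y * x) (ho : Group.IsSolvable A)
    (hc : ∀ U : Subgroup V, (∀ a, ∀ x ∈ U, φ a x ∈ U) → ∃ W : Subgroup V, (∀ a, ∀ x ∈ W, φ a x ∈ W) ∧
      U ⊓ W = ⊥ ∧ U ⊔ W = ⊤) : ∃ p : Fin 3 → V, ∀ a, (∀ i, φ a (p i) = p i) → ∀ x, φ a x = x :=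
  mod_of_amb3 (main3 _ _) hV ho hc

end H21.Rb
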