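import Cfsg.Agent.H21.HHX

/-! Turull's theorem (prime order), part 1: norm tricks. `Tu.Out X Γ W E B`: every proper subgroup over `Φ(W)` has a
`Γ`-conjugate containing none of `E`, `⁅W, X⁆`, `⁅W, B⁆`; `out1` (commuting case), `out2` (junction). -/

set_option autoImplicit false

namespace H21.Tu
open Cfsg H18 H19 H5 H1 Subgroup
open scoped commutatorElement

variable {G : Type*} [Group G] [Finite G] {B D E K L N U V W X Y Γ : Subgroup G} {p q : ℕ} {b c d g u v x : G}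

theorem exists_nm (hW : Abel W) (hX : X ≤ N(W)) (hv : v ∈ W) : ∃ w ∈ C(X),
    (∀ V : Subgroup G, (∀ x ∈ X, x * v * x⁻¹ ∈ V) → w ∈ V) ∧
    ∀ V : Subgroup G, (∀ x ∈ X, x ≠ 1 → x * v * x⁻¹ ∈ V) → w ∈ V → v ∈ V := by
  classical
  have := Fintype.ofFinite X
  letI : CommGroup W := { (inferInstance : Group W) with
    mul_comm := fun a b => Subtype.ext (comm_of_cent hW a.2 b.2) }
  let f : X → W := fun x => ⟨x * v * x⁻¹, conj_mem hX x.2 hv⟩
  refine ⟨((∏ x, f x : W) : G), mem_C.2 fun y hy => ?_, fun V h => ?_, fun V h hw => ?_⟩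
  · have e : mfun (actf W) y (∏ x, f x) = ∏ x, f x := by
      rw [map_prod]
      refine Fintype.prod_equiv (Equiv.mulLeft ⟨y, hy⟩) _ _ fun x => Subtype.ext ?_
      rw [actf_apply (hX hy)]
      simp only [f, Equiv.coe_mulLeft, coe_mul, InvMemClass.coe_inv]
      group
    have e2 := congrArg Subtype.val e
    rw [actf_apply (hX hy)] at e2
    exact mul_inv_eq_iff_eq_mul.1 e2
  · exact (V.subgroupOf W).prod_mem (t := Finset.univ) (f := f) fun x _ => h x x.2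
  · have h1 : ∏ x ∈ Finset.univ.erase 1, f x ∈ V.subgroupOf W := (V.subgroupOf W).prod_mem fun x hx =>
      h x x.2 fun e => Finset.ne_of_mem_erase hx (Subtype.ext e)
    have h2 : ∏ x, f x ∈ V.subgroupOf W := hw
    rw [← Finset.mul_prod_erase _ _ (Finset.mem_univ 1), mul_mem_cancel_right h1] at h2
    simpa [f, mem_subgroupOf] using h2

theorem fpf (hX : (Nat.card X).Prime) (cB : Cop X B) (e : ⁅B, X⁆ = B) (h1 : ⁅B, B⁆ ≤ N) (h2 : N ≤ B) (hn : X ≤ N(N))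
    (hc : c ∈ B) (hx : x ∈ X) (x1 : x ≠ 1) (h : x * c * x⁻¹ * c⁻¹ ∈ N) : c ∈ N := by
  have nB : B ≤ N(N) := norm_of_der_le h1 h2
  have a := cB.quo_cent_eq_bot hn nB ((cB.cent_le_of_comm_eq e).trans h1)
  rw [← cs_eq_one_iff (nB hc), ← mem_bot, ← a]
  refine mem_inf.2 ⟨mfun_mem_mim hc, ?_⟩
  rw [← zpowers_eq_of_prime hX hx x1, mim_zpowers (hn hx), C_zpowers, mem_C1]
  have := cs_eq_one h
  rw [mfun_mul (conj_mem (le_N) (hn hx) (nB hc)) (inv_mem (nB hc)), mfun_conj (hn hx) (nB hc), mfun_inv (nB hc)] at this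
  rw [mul_inv_eq_one, mul_inv_eq_iff_eq_mul] at this
  exact this.symm

theorem idx (hX : (Nat.card X).Prime) (cB : Cop X B) (e : ⁅B, X⁆ = B) (h1 : ⁅B, B⁆ ≤ N) (h2 : N < B) (hn : X ≤ N(N)) :
    (Nat.card X + 1) * Nat.card N ≤ Nat.card B := by
  have nB : B ≤ N(N) := norm_of_der_le h1 h2.le
  have a := cB.quo_cent_eq_bot hn nB ((cB.cent_le_of_comm_eq e).trans h1)
  have c1 : Nat.card (X ⫽ N) = Nat.card X :=
    card_quo_of_disj hn (eq_bot_iff.2 ((inf_le_inf_left _ h2.le).trans cB.inf_eq_bot.le))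
  have b1 := (H1.semireg_of_prime (c1 ▸ hX) a).dvd_pred (mim_norm cB.norm)
  have b2 := card_quo_mul (⟨h2.le, nB⟩ : N ⊴ B)
  have b3 : 1 < Nat.card (B ⫽ N) := (one_lt_card_iff_ne_bot _).2 fun e => h2.not_ge ((quo_eq_bot_iff nB).1 e)
  have b4 := Nat.le_of_dvd (by omega) b1
  rw [← b2, mul_comm, ← c1]
  exact Nat.mul_le_mul_left _ (by omega)

theorem exists_not_mem {ι : Type*} [Fintype ι] [Nonempty ι] (f : ι → Subgroup G) (h1 : 1 < Fintype.card ι)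
    (h : ∀ i, Fintype.card ι * Nat.card (f i) ≤ Nat.card B) : ∃ b ∈ B, ∀ i, b ∉ f i := by
  classical
  by_contra hc
  push Not at hc
  have a1 : (els B).erase 1 ⊆ Finset.univ.biUnion fun i => (els (f i)).erase 1 := fun b hb => by
    obtain ⟨i, hi⟩ := hc b (mem_els.1 (Finset.mem_of_mem_erase hb))
    exact Finset.mem_biUnion.2 ⟨i, Finset.mem_univ _, Finset.mem_erase.2 ⟨Finset.ne_of_mem_erase hb, mem_els.2 hi⟩⟩
  have a2 := (Finset.card_le_card a1).trans Finset.card_biUnion_le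
  have a3 : ∀ H : Subgroup G, ((els H).erase 1).card + 1 = Nat.card H := fun H => by
    rw [Finset.card_erase_add_one (mem_els.2 H.one_mem), card_els]
  have a4 : ∑ i, ((els (f i)).erase 1).card + Fintype.card ι = ∑ i, Nat.card (f i) := by
    rw [← Finset.sum_congr rfl fun i _ => a3 (f i), Finset.sum_add_distrib]; simp
  have a5 : Fintype.card ι * ∑ i, Nat.card (f i) ≤ Fintype.card ι * Nat.card B := by
    rw [Finset.mul_sum]
    exact (Finset.sum_le_sum fun i _ => h i).trans (by simp)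
  have a6 := Nat.le_of_mul_le_mul_left a5 (by omega)
  have := a3 B
  omega

theorem pick (h : MinNorm W Γ) (hK : K < W) (hu : u ∈ W) (u1 : u ≠ 1) : ∃ g ∈ Γ, u ∉ cj g K := by
  by_contra hc
  push Not at hc
  have hn : Γ ≤ N(W ⊓ ⨅ g : Γ, cj g K) := norm_inf h.norm (norm_iff.2 fun a ha y hy => mem_iInf.2 fun g => by
    have := mem_iInf.1 hy ⟨a⁻¹ * g, mul_mem (inv_mem ha) g.2⟩
    rw [mem_cj] at this ⊢
    convert this using 1
    group)
  rcases h.eq_bot_or inf_le_left hn with e | e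
  · exact u1 (mem_bot.1 (e ▸ ⟨hu, mem_iInf.2 fun g => hc g g.2⟩))
  · exact hK.not_ge (e.ge.trans (inf_le_right.trans ((iInf_le _ ⟨1, Γ.one_mem⟩).trans (by simp))))

/-- the common part of the two norm tricks -/
theorem y0 (hX : (Nat.card X).Prime) (hW : Abel W) (hXW : X ≤ N(W)) (hB : PiGrp {q} B) (cB : Cop X B) (e : ⁅B, X⁆ = B)
    (hBW : B ≤ N(W)) (hK : K ≤ W) (hE : E ≤ W ⊓ C(X)) (h1 : ⁅W, X⁆ ≤ K) (h2 : ¬ ⁅W, B⁆ ≤ K)
    (H : ∀ c ∈ B, E ≤ cj c K ∨ ⁅W, X⁆ ≤ cj c K) : ∃ N < B, Φ(B) ≤ N ∧ X ≤ N(N) ∧ (∀ c ∈ B, c ∉ N → E ≤ cj c K) ∧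
      ∀ u ∈ E, u ∉ K → ∀ b ∈ B, b ∉ N → ∃ w ∈ W ⊓ C(X), w ∉ cj b K ∧
        ∀ V : Subgroup G, (∀ x ∈ X, x * (b * u * b⁻¹) * x⁻¹ ∈ V) → w ∈ V := by
  have hq : q.Prime := hB.prime (by rintro rfl; exact h2 (by simp))
  have n : ∀ {K}, K ≤ W → ⁅W, X⁆ ≤ K → X ≤ N(K) := fun a b =>
    norm_iff_comm_le'.2 ((comm_mono a le_rfl).trans b)
  have hXK := n hK h1
  have a1 : ¬ B ≤ N(K) := fun c => h2 (comm_le_of_comm_eq c hXK (hW.norm hK) e (comm_le_left hBW) h1)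
  have a2 : (B ⊓ N(K)) ⊔ Φ(B) < B := lt_of_le_of_ne (sup_le inf_le_left phi_le) fun c =>
    a1 ((phi_nongen inf_le_left c.ge).ge.trans inf_le_right)
  have a3 : X ≤ N((B ⊓ N(K)) ⊔ Φ(B)) := norm_sup (norm_inf cB.norm (norm_N hXK)) (norm_phi cB.norm)
  have a4 := (hB.der_le_phi hq).trans (le_sup_right (a := B ⊓ N(K)))
  obtain ⟨x, hx, x1⟩ := exists_mem_ne_one' (ne_bot_of_prime hX)
  have a5 : ∀ c ∈ B, c ∉ (B ⊓ N(K)) ⊔ Φ(B) → E ≤ cj c K := fun c hc hn => (H c hc).resolve_right fun k => hn <| by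
    have k1 := cj_eq_self (n (cj_le_of_mem_N hK (hBW hc)) k hx)
    refine inv_mem_iff.1 (fpf hX cB e a4 a2.le a3 (inv_mem hc) hx x1 (mem_sup_left (mem_inf.2 ⟨mul_mem (conj_mem cB.norm hx
      (inv_mem hc)) (inv_mem (inv_mem hc)), mem_N_iff_cj.2 ?_⟩)))
    rw [inv_inv, cj_mul, cj_mul, cj_eq_iff.1 k1 |>.symm, cj_mul, cj_inv_cj, cj_eq_self (hXK hx)]
  refine ⟨_, a2, le_sup_right, a3, a5, fun u hu uK b hb bN => ?_⟩
  obtain ⟨w, w1, w2, w3⟩ := exists_nm hW hXW (conj_mem hBW hb (hE hu).1)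
  refine ⟨w, ⟨w2 W fun x hx => conj_mem hXW hx (conj_mem hBW hb (hE hu).1), w1⟩, fun c => uK ?_, w2⟩
  refine conj_mem_cj_iff.1 (w3 _ (fun y hy y1 => ?_) c)
  have k := a5 _ (mul_mem (conj_mem cB.norm hy (inv_mem hb)) (inv_mem (inv_mem hb)))
    (fun c => bN (inv_mem_iff.1 (fpf hX cB e a4 a2.le a3 (inv_mem hb) hy y1 c))) hu
  have k2 := mem_C.1 (hE hu).2 y hy
  rw [mem_cj] at k ⊢
  convert k using 1
  conv_lhs => rw [show u = y⁻¹ * u * y by rw [mul_assoc, ← k2]; group]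
  group

def Out (X Γ W E B : Subgroup G) : Prop :=
  ∀ K, Φ(W) ≤ K → K < W → ∃ g ∈ Γ, ¬ E ≤ cj g K ∧ ¬ ⁅W, X⁆ ≤ cj g K ∧ ¬ ⁅W, B⁆ ≤ cj g K

theorem out_of (hm : MinNorm W Γ) (hE : E ≤ W) (E1 : E ≠ ⊥) (hB : B ≤ Γ) (hEB : E ≤ ⁅W, B⁆) (hEU : E ≤ U) (hBL : B ≤ L)
    (h : ∀ K ≤ W, ¬ E ≤ K → ⁅W, X⁆ ≤ K → ¬ ⁅W, B⁆ ≤ K → (∀ c ∈ B, E ≤ cj c K ∨ ⁅W, X⁆ ≤ cj c K) → False) :
    Out X Γ W U L := fun K _ hK => by
  by_contra hc
  push Not at hc
  have H : ∀ g ∈ Γ, E ≤ cj g K ∨ ⁅W, X⁆ ≤ cj g K := fun g hg => by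
    by_contra k
    push Not at k
    exact k.1 (hEB.trans ((comm_mono le_rfl hBL).trans (hc g hg (fun c => k.1 (hEU.trans c)) k.2)))
  obtain ⟨u, hu, u1⟩ := exists_mem_ne_one' E1
  obtain ⟨g, hg, ug⟩ := pick hm hK (hE hu) u1
  exact h (cj g K) (cj_le_of_mem_N hK.le (hm.norm hg)) (fun c => ug (c hu)) ((H g hg).resolve_left fun c => ug (c hu))
    (fun c => ug (c (hEB hu))) fun c hc => cj_cj (g := c) ▸ H _ (mul_mem (hB hc) hg)

theorem out1 (hX : (Nat.card X).Prime) (hW : Abel W) (hm : MinNorm W Γ) (hXW : X ≤ N(W)) (hB : PiGrp {q} B)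
    (cB : Cop X B) (e : ⁅B, X⁆ = B) (hBΓ : B ≤ Γ) (hV : V ≤ ⁅W, B⁆) (hBV : B ≤ N(V)) (hXV : X ≤ N(V))
    (h1 : V ⊓ C(X) ≠ ⊥) (hU : V ⊓ C(X) ≤ U) (hBL : B ≤ L) : Out X Γ W U L := by
  have hBW := hBΓ.trans hm.norm
  have hVW := hV.trans (comm_le_left hBW)
  refine out_of hm (inf_le_left.trans hVW) h1 hBΓ (inf_le_left.trans hV) hU hBL fun K hK k1 k2 k3 H => ?_
  obtain ⟨N, N1, -, -, N2, N3⟩ := y0 hX hW hXW hB cB e hBW hK (inf_le_inf_right _ hVW) k2 k3 H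
  obtain ⟨u, hu, uK⟩ := SetLike.not_le_iff_exists.1 k1
  obtain ⟨b, hb, bN⟩ := SetLike.exists_of_lt N1
  obtain ⟨w, w1, w2, w3⟩ := N3 u hu uK b hb bN
  exact w2 (N2 b hb bN ⟨w3 V fun x hx => conj_mem hXV hx (conj_mem hBV hb hu.1), w1.2⟩)

/-- elements of `B` centralized by `g` modulo `N` -/
def fx (hN : N ⊴ B) (hg : g ∈ N(B)) : Subgroup G where
  carrier := {b | b ∈ B ∧ g * b * g⁻¹ * b⁻¹ ∈ N}
  one_mem' := ⟨B.one_mem, by simpa using N.one_mem⟩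
  mul_mem' := fun {a b} ha hb => ⟨mul_mem ha.1 hb.1, by
    convert mul_mem ha.2 (conj_mem hN.norm ha.1 hb.2) using 1; group⟩
  inv_mem' := fun {a} ha => ⟨inv_mem ha.1, by
    convert conj_mem' hN.norm ha.1 (inv_mem ha.2) using 1; group⟩

theorem out2 (hX : (Nat.card X).Prime) (hW : Abel W) (hm : MinNorm W Γ) (hXW : X ≤ N(W)) (hB : PiGrp {q} B)
    (cB : Cop X B) (e : ⁅B, X⁆ = B) (hBΓ : B ≤ Γ) (eW : ⁅W, B⁆ = W) (cD : Cop X D) (hDX : D ≤ C(X)) (hDB : D ≤ N(B))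
    (eD : ⁅B, D⁆ = B) (hE : E ≤ W ⊓ C(X)) (E1 : E ≠ ⊥) (hDE : D ≤ N(E)) (hE2 : ⁅W ⊓ C(X), D⁆ ≤ E) :
    Out X Γ W E B := by
  classical
  have := Fintype.ofFinite X
  have hBW := hBΓ.trans hm.norm
  refine out_of hm (hE.trans inf_le_left) E1 hBΓ (hE.trans (inf_le_left.trans eW.ge)) le_rfl le_rfl
    fun K hK k1 k2 k3 H => ?_
  obtain ⟨N, N1, N0, N4, N2, N3⟩ := y0 hX hW hXW hB cB e hBW hK hE k2 k3 H
  have hq : q.Prime := hB.prime N1.ne_bot
  have a4 := (hB.der_le_phi hq).trans N0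
  have hN : N ⊴ B := nml_of_der_le a4 N1.le
  obtain ⟨d, hd, d1⟩ : ∃ d, ∃ hd : d ∈ D, ¬ B ≤ fx hN (hDB hd) := by
    by_contra c
    push Not at c
    refine N1.not_ge (eD.ge.trans (comm_comm.le.trans (commutator_le.2 fun d hd b hb => (c d hd hb).2)))
  have cm' : ∀ x ∈ X, x * d = d * x := fun x hx => mem_C.1 (hDX hd) x hx
  have nn : ∀ x : X, (x : G) * d ∈ N(B) := fun x => mul_mem (cB.norm x.2) (hDB hd)
  have lt : ∀ x : X, fx hN (nn x) < B := fun x => lt_of_le_of_ne (fun b hb => hb.1) fun c => by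
    by_cases x1 : (x : G) = 1
    · exact d1 fun b hb => ⟨hb, by simpa [x1] using (c.ge hb).2⟩
    have k : ∀ n : ℕ, ∀ b ∈ B, (x * d) ^ n * b * ((x * d) ^ n)⁻¹ * b⁻¹ ∈ N := fun n => by
      induction n with
      | zero => intro b _; simpa using N.one_mem
      | succ n ih =>
        intro b hb
        convert mul_mem (ih _ (conj_mem_N (nn x) hb)) (c.ge hb).2 using 1
        rw [pow_succ]
        generalize ((x : G) * d) ^ n = t
        group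
    refine N1.not_ge fun b hb => fpf hX cB e a4 N1.le N4 hb (pow_mem x.2 (orderOf d)) (fun c => x1 ?_) ?_
    · exact orderOf_eq_one_iff.1 (((cD.cop.coprime_dvd_left (orderOf_dvd_card x.2)).coprime_dvd_right
        (orderOf_dvd_card hd)).eq_one_of_dvd (orderOf_dvd_of_pow_eq_one c))
    · have := k (orderOf d) b hb
      rwa [Commute.mul_pow (cm' x x.2), pow_orderOf_eq_one, mul_one] at this
  obtain ⟨b, hb, b1⟩ := exists_not_mem (B := B) (fun i : Option X => i.elim N fun x => fx hN (nn x))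
    (by have := hX.one_lt; rw [Fintype.card_option, ← Nat.card_eq_fintype_card]; omega) fun i => by
      rw [Fintype.card_option, ← Nat.card_eq_fintype_card]
      rcases i with _ | x
      · exact idx hX cB e a4 N1 N4
      refine idx hX cB e (fun y hy => ⟨der_le hy, mul_mem (a4 (conj_mem_N (norm_der le_rfl (nn x)) hy))
        (inv_mem (a4 hy))⟩) (lt x) (norm_iff.2 fun y hy c hc => ⟨conj_mem cB.norm hy hc.1, ?_⟩)
      have k1 : y * (x * d) = x * d * y := by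
        rw [← mul_assoc, comm_of_cent (abel_of_prime hX) hy x.2, mul_assoc, cm' y hy, mul_assoc]
      convert conj_mem N4 hy hc.2 using 1
      conv_lhs => rw [show (x : G) * d = y * (x * d) * y⁻¹ by rw [k1]; group]
      group
  obtain ⟨u, hu, uK⟩ := SetLike.not_le_iff_exists.1 k1
  have hb' := inv_mem hb
  have bN : b⁻¹ ∉ N := fun c => b1 none (inv_mem_iff.1 c)
  obtain ⟨w, w1, w2, w3⟩ := N3 u hu uK _ hb' bN
  have k4 : w ∈ cj d⁻¹ (cj b⁻¹ K) := w3 _ fun x hx => by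
    have k5 := N2 _ (mul_mem (conj_mem_N (nn ⟨x, hx⟩) hb) hb') (fun c => b1 (some ⟨x, hx⟩) ⟨hb, c⟩)
      (conj_mem hDE hd hu)
    have k6 := mem_C.1 (hE (conj_mem hDE hd hu)).2 x hx
    rw [mem_cj] at k5
    rw [mem_cj, mem_cj]
    convert k5 using 1
    rw [show d * u * d⁻¹ = x * (d * u * d⁻¹) * x⁻¹ by rw [k6]; group]
    simp only [inv_inv, mul_inv_rev, ← mul_assoc]
    rw [mul_assoc b d x, ← cm' x hx, mul_assoc _ x⁻¹ d⁻¹, ← mul_inv_rev, ← cm' x hx]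
    group
  have k7 := N2 _ hb' bN (hE2 (commutator_mem_commutator w1 hd))
  rw [mem_cj, inv_inv] at k4
  refine w2 ?_
  convert mul_mem k7 k4 using 1
  rw [commutatorElement_def]; group

end H21.Tu
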