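import Cfsg.Agent.H21.Tu1

/-! Turull's theorem (prime order), part 2: `cent_of_fpf` (non-faithful Hall-Higman-Shult), `chain`, and `ex`
(the Fermat exception cannot occur under an odd group `B = ⁅B, X⁆`). -/

set_option autoImplicit false

namespace H21.Tu
open Cfsg H18 H19 H5 H1 Subgroup
open scoped commutatorElement

variable {G : Type*} [Group G] [Finite G] {A A₁ A₂ B D E K L N Q U V W X Y Γ : Subgroup G} {p q : ℕ}

theorem quo_faith (hQ : Q ≤ N(K)) (hV : V ≤ N(K)) (hn : Q ≤ N(V)) (hd : V ⊓ K = ⊥) (hK : Q ⊓ C(V) ≤ K) :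
    Q ⫽ K ⊓ C(V ⫽ K) = ⊥ := by
  rw [← mim_inf_mpre, quo_eq_bot_iff (inf_le_left.trans hQ)]
  exact (le_inf inf_le_left (cent_of_quo_cent (inf_le_left.trans hQ) hV (inf_le_left.trans hn) hd
    ((mim_mono inf_le_right).trans mim_mpre_le))).trans hK

theorem cent_of_fpf (hX : (Nat.card X).Prime) (hQ : PiGrp {q} Q) (c : Cop X Q) (hV : Solv V) (c1 : Cop X V)
    (c2 : Cop Q V) (h1 : V ⊓ C(X) = ⊥) (h : q ≠ 2 ∨ ⁅Q, Q⁆ ≤ C(V)) : ⁅Q, X⁆ ≤ C(V) := by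
  have nQ : Q ≤ N(Q ⊓ C(V)) := norm_inf le_N (norm_C c2.norm)
  have nX : X ≤ N(Q ⊓ C(V)) := norm_inf c.norm (norm_C c1.norm)
  have nV : V ≤ N(Q ⊓ C(V)) := cent_norm (cent_symm inf_le_right)
  by_contra hc
  have c0 : Nat.card (X ⫽ (Q ⊓ C(V))) = Nat.card X :=
    card_quo_of_disj nX (eq_bot_iff.2 ((inf_le_inf_left _ inf_le_left).trans c.inf_eq_bot.le))
  obtain ⟨a1, -, a2⟩ := fermat_of_fpf (c0 ▸ hX) hQ.mim c.mim
    (fun e => hc (((comm_le_iff_quo nQ nX).2 e).trans inf_le_right)) hV.mim c1.mim c2.mim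
    (c1.quo_cent_eq_bot nX nV (h1.le.trans bot_le))
    (quo_faith nQ nV c2.norm (eq_bot_iff.2 ((inf_le_inf_left _ inf_le_left).trans c2.inf_eq_bot'.le)) le_rfl)
  exact a2 ((abel_quo_iff nQ).2 (le_inf der_le (h.resolve_left (· a1))))

theorem chain (hA : Abel A) (hp : PiGrp {p} A) (c : Cop A U) {a : G} (ha : a ∈ A) (hK : K ≤ C(U)) (e : K ⊔ zpowers a = A)
    (h1 : A₁ ≤ A) (h2 : A₂ ≤ A) (h : ⁅⁅U, A₁⁆, A₂⁆ = ⊥) : A₁ ≤ C(U) ∨ A₂ ≤ C(U) := by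
  have hKA : K ≤ A := e ▸ le_sup_left
  have nA := hA.norm hKA
  have cy : Cyc (A ⫽ K) := by
    rw [← e, quo_self_sup ((zpowers_le.2 ha).trans nA), mim_zpowers (nA ha)]; exact cyc_zpowers
  have k : ∀ {B₁ B₂}, B₁ ≤ A → B₂ ≤ A → ⁅⁅U, B₁⁆, B₂⁆ = ⊥ → B₁ ⫽ K ≤ B₂ ⫽ K → B₁ ≤ C(U) := fun a b d f =>
    cent_symm ((c.left a).cent_of_comm_cent (cent_symm (((quo_le_quo_iff (a.trans nA) (b.trans nA)).1 f).trans
      (sup_le (cent_symm (comm_eq_bot_iff.1 d)) (hK.trans (C_anti (comm_le_left (a.trans c.norm))))))))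
  refine (cy.total hp.mim (mim_mono h1) (mim_mono h2)).imp (k h1 h2 h) (k h2 h1 ?_)
  rw [comm_comm (A := U)]
  refine comm_comm.trans (comm_comm.trans ?_)
  exact three_subgroup h (by rw [comm_eq_bot_iff.2 (cent_mono hA h1 h2)]; simp)

theorem ex (hX : (Nat.card X).Prime) (oX : Odd (Nat.card X)) (oB : Odd (Nat.card B)) (sB : Solv B) (cB : Cop X B)
    (e : ⁅B, X⁆ = B) (cL : Cop X L) (cBL : Cop B L) (hV : Solv V) (c1 : Cop X V) (c2 : Cop L V) (h0 : V ⊓ C(X) = ⊥)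
    (hK : K = L ⊓ C(V)) (hBK : B ≤ N(K)) (h2 : ⁅⁅L, L⁆, L⁆ ≤ K) (h3 : ⁅cm L L K, X⁆ ≤ K)
    (h4 : ∀ N, ⁅L, L⁆ ⊓ K ≤ N → N < ⁅L, L⁆ → N ≤ K) (h5 : ¬ ⁅L, B⁆ ≤ cm L L K) : ⁅L, L⁆ ≤ C(V) := by
  classical
  have := Fintype.ofFinite G
  have nL : L ≤ N(K) := hK ▸ norm_inf le_N (norm_C c2.norm)
  have nX : X ≤ N(K) := hK ▸ norm_inf cL.norm (norm_C c1.norm)
  have hKL : K ≤ L := hK ▸ inf_le_left
  have hsd : SD L X (L ⊔ X) := ⟨cL.norm, cL.inf_eq_bot', rfl⟩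
  refine cent_of_forall_lift (L := L ⊔ X) hV (sup_le c2.norm c1.norm) ((c2.cop.symm.mul_right
    c1.cop.symm).coprime_dvd_right (Nrm2.card_sup_dvd (Or.inr cL.norm))) (der_le.trans le_sup_left) fun ℓ _ χ hχ e' => ?_
  have k1 : K ≤ charKer χ := (le_charKer_iff_sum hχ (hKL.trans le_sup_left)).2 (by
    have := e' ⊥ bot_le
    rw [sum_els_bot, card_bot, C_bot, inf_top_eq, Nat.cast_one, one_mul] at this
    rw [e' K (hKL.trans le_sup_left), this, inf_eq_left.2 (cent_symm (hK ▸ inf_le_right))])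
  refine red hχ le_rfl le_sup_right (der_le.trans le_sup_left) (by rw [e' X le_sup_right, h0]; simp)
    fun ψ₀ hψ₀ k2 hs => by_contra fun hne => h5 ?_
  obtain ⟨θ, hθ, h1⟩ := exists_irr_under le_sup_left (chars_of_irr hψ₀) fun e => irr_apply_one_ne_zero hψ₀ (by simp [e])
  obtain ⟨hB, ψ, hψ, e1, e2⟩ := cliff' hsd cL.cop.symm hψ₀ hθ h1 rfl ((abel_of_prime hX).mono inf_le_left) hs
  have hB' := eq_of_prime hX inf_le_left hB
  rw [hB'] at hψ e2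
  have k : ¬ ⁅L, L⁆ ≤ cfker L θ := fun c => hne fun y hy => mem_ker_of_class hsd.nml hψ₀ hθ h1 (der_le hy) fun φ hφ => by
    rw [cfclass_sd hsd (cf_of_irr hθ)] at hφ
    obtain ⟨g, hg, rfl⟩ := mem_cfclass.1 hφ
    rw [(mem_inertia.1 (hB'.ge hg).2).2]; exact c hy
  have k3 : K ≤ cfker L θ := (le_inf hKL ((le_inf (hKL.trans le_sup_left) k1).trans k2)).trans
    (ker_le_of_class hsd.nml hψ₀ hθ h1 self_mem_cfclass)
  have k4 : zth L θ = cm L L K := le_antisymm (le_cm nL nL cm_le ((le_inf (comm_mono cm_le le_rfl) (comm_zth_le hθ)).trans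
    (h4 _ (inf_le_inf_left _ k3) (lt_of_le_of_ne inf_le_left fun c => k (c.ge.trans inf_le_right)))))
    (le_zth hθ cm_le ((comm_cm_le nL nL).trans k3))
  have nB : B ≤ N(cm L L K) := norm_cm cBL.norm cBL.norm hBK
  have k5 : ⁅cm L L K, B⁆ ≤ K := comm_le_of_comm_eq hBK nX (cm_le.trans nL) e (comm_le_left nB) h3
  have k6 : B ≤ inertia L θ := fun b hb => mem_inertia.2 ⟨cBL.norm hb, funext fun y => by
    rw [cfcj_apply]
    by_cases hy : y ∈ cm L L K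
    · rw [show b⁻¹ * y * b = ⁅y, b⁻¹⁆⁻¹ * y by rw [commutatorElement_def]; group,
        cfker_mul (k3 (inv_mem (k5 (commutator_mem_commutator hy (inv_mem hb)))))]
    · have d : ⁅L, L⁆ ≤ zth L θ := le_zth hθ der_le (h2.trans k3)
      rw [vanish_off_zth hθ d (x := y) (k4 ▸ hy), vanish_off_zth hθ d (x := b⁻¹ * y * b)
        (k4 ▸ fun c => hy (by simpa [mul_assoc] using conj_mem nB hb c))]⟩
  have nY : B ⊔ X ≤ N(L) := sup_le cBL.norm cL.norm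
  have cY : (Nat.card L).Coprime (Nat.card ↥(B ⊔ X)) :=
    (cBL.cop.symm.mul_right cL.cop.symm).coprime_dvd_right (Nrm2.card_sup_dvd (Or.inr cB.norm))
  have sd2 : SD L (B ⊔ X) (L ⊔ (B ⊔ X)) := sd_sup nY (inf_eq_bot_of_coprime' cY)
  obtain ⟨η, hη, e3⟩ := H6.P.exists_ext_coprime sd2.nml hθ (sup_le (le_inertia (cf_of_irr hθ))
    (sup_le k6 (hB'.ge.trans inf_le_right))) (by rwa [sd2.relIndex])
  have l1 : L ⊔ X ≤ L ⊔ (B ⊔ X) := sup_le_sup_left le_sup_right _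
  have e4 : res L (res (L ⊔ X) η) = θ := by rw [res_res le_sup_left, e3]
  obtain ⟨β, hβ, -, e5⟩ := H8.exists_mul_of_ext le_sup_left hsd.nml.norm (res_mem_chars l1 (chars_of_irr hη))
    (e4 ▸ hθ) hψ (by rw [e1, e4, ip_irr_self hθ]; exact one_ne_zero)
  have d1 : (L ⊔ B) ⊓ X = ⊥ := inf_eq_bot_of_coprime' ((cL.cop.symm.mul_left cB.cop.symm).coprime_dvd_left
    (Nrm2.card_sup_dvd (Or.inr cBL.norm)))
  have m1 := chars_mul (infl_mem_chars (norm_sup cL.norm cB.norm) d1 (res_mem_chars le_sup_right (chars_of_irr hβ)))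
    (sup_assoc L B X ▸ chars_of_irr hη)
  have m2 := char_prime_sdprod_rfix0 m1 le_sup_right hX oX (by
    rw [← e2, e5]
    exact Finset.sum_congr rfl fun x hx => by
      rw [Pi.mul_apply, Pi.mul_apply, infl_of_mem d1 (res_supp _ _) (mem_els.1 hx), res_of_mem _ (mem_els.1 hx),
        res_of_mem _ (mem_sup_right (mem_els.1 hx))]) B (le_sup_right.trans le_sup_left) cB sB oB
  rw [e] at m2
  have m3 := (comm_mono le_rfl m2).trans (comm_le_right ((le_sup_left.trans le_sup_left).trans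
    (norm_charKer (cf_of_chars m1))))
  refine k4 ▸ le_trans (fun y hy => ?_) (cfker_le_zth hθ)
  have yL := comm_le_left cBL.norm hy
  have m4 := (mem_charKer_iff m1 (mem_sup_left (mem_sup_left yL))).1 (m3 hy)
  have m5 := infl_mul d1 (res_supp X β) (mem_sup_left yL) X.one_mem
  rw [mul_one] at m5
  rw [Pi.mul_apply, Pi.mul_apply, m5, infl_one d1 (res_supp _ _), res_one] at m4
  refine (mem_cfker_of_irr hθ).2 ⟨yL, ?_⟩
  rw [← e3, res_of_mem _ yL, res_one]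
  exact mul_left_cancel₀ (irr_apply_one_ne_zero hβ) m4

end H21.Tu
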