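import Cfsg.Agent.H21.Tu2

/-! Turull's theorem (prime order), part 3: the generic step `core` down the tower. -/

set_option autoImplicit false

namespace H21.Tu
open Cfsg H18 H19 H5 H1 Subgroup
open scoped commutatorElement

variable {G : Type*} [Group G] [Finite G] {A B B' D E H K L N Q U V W X Y Γ : Subgroup G} {p q : ℕ}

omit [Finite G] in
theorem three_mod (hA : A ≤ N(K)) (hB : B ≤ N(K)) (hH : H ≤ N(K)) (h1 : ⁅⁅B, H⁆, A⁆ ≤ K) (h2 : ⁅⁅H, A⁆, B⁆ ≤ K) :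
    ⁅⁅A, B⁆, H⁆ ≤ K := by
  have k : ∀ {A B H : Subgroup G}, A ≤ N(K) → B ≤ N(K) → H ≤ N(K) →
      (⁅⁅A, B⁆, H⁆ ≤ K ↔ ⁅⁅A ⫽ K, B ⫽ K⁆, H ⫽ K⁆ = ⊥) := fun a b c => by
    rw [← mim_comm a b, ← mim_comm (comm_le_of_le a b) c, quo_eq_bot_iff (comm_le_of_le (comm_le_of_le a b) c)]
  exact (k hA hB hH).2 (three_subgroup ((k hB hH hA).1 h1) ((k hH hA hB).1 h2))

theorem fix_le (hW : Abel W) (hU : U ≤ W) (hDU : D ≤ N(U)) (hDX : D ≤ C(X)) (c : Cop D W) :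
    ⁅U, D⁆ ⊓ C(X) ≤ ⁅W ⊓ C(X), D⁆ := by
  have l : ⁅U, D⁆ ≤ U := comm_le_left hDU
  have c1 := c.sub (inf_le_left.trans (l.trans hU)) (norm_inf norm_comm_right (norm_C (cent_norm hDX)))
  exact (c1.comm_eq_of_cent (eq_bot_iff.2 ((inf_le_inf_right _ inf_le_left).trans
    (abel_comm_inf_cent (hW.mono hU) hDU (c.sub hU hDU).cop).le))).ge.trans
      (comm_mono (inf_le_inf_right _ (l.trans hU)) le_rfl)

omit [Finite G] in
theorem comm_sup_cent (hD : D ≤ N(U)) (hK : K ≤ C(U)) : ⁅U, D ⊔ K⁆ ≤ ⁅U, D⁆ :=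
  comm_sup_le' le_rfl ((comm_eq_bot_iff.2 (cent_symm hK)).le.trans bot_le) norm_comm_right
    (cent_norm (hK.trans (C_anti (comm_le_left hD))))

omit [Finite G] in
theorem norm_comm_of (hD : D ≤ N(U)) (hB : B ≤ N(U)) (h : ⁅B, D⁆ ≤ C(U)) : B ≤ N(⁅U, D⁆) := by
  rw [le_antisymm (comm_mono le_rfl le_sup_left) (comm_sup_cent hD h)]
  exact norm_comm hB (norm_iff_comm_le.2 (comm_sup_le' le_sup_right ((comm_le_right norm_comm_left).trans le_sup_right)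
    (le_norm le_sup_left) (le_norm le_sup_right)))

theorem der_le_sup (hL : PiGrp {p} L) (hp : p.Prime) (h1 : Φ(L) ≤ C(L)) (hK : L ≤ N(K)) {a : G} (ha : a ∈ Φ(L))
    (h : Φ(L) ≤ K ⊔ zpowers a) (hN : N ≤ ⁅L, L⁆) (h2 : ¬ N ≤ K) : ⁅L, L⁆ ≤ N ⊔ K := by
  have d := hL.der_le_phi hp
  have cy : Cyc (Φ(L) ⫽ K) := (cyc_zpowers (x := cs K a)).of_le (by
    rw [← mim_zpowers (hK (phi_le ha)), quo_le_quo_iff (phi_le.trans hK) (zpowers_le.2 (hK (phi_le ha))), sup_comm]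
    exact h)
  rw [← quo_le_quo_iff (der_le.trans hK) (hN.trans (der_le.trans hK))]
  refine le_trans ?_ (cy.omega_le_of_ne_bot (hL.of_le phi_le).mim (mim_mono (hN.trans d))
    fun e => h2 ((quo_eq_bot_iff (hN.trans (der_le.trans hK))).1 e))
  refine (mim_le_iff (der_le.trans hK)).2 (commutator_le.2 fun x hx y hy => ?_)
  have m := commutator_mem_commutator hx hy
  refine mem_mpre.2 ⟨hK (der_le m), mem_omega (mfun_mem_mim (d m)) ?_⟩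
  rw [← mfun_pow (hK (der_le m)), ← H4.commutatorElement_pow_left' (mem_C.1 (h1 (d m)) x hx) p,
    commutatorElement_eq_one_iff_mul_comm.2 (mem_C.1 (h1 (hL.pow_mem_phi hp hx)) y hy).symm, mfun_one]

theorem core (hX : (Nat.card X).Prime) (hW : Abel W) (hm : MinNorm W Γ) (cW : Cop X W) (hL : PiGrp {p} L) (L1 : L ≠ ⊥)
    (hLΓ : L ≤ Γ) (hΓ : Γ ≤ N(L)) (cL : Cop X L) (cLW : Cop L W) (hf : L ⊓ C(W) = ⊥) (hB : PiGrp {q} B) (cB : Cop X B)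
    (cBL : Cop B L) (hBΓ : B ≤ Γ) (e : ⁅B, X⁆ = B) (h1 : Φ(L) ≤ C(L)) (h2 : Φ(L) ≤ C(B)) (hD : D ≤ L ⊓ C(X))
    (hO : Out X Γ L D B) : Out X Γ W ⁅W ⊓ C(X), D⁆ ⁅L, X⁆ := by
  by_contra hc
  have hp := hL.prime L1
  have hDL := hD.trans inf_le_left
  have hDX := hD.trans inf_le_right
  have d := hL.der_le_phi hp
  have nf : ∀ {U Z}, U ≤ W → Z ≤ L → X ≤ N(Z) → L ≤ N(U) → X ≤ N(U) → ⁅⁅Z, X⁆, D⁆ ≤ C(U) →
      ⁅⁅U, D⁆, ⁅Z, X⁆⁆ ⊓ C(X) = ⊥ := fun {U Z} a1 a2 a3 a4 a5 a6 => by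
    by_contra c
    have l : ⁅Z, X⁆ ≤ L := (comm_le_left a3).trans a2
    have n := norm_comm_of (hDL.trans a4) (l.trans a4) a6
    exact hc (out1 hX hW hm cW.norm (hL.of_le l) (cL.sub l norm_comm_right) (cL.sub a2 a3).comm_comm (l.trans hLΓ)
      (comm_mono ((comm_le_left (hDL.trans a4)).trans a1) le_rfl) norm_comm_right
      (norm_comm (norm_comm a5 (cent_norm (cent_symm hDX))) norm_comm_right) c
      ((inf_le_inf_right _ (comm_le_left n)).trans (fix_le hW a1 (hDL.trans a4) hDX (cLW.left hDL)))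
      (comm_mono a2 le_rfl))
  have s1 : ∀ {Z}, Z ≤ Z(L) → X ≤ N(Z) → ⁅⁅W, D⁆, ⁅Z, X⁆⁆ = ⊥ := fun {Z} a1 a2 => by
    have l : ⁅Z, X⁆ ≤ Z(L) := (comm_le_left a2).trans a1
    have l2 := l.trans inf_le_left
    have k : ⁅⁅Z, X⁆, D⁆ = ⊥ := comm_eq_bot_iff.2 (l.trans (inf_le_right.trans (C_anti hDL)))
    have n := norm_comm_of (hDL.trans cLW.norm) (l2.trans cLW.norm) (k.le.trans bot_le)
    have l3 : ⁅W, D⁆ ≤ W := comm_le_left (hDL.trans cLW.norm)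
    have l4 := (comm_le_left n).trans l3
    have n2 : X ≤ N(⁅⁅W, D⁆, ⁅Z, X⁆⁆) := norm_comm (norm_comm cW.norm (cent_norm (cent_symm hDX))) norm_comm_right
    have b := cent_of_fpf hX (hL.of_le l2) (cL.sub l2 norm_comm_right) (hW.mono l4).solv (cW.sub l4 n2)
      (cLW.mono l2 l4 norm_comm_right) (nf le_rfl (a1.trans inf_le_left) a2 cLW.norm cW.norm (k.le.trans bot_le))
      (Or.inr ((abel_Z.mono l).der.le.trans bot_le))
    rw [(cL.sub (a1.trans inf_le_left) a2).comm_comm] at b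
    exact comm_eq_bot_iff.2 ((cLW.mono l2 l3 n).cent_of_comm_cent (cent_symm b))
  have cjU : ∀ g ∈ Γ, ∀ K, cj g (W ⊓ C(K)) = W ⊓ C(cj g K) := fun g hg K => by
    rw [cj_inf, cj_C, cj_eq_self (hm.norm hg)]
  have ex1 : ∀ {Z A}, Z ≤ L → Abel Z → A ≤ L → A ≠ ⊥ → ∃ K ≤ Z, ∃ a ∈ Z, K ⊔ zpowers a = Z ∧ ¬ A ≤ C(W ⊓ C(K)) :=
    fun {Z A} a1 a2 a3 a4 => by
      by_contra c
      push Not at c
      exact a4 (eq_bot_iff.2 ((le_inf a3 (cent_symm (coprime_abelian_gen_cent a2 (a1.trans cLW.norm)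
        (cLW.left a1).cop fun K hK ⟨a, ha, e⟩ => cent_symm (c K hK a ha e)))).trans hf.le))
  have cjZ : ∀ g ∈ Γ, ∀ {K Z a}, Γ ≤ N(Z) → K ⊔ zpowers a = Z → cj g K ⊔ zpowers (g * a * g⁻¹) = Z :=
    fun g hg K Z a n e => by rw [← cj_zpowers, ← cj_sup, e, cj_eq_self (n hg)]
  by_cases ab : Abel L
  · obtain ⟨K, hK, a, ha, k1, k2⟩ := ex1 le_rfl ab le_rfl L1
    obtain ⟨g, hg, g1, g2, -⟩ := hO ((L ⊓ C(W ⊓ C(K))) ⊔ Φ(L)) le_sup_right (lt_of_le_of_ne (sup_le inf_le_left phi_le)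
      fun c => k2 ((phi_nongen inf_le_left c.ge).ge.trans inf_le_right))
    have k3 : L ⊓ C(W ⊓ C(cj g K)) ≤ cj g ((L ⊓ C(W ⊓ C(K))) ⊔ Φ(L)) := by
      rw [cj_sup, cj_inf, cj_C, cjU g hg, cj_eq_self (hΓ hg)]; exact le_sup_left
    have l : ⁅L, X⁆ ≤ L := comm_le_left cL.norm
    exact (chain ab hL (cLW.sub inf_le_left (norm_inf cLW.norm (norm_C (ab.norm (cj_le_of_mem_N hK (hΓ hg))))))
      (conj_mem hΓ hg ha) (cent_symm inf_le_right) (cjZ g hg hΓ k1) hDL l (eq_bot_iff.2 ((comm_mono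
      (comm_mono inf_le_left le_rfl) le_rfl).trans (s1 ab.Z_eq.ge cL.norm).le))).elim
      (fun c => g1 ((le_inf hDL c).trans k3)) fun c => g2 ((le_inf l c).trans k3)
  have abZ : Abel Φ(L) := h1.trans (C_anti phi_le)
  have nU : ∀ {K A}, K ≤ Φ(L) → A ≤ N(W) → Φ(L) ≤ C(A) → A ≤ N(W ⊓ C(K)) := fun a b c =>
    norm_inf b (norm_C (cent_norm (cent_symm (a.trans c))))
  have nK : ∀ {K}, K ≤ Φ(L) → L ≤ N(L ⊓ C(W ⊓ C(K))) := fun a => norm_inf le_N (norm_C (nU a cLW.norm h1))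
  obtain ⟨K, hK, a, ha, k1, g1, g2, g3⟩ : ∃ K ≤ Φ(L), ∃ a ∈ Φ(L), K ⊔ zpowers a = Φ(L) ∧
      ¬ D ≤ cm L L (L ⊓ C(W ⊓ C(K))) ∧ ¬ ⁅L, X⁆ ≤ cm L L (L ⊓ C(W ⊓ C(K))) ∧ ¬ ⁅L, B⁆ ≤ cm L L (L ⊓ C(W ⊓ C(K))) := by
    obtain ⟨K, hK, a, ha, k1, k2⟩ := ex1 phi_le abZ der_le fun c => ab (abel_iff_der.2 c)
    obtain ⟨g, hg, g1, g2, g3⟩ := hO (cm L L (L ⊓ C(W ⊓ C(K)))) ((le_inf phi_le h1).trans (cent_le_cm (nK hK) (nK hK)))
      (lt_of_le_of_ne cm_le fun c => k2 (((comm_mono c.ge le_rfl).trans (comm_cm_le (nK hK) (nK hK))).trans inf_le_right))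
    have hK' := cj_le_of_mem_N hK (norm_phi hΓ hg)
    have k3 : cm L L (L ⊓ C(W ⊓ C(cj g K))) ≤ cj g (cm L L (L ⊓ C(W ⊓ C(K)))) := by
      refine le_cj_iff.2 (le_cm (nK hK) (nK hK) (cj_le_of_mem_N cm_le (hΓ (inv_mem hg))) ?_)
      have := cj_mono (g := g⁻¹) (comm_cm_le (nK hK') (nK hK'))
      rwa [cj_comm, cj_eq_self (hΓ (inv_mem hg)), cj_inf, cj_eq_self (hΓ (inv_mem hg)), cj_C, cjU _ (inv_mem hg),
        cj_inv_cj] at this
    exact ⟨cj g K, hK', _, conj_mem (norm_phi hΓ) hg ha, cjZ g hg (norm_phi hΓ) k1, fun c => g1 (c.trans k3),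
      fun c => g2 (c.trans k3), fun c => g3 (c.trans k3)⟩
  set U := W ⊓ C(K) with hU
  set M := L ⊓ C(U) with hM
  have UW : U ≤ W := inf_le_left
  have nLU : L ≤ N(U) := nU hK cLW.norm h1
  have nBU : B ≤ N(U) := nU hK (hBΓ.trans hm.norm) h2
  have nLM : L ≤ N(M) := nK hK
  have KU : K ≤ C(U) := cent_symm inf_le_right
  have nXΦ := norm_phi cL.norm
  have lΦ : ⁅Φ(L), X⁆ ≤ Φ(L) := comm_le_left nXΦ
  have b1 : ⁅Φ(L), X⁆ ≤ C(U) := by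
    have t1 : ⁅⁅W, ⁅Φ(L), X⁆⁆, D⁆ = ⊥ := by
      refine three_subgroup ?_ (by rw [comm_comm (A := D)]; exact s1 (le_inf phi_le h1) nXΦ)
      rw [comm_eq_bot_iff.2 (lΦ.trans (h1.trans (C_anti hDL)))]; simp
    have t2 : ⁅D, L⁆ ≤ C(⁅W, ⁅Φ(L), X⁆⁆) := (comm_mono (cent_symm (comm_eq_bot_iff.1 t1)) le_rfl).trans (comm_le_left
      (norm_C (norm_comm cLW.norm (cent_norm (cent_symm (lΦ.trans h1))))))
    refine (chain abZ (hL.of_le phi_le) (cLW.mono phi_le UW (phi_le.trans nLU)) ha KU k1 lΦ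
      ((comm_mono hDL le_rfl).trans d) (comm_eq_bot_iff.2 (cent_symm (t2.trans (C_anti (comm_mono UW le_rfl)))))).resolve_right
      fun c => g1 (le_cm nLM nLM hDL (le_inf (comm_le_of_le hDL le_rfl) c))
  have nXU : X ≤ N(U) := by
    have : U = W ⊓ C(Φ(L) ⊓ C(U)) := le_antisymm (le_inf UW (cent_symm inf_le_right))
      (inf_le_inf_left _ (C_anti (le_inf hK KU)))
    rw [this]
    exact norm_inf cW.norm (norm_C (norm_iff_comm_le'.2 ((comm_mono inf_le_left le_rfl).trans (le_inf lΦ b1))))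
  have nXM : X ≤ N(M) := norm_inf cL.norm (norm_C nXU)
  set B' := ⁅L, X⁆ with hB'
  have l : B' ≤ L := comm_le_left cL.norm
  have b2 : ⁅B', L ⊓ C(X)⁆ ≤ M := three_mod nLM nXM (inf_le_left.trans nLM)
    (by rw [comm_eq_bot_iff.2 (cent_symm inf_le_right)]; simp)
    ((comm_mono ((comm_mono inf_le_left le_rfl).trans d) le_rfl).trans (le_inf (lΦ.trans phi_le) b1))
  have b3 := nf UW le_rfl cL.norm nLU nXU (((comm_mono le_rfl hD).trans b2).trans inf_le_right)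
  have sp : ∀ {A}, A ≤ L → ⁅A, B'⁆ ≤ M → ⁅A, L ⊓ C(X)⁆ ≤ M → A ≤ cm L L M := fun a b c => le_cm nLM nLM a
    ((comm_mono le_rfl cL.comm_sup.ge).trans (comm_sup_le' b c (l.trans nLM) (inf_le_left.trans nLM)))
  have pr : ∀ {N}, N ≤ ⁅L, L⁆ → ¬ N ≤ M → ⁅L, L⁆ ≤ N ⊔ M := fun a b => der_le_sup hL hp h1 nLM ha
    (k1.ge.trans (sup_le_sup_right (le_inf (hK.trans phi_le) KU) _)) a b
  have l2 : ⁅U, B'⁆ ≤ U := comm_le_left (l.trans nLU)
  have nL2 : L ≤ N(⁅U, B'⁆) := norm_comm nLU norm_comm_left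
  have nT : L ⊓ C(X) ≤ N(⁅U, B'⁆ ⊓ C(X)) := norm_inf (inf_le_left.trans nL2) (norm_C (cent_norm inf_le_right))
  have b4 : D ≤ C(⁅U, B'⁆ ⊓ C(X)) := by
    have n1 := norm_comm_of (hDL.trans nLU) (l.trans nLU) (((comm_mono le_rfl hD).trans b2).trans inf_le_right)
    have t : ⁅⁅U, B'⁆, D⁆ ≤ ⁅⁅U, D⁆, B'⁆ := three_mod
      ((hW.mono UW).norm ((comm_le_left n1).trans (comm_le_left (hDL.trans nLU)))) norm_comm_right
      (norm_comm norm_comm_right (hDL.trans norm_comm_left))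
      (by rw [comm_eq_bot_iff.2 (((comm_mono le_rfl hD).trans b2).trans inf_le_right)]; simp) (by rw [comm_comm (A := D)])
    exact cent_symm (comm_eq_bot_iff.1 (eq_bot_iff.2 ((le_inf ((comm_mono inf_le_left le_rfl).trans t)
      ((comm_le_left (hD.trans nT)).trans inf_le_right)).trans b3.le)))
  have b5 : ⁅L, L⁆ ≤ C(⁅U, B'⁆ ⊓ C(X)) := (pr (comm_mono hDL inf_le_left) fun c => g1 (sp hDL
    (comm_comm.le.trans ((comm_mono le_rfl hD).trans b2)) c)).trans (sup_le ((comm_mono b4 le_rfl).trans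
      (comm_le_left (norm_C nT))) (inf_le_right.trans (C_anti (inf_le_left.trans l2))))
  have b6 : ⁅L, L⁆ ≤ B' ⊔ M := (pr (der_mono l) fun c => g2 (sp l c b2)).trans (sup_le_sup_right der_le _)
  have l3 : ⁅U, ⁅L, L⁆⁆ ≤ U := comm_le_left (der_le.trans nLU)
  have cU := cLW.mono der_le UW (der_le.trans nLU)
  have b7 : ⁅U, ⁅L, L⁆⁆ ⊓ C(X) = ⊥ := eq_bot_iff.2 ((le_inf inf_le_left (cent_symm (b5.trans (C_anti (inf_le_inf_right _
    ((comm_mono le_rfl b6).trans (comm_sup_cent (l.trans nLU) inf_le_right))))))).trans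
      (abel_comm_inf_cent (hW.mono UW) cU.norm cU.cop).le)
  have b8 : ¬ ⁅L, L⁆ ≤ C(⁅U, ⁅L, L⁆⁆) := fun c => g1 (le_cm nLM nLM hDL ((comm_mono hDL le_rfl).trans
    (le_inf der_le (cent_symm (cU.cent_of_comm_cent (cent_symm c))))))
  have nL1 : L ≤ N(⁅U, ⁅L, L⁆⁆) := norm_comm nLU nml_der.norm
  have nX1 : X ≤ N(⁅U, ⁅L, L⁆⁆) := norm_comm nXU (norm_der cL.norm)
  have c1 := cW.sub (l3.trans UW) nX1
  have c2 := cLW.sub (l3.trans UW) nL1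
  have s := (hW.mono (l3.trans UW)).solv
  have MM : M ≤ L ⊓ C(⁅U, ⁅L, L⁆⁆) := inf_le_inf_left _ (C_anti l3)
  by_cases p2 : p ≠ 2
  · exact b8 (b6.trans (sup_le (cent_of_fpf hX hL cL s c1 c2 b7 (Or.inl p2)) (MM.trans inf_le_right)))
  obtain rfl : p = 2 := not_not.1 p2
  have od : ∀ {A}, Cop A L → Odd (Nat.card A) := fun c =>
    Nat.coprime_two_right.1 (c.cop.coprime_dvd_right (hL.dvd_card L1))
  have n3 : L ≤ N(L ⊓ C(⁅U, ⁅L, L⁆⁆)) := norm_inf le_N (norm_C nL1)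
  have n4 : X ≤ N(cm L L (L ⊓ C(⁅U, ⁅L, L⁆⁆))) := norm_cm cL.norm cL.norm (norm_inf cL.norm (norm_C nX1))
  refine b8 (ex hX (od cL) (od cBL) hB.solv cB e cL cBL s c1 c2 b7 rfl
    (norm_inf cBL.norm (norm_C (norm_comm nBU (norm_der cBL.norm)))) (by rw [comm_eq_bot_iff.2 (d.trans h1)]; simp)
    (le_inf ((comm_le_left n4).trans cm_le) (cent_of_fpf hX (hL.of_le cm_le) (cL.sub cm_le n4) s c1 (c2.left cm_le) b7
      (Or.inr (((comm_mono le_rfl cm_le).trans (comm_cm_le n3 n3)).trans inf_le_right)))) (fun N a b => ?_)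
    fun c => g3 (c.trans (le_cm nLM nLM cm_le ?_)))
  · by_contra c
    refine b.not_ge ((le_inf le_rfl (pr b.le fun k => c (k.trans MM))).trans ?_)
    rw [Nrm2.modular_left (Or.inl ((b.le.trans der_le).trans nLM)) b.le]
    exact sup_le le_rfl ((inf_le_inf_left _ MM).trans a)
  · by_contra c
    exact b8 ((pr (comm_mono cm_le le_rfl) c).trans ((sup_le (comm_cm_le n3 n3) MM).trans inf_le_right))

end H21.Tu
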