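import Cfsg.Agent.H21.Tu3
import Cfsg.Agent.H5.Tw3

/-! Turull's theorem (prime order), part 4a: `inv` (an `X`-invariant character is `D`-invariant) and the top lemma `ne`. -/

set_option autoImplicit false

namespace H21.Tu
open Cfsg H18 H19 H5 H1 Subgroup
open scoped commutatorElement

variable {G : Type*} [Group G] [Finite G] {A D E P S V X Z : Subgroup G} {p d s t : ℕ} {θ : G → ℂ}

theorem norm_zth (hθ : θ ∈ irr P) (h : A ≤ inertia P θ) : A ≤ N(zth P θ) :=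
  norm_cm (h.trans inertia_le_N) (h.trans inertia_le_N) (h.trans ((inertia_le_TK hθ).trans TK_le))

theorem inv (hθ : θ ∈ irr P) (cP : Cop X P) (hi : X ≤ inertia P θ) (hDP : D ≤ N(P)) (hDX : D ≤ C(X))
    (h1 : ⁅P, P⁆ ≤ C(P) ⊓ C(D)) (h2 : P ⊓ C(X) ≤ C(D)) : D ≤ inertia P θ := by
  have hn := cfker_nml (cf_of_irr hθ)
  have n1 : P ≤ N(⁅P, P⁆ ⊓ cfker P θ) := norm_inf nml_der.norm hn.norm
  have e : zth P θ = cm P P (⁅P, P⁆ ⊓ cfker P θ) := le_antisymm
    (le_cm n1 n1 cm_le (le_inf (comm_mono cm_le le_rfl) (comm_zth_le hθ)))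
    (le_zth hθ cm_le ((comm_cm_le n1 n1).trans inf_le_right))
  have n2 : D ≤ N(zth P θ) := e ▸ norm_cm hDP hDP (cent_norm (cent_symm (inf_le_left.trans (h1.trans inf_le_right))))
  have n3 := norm_comm n2 (cent_norm hDX)
  have k : ⁅D, zth P θ⁆ ≤ cfker P θ := ((comm_mono le_rfl (cP.sub cm_le (norm_zth hθ hi)).comm_sup.ge).trans
    (comm_sup_le' (comm_le_right n3) ((comm_eq_bot_iff.2 (cent_symm ((inf_le_inf_right _ cm_le).trans h2))).le.trans
      bot_le) le_N (inf_le_left.trans norm_comm_left))).trans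
    ((comm_mono le_rfl (hi.trans (inertia_le_TK hθ))).trans (comm_TK hn))
  exact (le_inf hDP (le_cm le_rfl (cm_le.trans hn.norm) (norm_iff_comm_le.2 ((comm_mono le_rfl (cfker_le_zth hθ)).trans k))
    k)).trans (TK_le_inertia hθ (le_zth hθ der_le ((comm_eq_bot_iff.2 (h1.trans inf_le_left)).le.trans bot_le)))

/-- a fixed-point-free `X` of prime order on an abelian `E` with `|E| < (|X| + 1) ^ 2` -/
theorem small (hX : (Nat.card X).Prime) (hE : Abel E) (n : X ≤ N(E)) (h0 : E ⊓ C(X) = ⊥) (c : Cop A E) (hA : A ≤ C(X))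
    (h : Nat.card E < (Nat.card X + 1) ^ 2) (h1 : ¬ E ≤ C(A)) : E ⊓ C(A) = ⊥ := by
  by_contra h2
  have k : ∀ U ≤ E, X ≤ N(U) → U ≠ ⊥ → Nat.card X + 1 ≤ Nat.card U := fun U a b c => by
    have b1 := (H1.semireg_of_prime hX (eq_bot_iff.2 ((inf_le_inf_right _ a).trans h0.le))).dvd_pred b
    have b3 := (one_lt_card_iff_ne_bot _).2 c
    have b4 := Nat.le_of_dvd (by omega) b1
    omega
  have nA := cent_norm (cent_symm hA)
  have a := k _ inf_le_left (norm_inf n (norm_C nA)) h2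
  have b := k _ (comm_le_left c.norm) (norm_comm n nA) fun e => h1 (comm_eq_bot_iff.1 e)
  have e := Nrm2.card_sup_of_disj (Or.inl (inf_le_left.trans (hE.norm (comm_le_left c.norm)))) (abel_cent_inf_comm hE c.norm c.cop)
  have l := card_le_of_le (sup_le inf_le_left (comm_le_left c.norm) : E ⊓ C(A) ⊔ ⁅E, A⁆ ≤ E)
  nlinarith [Nat.mul_le_mul a b]

theorem ne (hX : (Nat.card X).Prime) (hP : PiGrp {p} P) (hD : PiGrp {d} D) (hdp : d ≠ p) (cP : Cop X P) (cD : Cop X D)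
    (hDX : D ≤ C(X)) (hDP : D ≤ N(P)) (e1 : ⁅P, X⁆ = P) (e2 : ⁅P, D⁆ = P) (hΦ : Φ(P) ≤ C(P) ⊓ C(D)) (ht : t.Prime)
    (hV : Elem t V) (htp : t ≠ p) (cV : Cop X V) (hPV : P ≤ N(V)) (h0 : V ⊓ C(X) = ⊥) : P ≤ C(V) := by
  classical
  have := Fintype.ofFinite G
  by_cases P1 : P = ⊥
  · simp [P1]
  have dΦ := (hP.der_le_phi (hP.prime P1)).trans hΦ
  have cΦ := (cP.cent_le_of_comm_eq e1).trans dΦ
  have c2 : Cop P V := cop_of_pi' hPV (hP.p'_of_ne htp.symm) (hV.pi ht) (Or.inl hP.solv)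
  have cDP : Cop D P := cop_of_pi' hDP (hD.p'_of_ne hdp) hP (Or.inl hD.solv)
  have hsd : SD P X (P ⊔ X) := ⟨cP.norm, cP.inf_eq_bot', rfl⟩
  refine cent_of_forall_lift (L := P ⊔ X) hV.abel.solv (sup_le hPV cV.norm) ((c2.cop.symm.mul_right
    cV.cop.symm).coprime_dvd_right (Nrm2.card_sup_dvd (Or.inr cP.norm))) le_sup_left fun ℓ _ χ hχ e' =>
      red hχ le_rfl le_sup_right le_sup_left (by rw [e' X le_sup_right, h0]; simp) fun ψ₀ hψ₀ _ hs => by_contra fun hne => ?_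
  obtain ⟨θ, hθ, h1⟩ := exists_irr_under le_sup_left (chars_of_irr hψ₀) fun e => irr_apply_one_ne_zero hψ₀ (by simp [e])
  obtain ⟨hB, ψ, hψ, f1, f2⟩ := cliff' hsd cP.cop.symm hψ₀ hθ h1 rfl ((abel_of_prime hX).mono inf_le_left) hs
  have hB' := eq_of_prime hX inf_le_left hB
  rw [hB'] at hψ f2
  have hi : X ≤ inertia P θ := hB'.ge.trans inf_le_right
  have k : ¬ P ≤ cfker P θ := fun c => hne fun y hy => mem_ker_of_class hsd.nml hψ₀ hθ h1 hy fun φ hφ => by
    rw [cfclass_sd hsd (cf_of_irr hθ)] at hφ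
    obtain ⟨g, hg, rfl⟩ := mem_cfclass.1 hφ
    rw [(mem_inertia.1 (hi hg)).2]; exact c hy
  have z : ∀ {Z}, Z ≤ P → Z ≤ C(P) → Z ≤ zth P θ := fun a b => le_zth hθ a ((comm_eq_bot_iff.2 b).le.trans bot_le)
  have zd := z der_le (dΦ.trans inf_le_left)
  have zc := z inf_le_left (cΦ.trans inf_le_left)
  obtain ⟨n, hd0, hd1⟩ := irr_exists_apply_one hθ
  have hψ1 : ψ 1 = n := by rw [← hd1, ← f1, res_one]
  have hne1 : n ≠ 1 := by
    rintro rfl
    have a1 := (comm_le_der le_sup_left le_sup_right).trans ((der_le_cfker_iff hψ).2 (by simpa using hψ1))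
    rw [e1] at a1
    refine k ?_
    rw [← f1, cfker_res_chars (chars_of_irr hψ) le_sup_left]; exact le_inf le_rfl a1
  have r1 : n + 1 = Nat.card X := (deg_of_sum_eq_zero (abel_of_prime hX) (ne_bot_of_prime hX) (chars_of_irr hψ) le_sup_right
    hψ1 (fun x hx hx1 => abs1 hsd.nml (chars_of_irr hψ) (f1 ▸ hθ) (mem_sup_right hx)
      (cP.cop.coprime_dvd_left (orderOf_dvd_card hx)) (by rw [f1, C1_eq_of_prime hX hx hx1]; exact zc)) f2).resolve_left hne1
  have r2 := sq_deg hθ zd hd1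
  have hiD := inv hθ cP hi hDP hDX dΦ (cΦ.trans inf_le_right)
  set Z := zth P θ
  have nP : P ≤ N(Z) := (zth_nml hθ).norm
  have nX : X ≤ N(Z) := norm_zth hθ hi
  have nD : D ≤ N(Z) := norm_zth hθ hiD
  have PZ : ¬ P ≤ Z := fun c => by
    rw [relIndex_eq_one_iff.2 c] at r2
    exact hne1 (by nlinarith)
  obtain ⟨y, hy, y1⟩ := SetLike.not_le_iff_exists.1 fun c : D ≤ cm D P Z =>
    PZ (e2.ge.trans ((comm_mono le_rfl c).trans (comm_cm_le' nD nP)))
  have hY := zpowers_le.2 hy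
  set A := zpowers y ⊔ X
  have aA : Abel A := cyc_zpowers.abel.sup (abel_of_prime hX) (hY.trans hDX)
  have nA : A ≤ N(Z) := sup_le (hY.trans nD) nX
  have cA : Cop A P := ⟨sup_le (hY.trans hDP) cP.norm, ((cDP.left hY).cop.mul_left cP.cop).coprime_dvd_left
    (Nrm2.card_sup_dvd (Or.inl (cent_norm (hY.trans hDX)))), Or.inl aA.solv⟩
  have sd2 : SD P A (P ⊔ A) := sd_sup cA.norm cA.inf_eq_bot'
  obtain ⟨η, hη, e3⟩ := H6.P.exists_ext_coprime sd2.nml hθ (sup_le (le_inertia (cf_of_irr hθ))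
    (sup_le (hY.trans hiD) hi)) (by rw [sd2.relIndex]; exact cA.cop.symm)
  have cX : Nat.card (X ⫽ Z) = Nat.card X :=
    card_quo_of_disj nX (eq_bot_iff.2 ((inf_le_inf_left _ cm_le).trans cP.inf_eq_bot.le))
  have b := card_le_of_abs1 (B := cm A P Z) aA (chars_of_irr hη) le_sup_right cm_le (by rw [← hd1, ← e3, res_one]) (by omega)
    fun a ha a1 => abs1 sd2.nml (chars_of_irr hη) (e3 ▸ hθ) (mem_sup_right ha)
      (cA.cop.coprime_dvd_left (orderOf_dvd_card ha)) (by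
        have ha' := zpowers_le.2 ha
        rw [e3, ← C_zpowers, ← quo_eq_bot_iff (inf_le_left.trans nP)]
        refine eq_bot_iff.2 (mim_inf_C_le.trans (small (cX ▸ hX) ((abel_quo_iff nP).2 zd) (mim_norm cP.norm)
          (cP.quo_cent_eq_bot nX nP zc) (cA.left ha').mim (mim_cent (ha'.trans (aA.trans (C_anti le_sup_right))))
          (by rw [card_quo nP, ← r2, cX]; nlinarith) fun c => a1 (le_cm nA nP ha'
            ((comm_le_iff_quo (ha'.trans nA) nP).2 (cent_symm c)) (mem_zpowers a))).le))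
  have nB : A ≤ N(cm A P Z) := aA.norm cm_le
  have x1 : X ⊓ cm A P Z = ⊥ := by_contra fun c => PZ (e1.ge.trans ((comm_mono le_rfl (prime_le_of_inf_ne_bot hX c)).trans
    (comm_cm_le' nA nP)))
  have l := Nrm2.card_sup_of_disj (Or.inl (mim_norm (f := coset (cm A P Z)) (cent_norm (hY.trans hDX))))
    (cD.left le_rfl |>.sub hY (cent_norm (cent_symm (hY.trans hDX)))).mim.inf_eq_bot'
  rw [← mim_sup (le_sup_left.trans nB) (le_sup_right.trans nB), card_quo nB, card_quo_of_disj (le_sup_right.trans nB) x1]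
    at l
  have : 1 < Nat.card (zpowers y ⫽ cm A P Z) := (one_lt_card_iff_ne_bot _).2 fun c => y1 (le_cm nD nP hY
    ((comm_mono ((quo_eq_bot_iff (le_sup_left.trans nB)).1 c) le_rfl).trans (comm_cm_le nA nP)) (mem_zpowers y))
  nlinarith

end H21.Tu
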