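import Cfsg.Agent.H21.Tu4a
import Cfsg.Agent.H23.CE2
import Cfsg.Agent.H5.FH

/-! Turull's theorem (prime order), part 5: the states `SA`, `SB`, `SD` of a level `Lv` of the tower, their transfer
along morphisms, and the step `stepF` onto a faithful irreducible module. -/

set_option autoImplicit false

namespace H21.Tu
open Cfsg H18 H19 H5 H1 Subgroup
open scoped commutatorElement

variable {G : Type*} [Group G] {B B' D E E' H L W X Γ Γ' : Subgroup G} {h m p t : ℕ}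

structure Lv (X H L : Subgroup G) (p : ℕ) : Prop where
  nml : L ⊴ H
  nH : X ≤ N(H)
  nL : X ≤ N(L)
  ne : L ≠ ⊥
  pi : PiGrp {p} L
  irr : ∀ U < L, H ≤ N(U) → X ≤ N(U) → U ≤ Φ(L)
  phi : Φ(L) ≤ C(L)

def SA (X H L : Subgroup G) (p h : ℕ) : Prop :=
  H ≤ C(X) ∧ L ≤ lns h H ∧ (h = 0 ∨ ∃ s S, s ≠ p ∧ PiGrp {s} S ∧ S ≤ lns (h - 1) H ∧ ⁅L, S⁆ = L)

def SB (X H L : Subgroup G) (p m : ℕ) : Prop :=
  ⁅L, X⁆ = L ∧ ((m = 0 ∧ Abel L) ∨ ∃ d D, d ≠ p ∧ PiGrp {d} D ∧ D ≤ lns m (H ⊓ C(X)) ∧ ⁅L, D⁆ = L ∧ Φ(L) ≤ C(D) ∧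
    (m = 0 ∨ ∃ s S, s ≠ d ∧ PiGrp {s} S ∧ S ≤ lns (m - 1) (H ⊓ C(X)) ∧ S ≤ N(D) ∧ D ≤ ⁅D, S⁆ ⊔ (D ⊓ C(L))))

def SD (X H L : Subgroup G) (p m : ℕ) : Prop :=
  ∃ q B, q ≠ p ∧ PiGrp {q} B ∧ B ≤ H ∧ X ≤ N(B) ∧ ⁅B, X⁆ = B ∧ Φ(L) ≤ C(B) ∧
    Out X (H ⊔ X) L (L ⊓ lns m (H ⊓ C(X))) B

/-- `SB` at `m` or `SD` at `m - 1` -/
def SBD (X H L : Subgroup G) (p m : ℕ) : Prop := SB X H L p m ∨ ∃ k, m = k + 1 ∧ SD X H L p k

def Big (X H W E : Subgroup G) (t m : ℕ) : Prop :=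
  (m = 0 → W ⊓ C(X) ≤ E) ∧ ⁅W ⊓ C(X), lns m (H ⊓ C(X))⁆ ≤ E ∧
    ∀ s T, s ≠ t → PiGrp {s} T → T ≤ lns (m - 1) (H ⊓ C(X)) → ⁅W ⊓ C(X), T⁆ ≤ E

theorem Out.mono (h : Out X Γ W E B) (h1 : Γ ≤ Γ') (h2 : E ≤ E') (h3 : B ≤ B') : Out X Γ' W E' B' := fun K a b =>
  let ⟨g, hg, g1, g2, g3⟩ := h K a b
  ⟨g, h1 hg, fun c => g1 (h2.trans c), g2, fun c => g3 ((comm_mono le_rfl h3).trans c)⟩

variable [Finite G] {Q : Type*} [Group Q] [Finite Q] {M : Subgroup G} {f : M →* Q}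

theorem Out.mim (h : Out X Γ W E B) (hW : PiGrp {p} W) (hp : p.Prime) (hM : W ≤ M) (hΓ : Γ ≤ M) (hX : X ≤ Γ) (hB : B ≤ Γ)
    (hn : Γ ≤ N(W)) (hE : E ≤ W) : Out (mim f X) (mim f Γ) (mim f W) (mim f E) (mim f B) := fun K a b => by
  obtain ⟨g, hg, g1, g2, g3⟩ := h (W ⊓ mpre f K)
    (le_inf phi_le ((mim_le_iff (phi_le.trans hM)).1 ((hW.mim_phi hp hM).le.trans a)))
    (lt_of_le_of_ne inf_le_left fun c => b.not_ge ((mim_le_iff hM).2 (c.ge.trans inf_le_right)))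
  have k : ∀ {A}, A ≤ W → H18.mim f A ≤ cj (mfun f g) K → A ≤ cj g (W ⊓ mpre f K) := fun a b => by
    rw [cj_inf, cj_eq_self (hn hg), ← mpre_cj (hΓ hg)]
    exact le_inf a ((mim_le_iff (a.trans hM)).1 b)
  exact ⟨_, mfun_mem_mim hg, fun c => g1 (k hE c),
    fun c => g2 (k (comm_le_left (hX.trans hn)) ((mim_comm hM (hX.trans hΓ)).le.trans c)),
    fun c => g3 (k (comm_le_left (hB.trans hn)) ((mim_comm hM (hB.trans hΓ)).le.trans c))⟩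

theorem Out.of_mim (h : Out (H18.mim f X) (H18.mim f Γ) (H18.mim f W) (H18.mim f E) (H18.mim f B)) (hW : PiGrp {p} W)
    (hp : p.Prime) (hM : W ≤ M) (hX : X ≤ M) (hB : B ≤ M) (hk : W ⊓ mker f ≤ Φ(W)) : Out X Γ W E B := fun K a b => by
  obtain ⟨_, hg0, g1, g2, g3⟩ := h (H18.mim f K) ((hW.mim_phi hp hM).ge.trans (mim_mono a))
    (lt_of_le_of_ne (mim_mono b.le) fun c => b.not_ge (by
      have := le_inf le_rfl ((mim_le_mim_iff hM (b.le.trans hM)).1 c.ge)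
      rw [Nrm2.modular_left (Or.inl ((b.le.trans hM).trans nml_mker.norm)) b.le] at this
      exact this.trans (sup_le le_rfl (hk.trans a))))
  obtain ⟨g, hg, gM, rfl⟩ := mem_mim.1 hg0
  rw [← mim_cj gM] at g1 g2 g3
  exact ⟨g, hg, fun c => g1 (mim_mono c), fun c => g2 ((mim_comm hM hX).ge.trans (mim_mono c)),
    fun c => g3 ((mim_comm hM hB).ge.trans (mim_mono c))⟩

theorem Lv.mim (h : Lv X H L p) (hH : H ≤ M) (hX : X ≤ M) (hk : ¬ L ≤ mker f) : Lv (mim f X) (mim f H) (mim f L) p := by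
  have hL := h.nml.le.trans hH
  have e := h.pi.mim_phi (f := f) (h.pi.prime h.ne) hL
  refine ⟨h.nml.mim, mim_norm h.nH, mim_norm h.nL, fun c => hk ((mim_eq_bot_iff hL).1 c), h.pi.mim, fun U a b c => ?_,
    e.ge.trans (mim_cent h.phi)⟩
  exact (mim_inf_mpre_of_le a.le).ge.trans ((mim_mono (h.irr _ (lt_of_le_of_ne inf_le_left fun k => a.not_ge
    ((mim_le_iff hL).2 (k.ge.trans inf_le_right))) (norm_inf h.nml.norm (norm_mpre hH b))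
    (norm_inf h.nL (norm_mpre hX c)))).trans e.le)

theorem mim_lns_le (hH : H ≤ M) : mim f (lns m (H ⊓ C(X))) ≤ lns m (mim f H ⊓ C(mim f X)) :=
  (mim_lns (inf_le_left.trans hH)).le.trans (lns_mono mim_inf_C_le)

theorem SBD.mim (h : SBD X H L p m) (l : Lv X H L p) (hH : H ≤ M) (hX : X ≤ M) :
    SBD (mim f X) (mim f H) (mim f L) p m := by
  have hL := l.nml.le.trans hH
  have hp := l.pi.prime l.ne
  have e := l.pi.mim_phi (f := f) hp hL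
  have k : ∀ {A n}, A ≤ lns n (H ⊓ C(X)) → A ≤ M := fun a => a.trans (lns_le.trans (inf_le_left.trans hH))
  rcases h with ⟨e1, h⟩ | ⟨n, rfl, q, B, b1, b2, b3, b4, b5, b6, b7⟩
  · refine Or.inl ⟨by rw [← mim_comm hL hX, e1], h.imp (fun a => ⟨a.1, a.2.mim⟩) ?_⟩
    rintro ⟨d, D, d1, d2, d3, d4, d5, h⟩
    refine ⟨d, _, d1, d2.mim, (mim_mono d3).trans (mim_lns_le hH), by rw [← mim_comm hL (k d3), d4],
      e.ge.trans (mim_cent d5), h.imp_right ?_⟩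
    rintro ⟨s, S, s1, s2, s3, s4, s5⟩
    refine ⟨s, _, s1, s2.mim, (mim_mono s3).trans (mim_lns_le hH), mim_norm s4, (mim_mono s5).trans ?_⟩
    rw [mim_sup (comm_le_of_le (k d3) (k s3)) (inf_le_left.trans (k d3)), mim_comm (k d3) (k s3)]
    exact sup_le_sup_left mim_inf_C_le _
  · refine Or.inr ⟨n, rfl, q, _, b1, b2.mim, mim_mono b3, mim_norm b4, by rw [← mim_comm (b3.trans hH) hX, b5],
      e.ge.trans (mim_cent b6), (b7.mim l.pi hp hL (sup_le hH hX) le_sup_right (b3.trans le_sup_left)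
        (sup_le l.nml.norm l.nL) inf_le_left).mono (mim_sup hH hX).le
        (mim_inf_le.trans (inf_le_inf_left _ (mim_lns_le hH))) le_rfl⟩

theorem Big.mim (h : Big X H W E t m) (cH : Cop X H) (cW : Cop X W) (hH : H ≤ M) (hX : X ≤ M) (hW : W ≤ M) :
    Big (mim f X) (mim f H) (mim f W) (mim f E) t m := by
  have l : ∀ n, lns n (H ⊓ C(X)) ≤ M := fun n => lns_le.trans (inf_le_left.trans hH)
  have l2 : W ⊓ C(X) ≤ M := inf_le_left.trans hW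
  rw [Big, ← cH.mim_cent hX hH, ← cW.mim_cent hX hW, ← mim_lns (inf_le_left.trans hH), ← mim_lns (inf_le_left.trans hH),
    ← mim_comm l2 (l _)]
  refine ⟨fun c => mim_mono (h.1 c), mim_mono h.2.1, fun s T a b c => ?_⟩
  by_cases T1 : T = ⊥
  · simp [T1]
  obtain ⟨T', d, e, rfl⟩ := exists_pGrp_lift (b.prime T1) (l _) c b
  rw [← mim_comm l2 (d.trans (l _))]
  exact mim_mono (h.2.2 s T' a e.pi d)

theorem big_self (hW : PiGrp {t} W) (hH : H ≤ N(W)) : Big X H W (W ⊓ lns m ((H ⊔ W) ⊓ C(X))) t m := by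
  have l : ∀ n, lns n (H ⊓ C(X)) ≤ lns n ((H ⊔ W) ⊓ C(X)) := fun n => lns_mono (inf_le_inf_right _ le_sup_left)
  have n1 : ∀ {T n}, T ≤ lns n (H ⊓ C(X)) → T ≤ N(W ⊓ C(X)) := fun a =>
    norm_inf (a.trans (lns_le.trans (inf_le_left.trans hH))) (norm_C (cent_norm (a.trans (lns_le.trans inf_le_right))))
  have k : ∀ {T n}, T ≤ lns n (H ⊓ C(X)) → ⁅W ⊓ C(X), T⁆ ≤ lns n ((H ⊔ W) ⊓ C(X)) := fun a =>
    (comm_mono le_rfl (a.trans (l _))).trans (comm_le_right ((inf_le_inf_right _ le_sup_right).trans lns_nml.norm))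
  refine ⟨fun c => le_inf inf_le_left (by subst c; exact inf_le_inf_right _ le_sup_right),
    le_inf ((comm_le_left (n1 le_rfl)).trans inf_le_left) (k le_rfl), fun s T a b c =>
    le_inf ((comm_le_left (n1 c)).trans inf_le_left) ?_⟩
  cases m with
  | zero => exact k c
  | succ m =>
    exact le_nres_of_comm (k c) (c.trans (l _))
      (cop_of_pi' (n1 c) (b.p'_of_ne a) hW.inf_left (Or.inl b.solv)).comm_comm.ge

theorem stepF (hX : (Nat.card X).Prime) (l : Lv X H L p) (h : SBD X H L p m) (ht : t.Prime) (hW : Elem t W) (htp : t ≠ p)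
    (hm : MinNorm W (H ⊔ X)) (cH : Cop X H) (cW : Cop X W) (hf : L ⊓ C(W) = ⊥) (hE : Big X H W E t m) :
    Out X (H ⊔ X) W E ⁅L, X⁆ := by
  have hHW : H ≤ N(W) := le_sup_left.trans hm.norm
  have hLH := l.nml.le
  have hLW := hLH.trans hHW
  have cL := cH.sub hLH l.nL
  have cLW : Cop L W := cop_of_pi' hLW (l.pi.p'_of_ne htp.symm) (hW.pi ht) (Or.inl l.pi.solv)
  have hΓ : H ⊔ X ≤ N(L) := sup_le l.nml.norm l.nL
  have nc : ∀ {A}, A ≤ L → A ≤ C(W) → A = ⊥ := fun a b => eq_bot_iff.2 ((le_inf a b).trans hf.le)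
  rcases h with ⟨e1, h⟩ | ⟨n, rfl, q, B, b1, b2, b3, b4, b5, b6, b7⟩
  swap
  · exact (core hX hW.abel hm cW l.pi l.ne (hLH.trans le_sup_left) hΓ cL cLW hf b2 (cH.sub b3 b4)
      (cop_of_pi' (b3.trans l.nml.norm) (b2.p'_of_ne b1) l.pi (Or.inl b2.solv)) (b3.trans le_sup_left) b5 l.phi b6
      (inf_le_inf_left _ (lns_le.trans inf_le_right)) b7).mono le_rfl
      (hE.2.2 p _ htp.symm l.pi.inf_left inf_le_right) le_rfl
  rw [e1]
  have eW : ⁅W, L⁆ = W := hm.min _ (comm_le_left hLW) (fun c => l.ne (nc le_rfl (cent_symm (comm_eq_bot_iff.1 c))))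
    (norm_comm hm.norm hΓ)
  have o1 : ∀ {V}, V ≤ W → L ≤ N(V) → X ≤ N(V) → V ⊓ C(X) ≠ ⊥ → V ⊓ C(X) ≤ E → Out X (H ⊔ X) W E L :=
    fun a b c d e => out1 hX hW.abel hm cW.norm l.pi cL e1 (hLH.trans le_sup_left) (a.trans eW.ge) b c d e le_rfl
  rcases h with ⟨rfl, ab⟩ | ⟨d, D, d1, d2, d3, d4, d5, h⟩
  · exact o1 le_rfl hLW cW.norm (fun c => l.ne (nc le_rfl (e1.ge.trans (cent_of_fpf hX l.pi cL hW.abel.solv cW cLW c
      (Or.inr (ab.der.le.trans bot_le)))))) (hE.1 rfl)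
  have hD := d3.trans lns_le
  have hDH := hD.trans inf_le_left
  have hDX := hD.trans inf_le_right
  have cD := cH.sub hDH (cent_norm (cent_symm hDX))
  have NE : ∀ {V}, V ≤ W → L ≤ N(V) → X ≤ N(V) → V ⊓ C(X) = ⊥ → L ≤ C(V) := fun a b c e =>
    ne hX l.pi d2 d1 cL cD hDX (hDH.trans l.nml.norm) e1 d4 (le_inf l.phi d5) ht (hW.sub' a) htp (cW.sub a c) b e
  rcases h with rfl | ⟨s, S, s1, s2, s3, s4, s5⟩
  · exact o1 le_rfl hLW cW.norm (fun c => l.ne (nc le_rfl (NE le_rfl hLW cW.norm c))) (hE.1 rfl)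
  have hS := s3.trans lns_le
  have hSH := hS.trans inf_le_left
  have hSX := hS.trans inf_le_right
  have nC : ∀ {A V}, A ≤ H ⊓ C(X) → H ≤ N(V) → A ≤ N(V ⊓ C(X)) := fun a b =>
    norm_inf (a.trans (inf_le_left.trans b)) (norm_C (cent_norm (a.trans inf_le_right)))
  have o2 : ∀ {A}, A ≤ H ⊓ C(X) → ¬ W ⊓ C(X) ≤ C(A) → D ≤ N(⁅W ⊓ C(X), A⁆) → ⁅W ⊓ C(X), D⁆ ≤ ⁅W ⊓ C(X), A⁆ →
      ⁅W ⊓ C(X), A⁆ ≤ E → Out X (H ⊔ X) W E L := fun a b c d e =>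
    (out2 hX hW.abel hm cW.norm l.pi cL e1 (hLH.trans le_sup_left) eW cD hDX (hDH.trans l.nml.norm) d4
      (comm_le_left (nC a hHW)) (fun k => b (comm_eq_bot_iff.1 k)) c d).mono le_rfl e le_rfl
  by_cases c1 : W ⊓ C(X) ≤ C(D)
  swap
  · exact o2 hD c1 norm_comm_right le_rfl ((comm_mono le_rfl d3).trans hE.2.1)
  by_cases c2 : d = t → W ⊓ C(X) ≤ C(S)
  swap
  · obtain ⟨rfl, c4⟩ := Classical.not_imp.1 c2
    exact o2 hS c4 (cent_norm (cent_symm ((comm_le_left (nC hS hHW)).trans c1)))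
      ((comm_eq_bot_iff.2 c1).le.trans bot_le) (hE.2.2 s S s1 s2 s3)
  by_cases c3 : L ⊓ C(X) ≤ C(S)
  · exact (l.ne (nc le_rfl (H23.CE.ce hX l.pi d2 d1 cL cD hDX (hDH.trans l.nml.norm) e1 d4 (le_inf l.phi d5) ht hW htp cW hLW s2
      s1 (cH.sub hSH (cent_norm (cent_symm hSX))) hSX (hSH.trans l.nml.norm) s4 s5 c3 (hDH.trans hHW) (hSH.trans hHW)
      c1 c2))).elim
  have a1 : ⁅L ⊓ C(X), S⁆ ≤ L ⊓ C(X) := comm_le_left (nC hS l.nml.norm)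
  have a2 := a1.trans inf_le_left
  have a3 : L ≤ C(⁅L ⊓ C(X), S⁆) := cent_symm (a1.trans ((cL.cent_le_of_comm_eq e1).trans
    ((l.pi.der_le_phi (l.pi.prime l.ne)).trans l.phi)))
  have a4 : ⁅W, ⁅L ⊓ C(X), S⁆⁆ ≤ W := comm_le_left (a2.trans hLW)
  have a5 := norm_comm hLW (cent_norm a3)
  have a6 := norm_comm cW.norm (cent_norm (cent_symm (a1.trans inf_le_right)))
  refine o1 a4 a5 a6 (fun c => c3 (comm_eq_bot_iff.1 (nc a2 (cent_symm ((cLW.left a2).cent_of_comm_cent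
    (cent_symm (a2.trans (NE a4 a5 a6 c)))))))) ((fix_le hW.abel le_rfl (a2.trans hLW) (a1.trans inf_le_right)
      (cLW.left a2)).trans (hE.2.2 p _ htp.symm (l.pi.of_le a2) ?_))
  exact (comm_mono le_rfl s3).trans (comm_le_right ((inf_le_inf_right _ hLH).trans lns_nml.norm))

end H21.Tu
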