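import Cfsg.Agent.H21.Tu5

/-! Turull's theorem (prime order), part 6: the induction down the Fitting series; `turull`. -/

set_option autoImplicit false

namespace H21.Tu
open Cfsg H18 H19 H5 H1 Subgroup
open scoped commutatorElement

universe u
variable {G : Type*} [Group G] {A H K L W X : Subgroup G} {h m n p t : ℕ}
variable {Q : Type*} [Group Q] {M : Subgroup G} {f : M →* Q}

theorem exists_fac {R : Type*} [Group R] {M' : Subgroup G} (g : M' →* R) (hA : A ≤ M) (hA' : A ≤ M')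
    (h : A ⊓ mker f ≤ mker g) : ∃ φ : mim f A →* R, ∀ U ≤ A, mim φ (mim f U) = mim g U := by
  let φ := (mimHom f A).liftOfSurjective mimHom_surjective ⟨g.comp (inclusion (inf_le_left.trans hA')), fun x hx => by
    rw [mimHom_ker, mem_subgroupOf] at hx
    exact (mfun_of_mem (hA' x.2.1)).symm.trans (mem_mker.1 (h ⟨x.2.1, hx⟩)).2⟩
  have k : ∀ x ∈ A, mfun φ (mfun f x) = mfun g x := fun x hx => by
    rw [mfun_of_mem (mfun_mem_mim hx), mfun_of_mem (hA' hx)]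
    refine Eq.trans (congrArg φ (Subtype.ext ?_))
      (MonoidHom.liftOfRightInverse_comp_apply (mimHom f A) _ _ _ ⟨x, hx, hA hx⟩)
    exact mfun_of_mem (hA hx)
  refine ⟨φ, fun U hU => le_antisymm (fun z hz => ?_) fun z hz => ?_⟩
  · obtain ⟨y, hy, -, rfl⟩ := mem_mim.1 hz
    obtain ⟨x, hx, -, rfl⟩ := mem_mim.1 hy
    rw [k x (hU hx)]; exact mfun_mem_mim hx
  · obtain ⟨x, hx, -, rfl⟩ := mem_mim.1 hz
    rw [← k x (hU hx)]; exact mfun_mem_mim (mfun_mem_mim hx)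

variable [Finite G] [Finite Q]

theorem lift (hK : K ≤ M) (hX : X ≤ M) (c : Cop X K) {H L : Subgroup Q} (l : Lv (mim f X) H L p) (hH : H ≤ mim f K) :
    ∃ H' L', H' ≤ K ∧ X ≤ N(H') ∧ X ≤ N(L') ∧ L' ⊴ H' ∧ PiGrp {p} L' ∧ mim f H' = H ∧ mim f L' = L ∧
      ∀ P ≤ H', PiGrp {p} P → mim f P ≤ L → P ≤ L' := by
  have hp := l.pi.prime l.ne
  have n0 : K ⊓ mpre f L ⊴ K ⊓ mpre f H := ⟨inf_le_inf_left _ (mpre_mono l.nml.le), norm_inf (le_norm inf_le_left)
    (norm_mpre (inf_le_left.trans hK) ((mim_inf_mpre_of_le hH).le.trans l.nml.norm))⟩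
  obtain ⟨L', s, n⟩ := (c.sub inf_le_left (norm_inf c.norm (norm_mpre hX l.nL))).exists_sylow hp
  have e : mim f L' = L := by
    have := s.mim (f := f) (inf_le_left.trans hK)
    rw [mim_inf_mpre_of_le (l.nml.le.trans hH)] at this
    exact (this.eq_of_le this.le le_rfl l.pi).symm
  have l1 : L' ≤ K ⊓ mpre f H ⊓ N(L') := le_inf (s.le.trans n0.le) le_N
  refine ⟨_, L', inf_le_left.trans inf_le_left, norm_inf (norm_inf c.norm (norm_mpre hX l.nH)) (norm_N n), n,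
    ⟨l1, inf_le_right⟩, s.pi, ?_, e, fun P a b d => s.le_of_norm (le_inf (a.trans (inf_le_left.trans inf_le_left))
      ((mim_le_iff (a.trans (inf_le_left.trans (inf_le_left.trans hK)))).1 d)) b (Or.inl (a.trans inf_le_right))⟩
  have := congrArg (mim f) (frattini_arg hp n0 s)
  rw [mim_sup (inf_le_left.trans hK) (inf_le_left.trans (inf_le_left.trans hK)), mim_inf_mpre_of_le hH,
    mim_inf_mpre_of_le (l.nml.le.trans hH)] at this
  exact (sup_eq_right.2 (e.ge.trans (mim_mono l1))).symm.trans this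

theorem newW (nK : X ≤ N(K)) (hH : H ≤ K) (nH : X ≤ N(H)) (nL : X ≤ N(L)) (hL : L ⊴ H) (hp : PiGrp {p} L)
    (h1 : L ⫽ F(K) ≤ F(K ⫽ F(K))) (h2 : ¬ L ≤ F(K)) :
    ∃ t W, t ≠ p ∧ W ≤ F(K) ∧ MinAct t (H ⊔ X) L W ∧ Lv X (H ⊔ W) W t := by
  obtain ⟨t, -, htp, c⟩ := exists_pcore_not_cent (hL.le.trans hH) hp h1 h2
  obtain ⟨W, hW, a⟩ := exists_minAct pcore_pi (sup_le (hH.trans pcore_nml.norm) (norm_pcore nK)) (hL.le.trans le_sup_left)
    (sup_le hL.norm nL) (hp.p'_of_ne htp.symm) c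
  have n := le_sup_right.trans a.norm
  exact ⟨t, W, htp, hW.trans pcore_le_fit, a, ⟨le_sup_right, sup_le (le_sup_left.trans a.norm) le_N⟩, norm_sup nH n, n,
    a.ne_bot, a.pi, fun U b c d => a.le_phi b (sup_le (le_sup_left.trans c) d), a.phi_cent⟩

def St (X K : Subgroup G) (h : ℕ) : Prop :=
  ∃ H L p, H ≤ K ∧ L ≤ F(K) ∧ Lv X H L p ∧ (SA X H L p h ∨ ∃ m, h ≤ m + 1 ∧ SBD X H L p m)

theorem stepA (c : Cop X K) {H L : Subgroup (Coset F(K))} (hH : H ≤ K ⫽ F(K)) (hL : L ≤ F(K ⫽ F(K)))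
    (l : Lv (X ⫽ F(K)) H L p) (s : SA (X ⫽ F(K)) H L p h) : St X K (h + 1) := by
  obtain ⟨s1, s2, s3⟩ := s
  have nX : X ≤ N(F(K)) := norm_fit c.norm
  have nK : K ≤ N(F(K)) := fit_nml.norm
  obtain ⟨H, L0, a1, a2, -, a4, a5, rfl, a7, a8⟩ := lift (inf_le_left.trans nK) nX
    (c.sub inf_le_left (norm_inf c.norm (norm_C le_N))) l ((le_inf hH s1).trans (c.quo_cent nX nK).ge)
  have hHK := a1.trans inf_le_left
  have hHX := a1.trans inf_le_right
  have nH := hHK.trans nK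
  have e : (L0 ⊓ lns h H) ⫽ F(K) = L := by
    rw [← mim_lns nH] at s2
    obtain ⟨P, b1, b2, b3⟩ := exists_pGrp_lift (l.pi.prime l.ne) (lns_le.trans nH) s2 l.pi
    exact le_antisymm ((mim_mono inf_le_left).trans a7.le)
      (b3.ge.trans (mim_mono (le_inf (a8 P (b1.trans lns_le) b2.pi b3.le) b1)))
  set D := L0 ⊓ lns h H
  have hD : D ⊴ H := ⟨inf_le_left.trans a4.le, norm_inf a4.norm lns_nml.norm⟩
  have pD : PiGrp {p} D := a5.inf_left
  obtain ⟨t, W, htp, hW, a, lv⟩ := newW c.norm hHK a2 (cent_norm (cent_symm (hD.le.trans hHX))) hD pD (e.le.trans hL)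
    fun k => l.ne (e ▸ quo_eq_bot k)
  refine ⟨H ⊔ W, W, t, sup_le hHK (hW.trans fit_le), hW, lv, ?_⟩
  by_cases e1 : ⁅W, X⁆ = W
  · have k : ∀ n, lns n H ≤ lns n ((H ⊔ W) ⊓ C(X)) := fun n => lns_mono (le_inf le_sup_left hHX)
    refine Or.inr ⟨h, le_rfl, Or.inl ⟨e1, Or.inr ⟨p, D, htp.symm, pD, inf_le_right.trans (k _), a.comm_eq,
      a.phi_le_cent, s3.imp_right ?_⟩⟩⟩
    rintro ⟨s, S, b1, b2, b3, b4⟩
    rw [← mim_lns nH] at b3
    obtain ⟨S, d1, d2, rfl⟩ := exists_pGrp_lift (b2.prime (by rintro rfl; exact l.ne (by simpa using b4.symm)))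
      (lns_le.trans nH) b3 b2
    have d3 := d1.trans lns_le
    have d4 : ⁅D, S⁆ ≤ D := comm_le_left (d3.trans hD.norm)
    refine ⟨s, S, b1, d2.pi, d1.trans (k _), d3.trans hD.norm, ?_⟩
    rw [← e, ← mim_comm (hD.le.trans nH) (d3.trans nH)] at b4
    have := le_inf le_rfl ((quo_le_quo_iff (hD.le.trans nH) (d4.trans (hD.le.trans nH))).1 b4.ge)
    rw [Nrm2.modular_left (Or.inl (d4.trans (hD.le.trans nH))) d4] at this
    refine this.trans (sup_le_sup_left (le_inf inf_le_left ?_) _)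
    exact cent_mono (cent_of_nml_coprime (pcore_nml (H := K)) pcore_nml (pcore_pi.coprime (pcore_pi.p'_of_ne htp)))
      (le_pcore_of_le_fit inf_le_right pD.inf_left) (le_pcore_of_le_fit hW a.pi)
  · have x : X ≤ C(W) := cent_of_comm_le_phi lv.nL (c.sub (hW.trans fit_le) lv.nL).cop (a.le_phi
      (lt_of_le_of_ne (comm_le_left lv.nL) e1) (norm_comm a.norm (sup_le (cent_norm hHX) le_N)))
    have k : D ≤ lns h (H ⊔ W) := inf_le_right.trans (lns_mono le_sup_left)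
    exact Or.inl ⟨sup_le hHX (cent_symm x), le_nres_of_comm (a.comm_eq.ge.trans ((comm_mono le_rfl k).trans
      (comm_le_right (le_sup_right.trans lns_nml.norm)))) k a.comm_eq.ge, Or.inr ⟨p, D, htp.symm, pD, k, a.comm_eq⟩⟩

theorem stepB (hX : (Nat.card X).Prime) (c : Cop X K) {H L : Subgroup (Coset F(K))} (hH : H ≤ K ⫽ F(K))
    (hL : L ≤ F(K ⫽ F(K))) (l : Lv (X ⫽ F(K)) H L p) (s : SBD (X ⫽ F(K)) H L p m) :
    ∃ H L p, H ≤ K ∧ L ≤ F(K) ∧ Lv X H L p ∧ SD X H L p m := by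
  have nX : X ≤ N(F(K)) := norm_fit c.norm
  have nK : K ≤ N(F(K)) := fit_nml.norm
  obtain ⟨H, L, a1, a2, a3, a4, a5, rfl, rfl, -⟩ := lift nK nX c l hH
  obtain ⟨t, W, htp, hW, a, lv⟩ := newW c.norm a1 a2 a3 a4 a5 hL fun k => l.ne (quo_eq_bot k)
  have hWK := hW.trans fit_le
  have cH := c.sub a1 a2
  have cW := c.sub hWK lv.nL
  have cL := cH.sub a4.le a3
  refine ⟨H ⊔ W, W, t, sup_le a1 hWK, hW, lv, p, ⁅L, X⁆, htp.symm, a5.of_le (comm_le_left a3),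
    (comm_le_left a3).trans (a4.le.trans le_sup_left), norm_comm_right, cL.comm_comm,
    a.phi_le_cent.trans (C_anti (comm_le_left a3)), ?_⟩
  have nΦ := norm_phi a.norm
  have nH : H ≤ N(Φ(W)) := le_sup_left.trans nΦ
  have nW : W ≤ N(Φ(W)) := phi_nml.norm
  set Y := Φ(W) ⊔ cm H W Φ(W) with hY
  have y1 : ⁅Y, W⁆ ≤ Φ(W) := comm_comm.le.trans (comm_sup_le' (comm_le_right nW) (comm_cm_le' nH nW) le_N
    (cm_le.trans nH))
  have y2 : H ⊔ X ≤ N(Y) := norm_sup nΦ (norm_cm (sup_le le_N a2) a.norm nΦ)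
  have y3 : W ≤ N(Y) := norm_iff_comm_le'.2 (y1.trans le_sup_left)
  have yH := le_sup_left.trans y2
  have yX := le_sup_right.trans y2
  have yL := a4.le.trans yH
  have y4 : W ⊓ Y ≤ Φ(W) := a.le_phi (lt_of_le_of_ne inf_le_left fun k => a.ne_bot (eq_bot_iff.2 ((le_inf
    (a.comm_eq.ge.trans (comm_le_right ((k.ge.trans inf_le_right).trans (sup_le (cent_norm a.phi_le_cent)
      (cm_le.trans a4.norm))))) le_rfl).trans a.cop.inf_eq_bot.le))) (norm_inf a.norm y2)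
  have y5 : ¬ L ≤ Y := fun k => (phi_lt a.ne_bot).not_ge (a.comm_eq.ge.trans (comm_comm.le.trans
    ((comm_mono k le_rfl).trans y1)))
  have y6 : Y ≤ K := sup_le (phi_le.trans hWK) (cm_le.trans a1)
  have y7 : (H ⊔ X) ⊓ mker (coset F(K)) ≤ mker (coset Y) := by
    rw [mker_coset, mker_coset]
    have k : (H ⊔ X) ⊓ F(K) ≤ H := by
      refine (inf_le_inf_left _ fit_le).trans ?_
      rw [Nrm2.modular (Or.inr a2) a1, c.inf_eq_bot, sup_bot_eq]
    have n : H ⊔ X ≤ N((H ⊔ X) ⊓ F(K)) := norm_inf le_N (sup_le (a1.trans nK) nX)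
    exact (le_cm nH nW k (comm_comm.le.trans (a.le_phi (fit_nil.comm_lt hW inf_le_right (inf_le_left.trans a.norm)
      a.ne_bot) (norm_comm a.norm n)))).trans le_sup_right
  obtain ⟨φ, hφ⟩ := exists_fac (coset Y) (sup_le (a1.trans nK) nX) y2 y7
  have hLΓ : L ≤ H ⊔ X := a4.le.trans le_sup_left
  have l' := l.mim (f := φ) (mim_mono le_sup_left) (mim_mono le_sup_right) fun k => y5 ((quo_eq_bot_iff yL).1
    ((hφ L hLΓ).symm.trans (mim_eq_bot_of_le k)))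
  have s' := s.mim (f := φ) l (mim_mono le_sup_left) (mim_mono le_sup_right)
  rw [hφ _ le_sup_right, hφ _ le_sup_left, hφ _ hLΓ] at l' s'
  have el : Elem t (W ⫽ Y) := (a.pi.mim.phi_eq_bot_iff a.prime).1
    ((a.pi.mim_phi a.prime y3).symm.trans (quo_eq_bot le_sup_left))
  have mn : MinNorm (W ⫽ Y) (H ⫽ Y ⊔ X ⫽ Y) := by
    rw [← mim_sup yH yX]
    refine ⟨fun k => (phi_lt a.ne_bot).not_ge ((le_inf le_rfl ((quo_eq_bot_iff y3).1 k)).trans y4), mim_norm a.norm,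
      fun U b1 b2 b3 => ?_⟩
    rcases a.irr (le_inf phi_le (le_sup_left.trans le_qpre)) inf_le_left (norm_inf a.norm (norm_mpre y2 b3)) with k | k
    · exact (b2 ((mim_inf_mpre_of_le b1).symm.trans (quo_eq_bot (k.le.trans le_sup_left)))).elim
    · rw [← mim_inf_mpre_of_le b1, k]
  have fa : L ⫽ Y ⊓ C(W ⫽ Y) = ⊥ := by
    rw [← mim_inf_mpre, quo_eq_bot_iff (inf_le_left.trans yL)]
    exact (le_cm nH nW (inf_le_left.trans a4.le) ((le_inf (comm_le_right (inf_le_left.trans a.cop.norm))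
      ((comm_le_iff_quo (inf_le_left.trans yL) y3).2 ((mim_mono inf_le_right).trans mim_mpre_le))).trans y4)).trans
      le_sup_right
  have o := stepF (by rwa [card_quo_of_disj yX (eq_bot_iff.2 ((inf_le_inf_left _ y6).trans c.inf_eq_bot.le))]) l' s'
    a.prime el htp mn cH.mim cW.mim fa ((big_self a.pi (le_sup_left.trans a.norm)).mim cH cW yH yX y3)
  rw [← mim_sup yH yX, ← mim_comm yL yX] at o
  exact (o.of_mim a.pi a.prime y3 yX ((comm_le_left a3).trans yL) (by rwa [mker_coset])).mono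
    (sup_le_sup_right le_sup_left _) le_rfl le_rfl

theorem tower (h : ℕ) : ∀ {G : Type u} [Group G] [Finite G] {X K : Subgroup G}, (Nat.card X).Prime → Cop X K → Solv K →
    lns h K ≠ ⊥ → St X K h := by
  induction h with
  | zero =>
    intro G _ _ X K hX c hs h0
    obtain ⟨q, -, hq⟩ := hs.exists_pcore_ne_bot h0
    obtain ⟨L, hL, mn⟩ := exists_minNorm_le hq (norm_pcore c.norm)
    obtain ⟨p, hp, el⟩ := mn.elem (hs.of_le (hL.trans pcore_le))
    refine ⟨L, L, p, hL.trans pcore_le, hL.trans pcore_le_fit, ⟨Nml.rfl, mn.norm, mn.norm, mn.ne_bot, el.pi hp,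
      fun U a _ b => ?_, phi_le.trans el.abel⟩, ?_⟩
    · by_contra k
      exact a.ne (mn.min U a.le (fun e => k (e.le.trans bot_le)) b)
    · by_cases k : ⁅L, X⁆ = ⊥
      · exact Or.inl ⟨comm_eq_bot_iff.1 k, le_rfl, Or.inl rfl⟩
      · exact Or.inr ⟨0, by omega, Or.inl ⟨mn.min _ (comm_le_left mn.norm) k norm_comm_right, Or.inl ⟨rfl, el.abel⟩⟩⟩
  | succ h ih =>
    intro G _ _ X K hX c hs h0
    obtain ⟨H, L, p, a1, a2, l, s | ⟨m, hm, s⟩⟩ := ih (X := X ⫽ F(K)) (K := K ⫽ F(K)) (by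
      rwa [card_quo_of_disj (norm_fit c.norm) (eq_bot_iff.2 ((inf_le_inf_left _ fit_le).trans c.inf_eq_bot.le))])
      c.mim hs.mim fun k => h0 (lns_succ_eq_bot_iff'.2 k)
    · exact stepA c a1 a2 l s
    · obtain ⟨H, L, p, b1, b2, b3, b4⟩ := stepB hX c a1 a2 l s
      exact ⟨H, L, p, b1, b2, b3, Or.inr ⟨m + 1, by omega, Or.inr ⟨m, rfl, b4⟩⟩⟩

theorem turull (hX : (Nat.card X).Prime) (c : Cop X K) (hs : Solv K) (h : lns n (K ⊓ C(X)) = ⊥) : lns (n + 2) K = ⊥ := by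
  by_contra h0
  obtain ⟨H, L, p, a1, -, l, s⟩ := tower (n + 2) hX c hs h0
  have k : ∀ {m A}, n ≤ m → A ≤ lns m (H ⊓ C(X)) → A = ⊥ := fun a b =>
    eq_bot_iff.2 (b.trans ((lns_anti a).trans ((lns_mono (inf_le_inf_right _ a1)).trans h.le)))
  rcases s with ⟨s1, s2, -⟩ | ⟨m, hm, ⟨-, ⟨rfl, -⟩ | ⟨d, D, -, -, d3, d4, -⟩⟩ | ⟨j, rfl, q, B, -, -, -, -, -, -, o⟩⟩
  · exact l.ne (k (Nat.le_add_right n 2) (s2.trans (lns_mono (le_inf le_rfl s1))))
  · omega
  · rw [k (by omega) d3] at d4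
    exact l.ne (by simpa using d4.symm)
  · obtain ⟨g, -, g1, -⟩ := o _ le_rfl (phi_lt l.ne)
    exact g1 ((k (m := j) (by omega) inf_le_right).le.trans bot_le)

end H21.Tu
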